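import Groth.Agent.EtpbcB.Acyc
import Groth.Agent.Sga4B.RDComp

/-!
# Right derived functors from acyclic resolutions indexed by `ℕ`

`nonempty_iso`: for a complex `K` (indexed by `ℕ`) exact in positive degrees, with `G`-acyclic terms, one
has `R^i G (Z^0 K) ≅ H^i (G K)`.
-/

set_option autoImplicit false
universe v u v' u'

open CategoryTheory CategoryTheory.Limits

namespace Groth.Agent.Desc.AcycRes

open Groth.Agent.EtpbcB.Acyc Groth.Agent.Sga4B.RDComp

variable {C : Type u} [Category.{v} C] [Abelian C]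
variable {D : Type u'} [Category.{v'} D] [Abelian D]

section Map

variable (G : C ⥤ D) [G.Additive] [PreservesFiniteLimits G] (K : CochainComplex C ℕ)

/-- A left exact functor commutes with cycles. -/
theorem nonempty_cycles_iso (q : ℕ) : ∃ e : ((G.mapHomologicalComplex (.up ℕ)).obj K).cycles q ≅
    G.obj (K.cycles q), e.hom ≫ G.map (K.iCycles q) =
      ((G.mapHomologicalComplex (.up ℕ)).obj K).iCycles q := by
  let K' := (G.mapHomologicalComplex (.up ℕ)).obj K
  have hi : IsLimit (KernelFork.ofι (f := K'.d q (q + 1)) (G.map (K.iCycles q)) (by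
      change G.map (K.iCycles q) ≫ G.map (K.d q (q + 1)) = 0
      rw [← G.map_comp, K.iCycles_d, G.map_zero])) :=
    KernelFork.mapIsLimit _ (K.cyclesIsKernel q (q + 1) (by simp)) G
  have hi' := K'.cyclesIsKernel q (q + 1) (by simp)
  refine ⟨hi'.conePointUniqueUpToIso hi, ?_⟩
  exact hi'.conePointUniqueUpToIso_hom_comp hi WalkingParallelPair.zero

/-- Homology in degree zero. -/
theorem nonempty_homology_zero_iso :
    Nonempty (G.obj (K.cycles 0) ≅ ((G.mapHomologicalComplex (.up ℕ)).obj K).homology 0) := by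
  obtain ⟨e, -⟩ := nonempty_cycles_iso G K 0
  let K' := (G.mapHomologicalComplex (.up ℕ)).obj K
  have : IsIso (K'.homologyπ 0) := inferInstance
  exact ⟨e.symm ≪≫ asIso (K'.homologyπ 0)⟩

/-- Homology in positive degrees as a cokernel. -/
theorem nonempty_homology_succ_iso (q : ℕ) :
    Nonempty (cokernel (G.map (K.toCycles q (q + 1))) ≅
      ((G.mapHomologicalComplex (.up ℕ)).obj K).homology (q + 1)) := by
  obtain ⟨e, he⟩ := nonempty_cycles_iso G K (q + 1)
  let K' := (G.mapHomologicalComplex (.up ℕ)).obj K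
  have hc := K'.homologyIsCokernel q (q + 1) (by simp)
  have h1 : K'.toCycles q (q + 1) ≫ e.hom = G.map (K.toCycles q (q + 1)) := by
    refine (cancel_mono (G.map (K.iCycles (q + 1)))).1 ?_
    refine (Category.assoc _ _ _).trans ?_
    refine (congrArg (fun t => K'.toCycles q (q + 1) ≫ t) he).trans ?_
    refine (K'.toCycles_i q (q + 1)).trans ?_
    refine Eq.trans ?_ (G.map_comp _ _)
    rw [K.toCycles_i]
    rfl
  let e1 : cokernel (K'.toCycles q (q + 1)) ≅ cokernel (G.map (K.toCycles q (q + 1))) :=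
    cokernel.mapIso _ _ (Iso.refl _) e (by rw [h1]; exact (Category.id_comp _).symm)
  exact ⟨e1.symm ≪≫ (colimit.isColimit _).coconePointUniqueUpToIso hc⟩

end Map

variable [HasInjectiveResolutions C] (G : C ⥤ D) [G.Additive] [PreservesFiniteLimits G]
  (K : CochainComplex C ℕ)

omit [PreservesFiniteLimits G] in
/-- Dimension shifting along the cycles of a complex of acyclic objects. -/
theorem nonempty_shift (hK : ∀ i, Acyclic G (K.X i)) (hex : ∀ i, K.ExactAt (i + 1)) (i j : ℕ) :
    Nonempty ((G.rightDerived (j + 1)).obj (K.cycles i) ≅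
      (G.rightDerived (j + 1 + i)).obj (K.cycles 0)) := by
  induction i generalizing j with
  | zero => exact ⟨Iso.refl _⟩
  | succ i ih =>
    have hS := sc_shortExact K i (hex i)
    have h2 : Acyclic G (sc K i).X₂ := hK i
    obtain ⟨e⟩ := ih (j + 1)
    refine ⟨(shiftIso hS h2 j).symm ≪≫ e ≪≫ eqToIso ?_⟩
    have : j + 1 + 1 + i = j + 1 + (i + 1) := by omega
    rw [this]

/-- The right derived functors of `G` from a resolution by acyclic objects. -/
theorem nonempty_iso (hK : ∀ i, Acyclic G (K.X i)) (hex : ∀ i, K.ExactAt (i + 1)) (i : ℕ) :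
    Nonempty ((G.rightDerived i).obj (K.cycles 0) ≅
      ((G.mapHomologicalComplex (.up ℕ)).obj K).homology i) := by
  cases i with
  | zero =>
    obtain ⟨e⟩ := nonempty_homology_zero_iso G K
    exact ⟨G.rightDerivedZeroIsoSelf.app _ ≪≫ e⟩
  | succ i =>
    obtain ⟨e⟩ := nonempty_homology_succ_iso G K i
    obtain ⟨e'⟩ := nonempty_shift G K hK hex i 0
    have hS := sc_shortExact K i (hex i)
    have h2 : Acyclic G (sc K i).X₂ := hK i
    have h3 := oneIso hS h2
    refine ⟨eqToIso ?_ ≪≫ e'.symm ≪≫ h3 ≪≫ e⟩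
    have : i + 1 = 0 + 1 + i := by omega
    rw [this]

end Groth.Agent.Desc.AcycRes
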