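import Mathlib.AlgebraicGeometry.Morphisms.FlatDescent
import Mathlib.AlgebraicGeometry.QuasiAffine
import Groth.Prelude.Def_Mor2

/-!
# Flat base change for `X.toSpecΓ`, descent of quasi-compactness and quasi-affineness

* `quasiCompact_descendsAlong_surjective_qc`: quasi-compactness descends along surjective
  (flat) quasi-compact base change.
* `isPullback_toSpecΓ_of_flat`: for `X` qcqs over `Spec R` and `Spec S ⟶ Spec R` flat,
  the square `X' ⟶ X`, `X' ⟶ Spec Γ(X')`, `X ⟶ Spec Γ(X)` is cartesian.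
-/

set_option autoImplicit false
set_option backward.isDefEq.respectTransparency false
set_option backward.isDefEq.respectTransparency.types false
open CategoryTheory CategoryTheory.Limits AlgebraicGeometry Opposite MorphismProperty
universe u

namespace Groth.Agent.Desc.QAffDesc

/-- If `X' ⟶ X` is surjective and `X'` is quasi-compact then `X` is quasi-compact. -/
theorem compactSpace_of_surjective {X Y : Scheme.{u}} (f : X ⟶ Y) [Surjective f]
    [CompactSpace X] : CompactSpace Y := by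
  rw [← isCompact_univ_iff, ← f.surjective.range_eq]
  exact isCompact_range f.continuous

/-- Quasi-compactness satisfies fpqc descent. -/
theorem quasiCompact_descendsAlong :
    DescendsAlong @QuasiCompact (@Surjective ⊓ @Flat ⊓ @QuasiCompact :
      MorphismProperty Scheme.{u}) := by
  refine IsZariskiLocalAtTarget.descendsAlong_inf_quasiCompact _ _ ?_ ?_
  · rw [inf_comm]
    exact inf_le_inf le_rfl (IsLocalIso.le_of_isZariskiLocalAtSource _)
  refine fun {R} S Y φ g h hfst ↦ ?_
  have := h.1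
  rw [quasiCompact_iff_compactSpace] at hfst ⊢
  exact compactSpace_of_surjective (pullback.snd (Spec.map φ) g)

/-- Quasi-separatedness satisfies fpqc descent. -/
theorem quasiSeparated_descendsAlong :
    DescendsAlong @QuasiSeparated (@Surjective ⊓ @Flat ⊓ @QuasiCompact :
      MorphismProperty Scheme.{u}) := by
  have := quasiCompact_descendsAlong.{u}
  rw [quasiSeparated_eq_diagonal_is_quasiCompact]
  infer_instance

/-- Flat base change of global sections: for `X` qcqs over an affine `S` and a flat morphism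
`f : T ⟶ S` with `T` affine, `Γ(X ×_S T) = Γ(X) ⊗ Γ(T)`. -/
theorem isPushout_appTop_of_flat {X Y S T : Scheme.{u}} {f : T ⟶ S} {g : Y ⟶ X} {iX : X ⟶ S}
    {iY : Y ⟶ T} (H : IsPullback g iY iX f) [IsAffine S] [IsAffine T] [Flat f]
    [CompactSpace X] [QuasiSeparatedSpace X] :
    IsPushout iX.appTop f.appTop g.appTop iY.appTop := by
  have h := isIso_pushoutSection_of_isQuasiSeparated_of_flat_right H
    (US := ⊤) (UT := ⊤) (UX := ⊤) (UY := ⊤) le_top le_top (by simp)
    (isAffineOpen_top S) (isAffineOpen_top T) isCompact_univ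
    (isQuasiSeparated_univ_iff.mpr inferInstance)
  replace h := (isIso_pushoutSection_iff _ _ _ _).mp h
  have e : ∀ {A B : Scheme.{u}} (k : A ⟶ B), k.appLE ⊤ ⊤ le_top = k.appTop := fun k ↦ by
    simp [Scheme.Hom.appLE, Scheme.Hom.appTop]
  rw [e, e, e, e] at h
  exact h

/-- Flat base change for the affinization morphism. -/
theorem isPullback_toSpecΓ_of_flat {X Y S T : Scheme.{u}} {f : T ⟶ S} {g : Y ⟶ X} {iX : X ⟶ S}
    {iY : Y ⟶ T} (H : IsPullback g iY iX f) [IsAffine S] [IsAffine T] [Flat f]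
    [CompactSpace X] [QuasiSeparatedSpace X] :
    IsPullback g Y.toSpecΓ X.toSpecΓ (Spec.map g.appTop) := by
  have h1 : IsPullback (Spec.map g.appTop) (Spec.map iY.appTop) (Spec.map iX.appTop)
      (Spec.map f.appTop) := isPullback_SpecMap_of_isPushout _ _ _ _ (isPushout_appTop_of_flat H)
  refine IsPullback.of_bot (h₂₁ := Spec.map g.appTop) ?_ (Scheme.toSpecΓ_naturality g) h1
  refine IsPullback.of_iso H (Iso.refl _) (Iso.refl _) (asIso T.toSpecΓ) (asIso S.toSpecΓ)
    (by simp) (by simp [Scheme.toSpecΓ_naturality]) (by simp [Scheme.toSpecΓ_naturality])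
    (by simp [Scheme.toSpecΓ_naturality])

/-- Descent along a finite jointly surjective family of flat morphisms with affine sources and
affine target. -/
theorem of_finite_flat_family {P : MorphismProperty Scheme.{u}} [IsZariskiLocalAtTarget P]
    [P.DescendsAlong (@Surjective ⊓ @Flat ⊓ @QuasiCompact)] {ι : Type u} [Finite ι] {X Y : Scheme.{u}}
    [IsAffine Y] (j : X ⟶ Y) (V : ι → Scheme.{u}) [∀ i, IsAffine (V i)] (p : ∀ i, V i ⟶ Y)
    [∀ i, Flat (p i)] (hp : ∀ y : Y, ∃ i, y ∈ Set.range (p i))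
    {X' : ι → Scheme.{u}} {a : ∀ i, X' i ⟶ X} {b : ∀ i, X' i ⟶ V i}
    (H : ∀ i, IsPullback (a i) (b i) j (p i)) (hb : ∀ i, P (b i)) : P j := by
  let q : (∐ V) ⟶ Y := Sigma.desc p
  have hq1 : Surjective q := ⟨fun y ↦ by
    obtain ⟨i, x, hx⟩ := hp y
    refine ⟨Sigma.ι V i x, ?_⟩
    rw [← Scheme.Hom.comp_apply, Sigma.ι_desc]
    exact hx⟩
  have hq2 : Flat q := by
    rw [IsZariskiLocalAtSource.iff_of_openCover (P := @Flat) (sigmaOpenCover V)]
    intro i
    have : (sigmaOpenCover V).f i ≫ q = p i := Sigma.ι_desc _ _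
    rw [this]
    exact inferInstanceAs (Flat (p i))
  have hq3 : QuasiCompact q := inferInstance
  refine MorphismProperty.of_pullback_snd_of_descendsAlong (P := P)
    (Q := @Surjective ⊓ @Flat ⊓ @QuasiCompact) (g := q) ⟨⟨hq1, hq2⟩, hq3⟩ ?_
  rw [IsZariskiLocalAtTarget.iff_of_openCover (P := P) (sigmaOpenCover V)]
  intro i
  have h1 : IsPullback (pullback.fst (pullback.snd j q) ((sigmaOpenCover V).f i) ≫
      pullback.fst j q) (pullback.snd (pullback.snd j q) ((sigmaOpenCover V).f i)) j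
      ((sigmaOpenCover V).f i ≫ q) :=
    (IsPullback.of_hasPullback _ _).paste_horiz (IsPullback.of_hasPullback j q)
  have : (sigmaOpenCover V).f i ≫ q = p i := Sigma.ι_desc _ _
  rw [this] at h1
  have h2 : (h1.isoIsPullback _ _ (H i)).hom ≫ b i =
      (sigmaOpenCover V).pullbackHom (pullback.snd j q) i := h1.isoIsPullback_hom_snd _ _ (H i)
  rw [← h2, P.cancel_left_of_respectsIso]
  exact hb i

/-- Quasi-affineness over an affine base descends along finite jointly surjective families of flat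
morphisms from affine schemes. -/
theorem isQuasiAffine_of_finite_flat_family {ι : Type u} [Finite ι] {X Y : Scheme.{u}}
    [IsAffine Y] [CompactSpace X] [QuasiSeparatedSpace X] (f : X ⟶ Y) (V : ι → Scheme.{u})
    [∀ i, IsAffine (V i)] (p : ∀ i, V i ⟶ Y)
    [∀ i, Flat (p i)] (hp : ∀ y : Y, ∃ i, y ∈ Set.range (p i))
    {X' : ι → Scheme.{u}} {a : ∀ i, X' i ⟶ X} {b : ∀ i, X' i ⟶ V i}
    (H : ∀ i, IsPullback (a i) (b i) f (p i)) (hb : ∀ i, (X' i).IsQuasiAffine) :
    X.IsQuasiAffine := by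
  suffices IsOpenImmersion X.toSpecΓ by constructor
  have h1 := fun i ↦ isPullback_toSpecΓ_of_flat (H i)
  have h2 : ∀ i, IsPullback (Spec.map (a i).appTop) (Spec.map (b i).appTop) (Spec.map f.appTop)
      (Spec.map (p i).appTop) :=
    fun i ↦ isPullback_SpecMap_of_isPushout _ _ _ _ (isPushout_appTop_of_flat (H i))
  have h3 : ∀ i, Flat (Spec.map (p i).appTop) := fun i ↦ by
    rw [HasRingHomProperty.Spec_iff (P := @Flat)]
    exact (p i).flat_appTop
  have h4 : ∀ i, Flat (Spec.map (a i).appTop) := fun i ↦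
    MorphismProperty.of_isPullback (P := @Flat) (h2 i).flip (h3 i)
  refine of_finite_flat_family (P := @IsOpenImmersion) X.toSpecΓ (fun i ↦ Spec Γ(X' i, ⊤))
    (fun i ↦ Spec.map (a i).appTop) ?_ h1 (fun i ↦ inferInstance)
  intro z
  obtain ⟨y', hy'⟩ := Y.toSpecΓ.surjective (Spec.map f.appTop z)
  obtain ⟨i, x, rfl⟩ := hp y'
  refine ⟨i, ?_⟩
  have h5 : Spec.map f.appTop z = Spec.map (p i).appTop ((V i).toSpecΓ x) := by
    rw [← hy', ← Scheme.Hom.comp_apply, ← Scheme.Hom.comp_apply, Scheme.toSpecΓ_naturality]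
  obtain ⟨w, hw, -⟩ := Scheme.exists_preimage_of_isPullback (h2 i) _ _ h5
  exact ⟨w, hw⟩

theorem quasiSeparated_of_isQuasiAffine {X Y : Scheme.{u}} {f : X ⟶ Y} (h : Mor2.IsQuasiAffine f) :
    QuasiSeparated f := by
  rw [HasAffineProperty.eq_targetAffineLocally (P := @QuasiSeparated)]
  intro U
  have := h.2 U.1 U.2
  have : ((f ⁻¹ᵁ U.1 : X.Opens) : Scheme.{u}).IsSeparated := inferInstance
  show QuasiSeparatedSpace _
  infer_instance

/-- Quasi-affineness satisfies fpqc descent. -/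
theorem isQuasiAffine_descendsAlong :
    MorphismProperty.DescendsAlong (fun _ _ f => Mor2.IsQuasiAffine f : MorphismProperty Scheme.{u})
      (@Surjective ⊓ @Flat ⊓ @QuasiCompact : MorphismProperty Scheme.{u}) := by
  constructor
  intro A X Y Z fst snd f g H hf h
  have := h.1
  have := quasiSeparated_of_isQuasiAffine h
  have := quasiCompact_descendsAlong.{u}
  have := quasiSeparated_descendsAlong.{u}
  have hqc : QuasiCompact g := MorphismProperty.of_isPullback_of_descendsAlong
    (P := @QuasiCompact) H hf inferInstance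
  have hqs : QuasiSeparated g := MorphismProperty.of_isPullback_of_descendsAlong
    (P := @QuasiSeparated) H hf inferInstance
  refine ⟨hqc, fun V hV ↦ ?_⟩
  have := hf.1.1
  have := hf.1.2
  have := hf.2
  obtain ⟨I, hI, e⟩ := isCompact_iff_finite_and_eq_biUnion_affineOpens.mp
    (f.isCompact_preimage hV.isCompact)
  have hIV (i : I) : i.1.1 ≤ f ⁻¹ᵁ V := by
    rw [e]
    exact le_iSup₂_of_le i.1 i.2 le_rfl
  have := hI.to_subtype
  have hVa : IsAffine V := hV
  have hIa : ∀ i : I, IsAffine (i.1.1 : X.Opens) := fun i ↦ i.1.2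
  have h1 : CompactSpace (g ⁻¹ᵁ V : Y.Opens) :=
    isCompact_iff_compactSpace.mp (g.isCompact_preimage hV.isCompact)
  have h2 : QuasiSeparatedSpace (g ⁻¹ᵁ V : Y.Opens) :=
    isQuasiSeparated_iff_quasiSeparatedSpace _ (g ⁻¹ᵁ V).2 |>.mp
      (g.isQuasiSeparated_preimage hV.isQuasiSeparated)
  have h3 : ∀ i : I, fst ⁻¹ᵁ i.1.1 = snd ⁻¹ᵁ (g ⁻¹ᵁ V) ⊓ fst ⁻¹ᵁ i.1.1 := fun i ↦ by
    refine (inf_eq_right.mpr ?_).symm
    rw [← Scheme.Hom.comp_preimage, ← H.w, Scheme.Hom.comp_preimage]
    exact Scheme.Hom.preimage_mono _ (hIV i)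
  have h4 : ∀ i : I, Flat (f.resLE V i.1.1 (hIV i)) := fun i ↦ by
    delta Scheme.Hom.resLE
    infer_instance
  refine isQuasiAffine_of_finite_flat_family (g.resLE V (g ⁻¹ᵁ V) le_rfl)
    (fun i : I ↦ (i.1.1 : Scheme.{u})) (fun i ↦ f.resLE V i.1.1 (hIV i)) ?_
    (fun i ↦ Scheme.Hom.isPullback_resLE H.flip (hIV i) le_rfl (h3 i)) (fun i ↦ h.2 _ i.1.2)
  intro y
  obtain ⟨x, hx⟩ := f.surjective y.1
  have hx' : x ∈ f ⁻¹ᵁ V := by
    show f x ∈ V
    rw [hx]
    exact y.2
  rw [e] at hx'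
  simp only [TopologicalSpace.Opens.mem_iSup] at hx'
  obtain ⟨i, hi, hxi⟩ := hx'
  refine ⟨⟨i, hi⟩, ⟨x, hxi⟩, ?_⟩
  apply Subtype.ext
  rw [Scheme.Hom.coe_resLE_apply]
  exact hx

end Groth.Agent.Desc.QAffDesc
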