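import Groth.Prelude.Def_LCI2
import Groth.Agent.Desc.QAffDesc
import Groth.Agent.Flat2H.FamDict
import Groth.Agent.Fdesc.LocGenAmple
import Mathlib.RingTheory.Flat.IsBaseChange
import Mathlib.RingTheory.TensorProduct.IsBaseChangePi

/-!
# Descent of ampleness

* `fam_induction`: flat base change of global sections of line bundles, in terms of families.
* `isQuasiAffine_of_isFam`: for `L` ample and `s` a section of a power of `L`, the locus `X_s` is
  quasi-affine.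
* `isAmple_of_finite_flat_family`: ampleness descends along finite flat families.
-/

set_option autoImplicit false
open CategoryTheory CategoryTheory.Limits AlgebraicGeometry Opposite TopologicalSpace
universe u

namespace Groth.Agent.Desc.AmpleDesc

open Groth.Agent.Fdesc.LocGen Groth.Agent.Flat2H.FamExt Groth.Agent.Flat2H.FamDict

section Algebra

theorem alg_core {A B : Type u} [CommRing A] [CommRing B] [Algebra A B] [Module.Flat A B]
    {ι κ : Type*} [Finite ι] [Finite κ] {R R' : ι → Type u} {S S' : κ → Type u}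
    [∀ j, AddCommGroup (R j)] [∀ j, AddCommGroup (R' j)]
    [∀ j, AddCommGroup (S j)] [∀ j, AddCommGroup (S' j)]
    [∀ j, Module A (R j)] [∀ j, Module A (R' j)] [∀ j, Module A (S j)] [∀ j, Module A (S' j)]
    [∀ j, Module B (R' j)] [∀ j, Module B (S' j)]
    [∀ j, IsScalarTower A B (R' j)] [∀ j, IsScalarTower A B (S' j)]
    (α : ∀ j, R j →ₗ[A] R' j) (hα : ∀ j, IsBaseChange B (α j))
    (β : ∀ k, S k →ₗ[A] S' k) (hβ : ∀ k, IsBaseChange B (β k))
    (φ : (∀ j, R j) →ₗ[A] (∀ k, S k)) (φ' : (∀ j, R' j) →ₗ[B] (∀ k, S' k))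
    (comm : ∀ m k, φ' (fun j ↦ α j (m j)) k = β k (φ m k))
    (P : (∀ j, R' j) → Prop) (h0 : P 0) (hadd : ∀ c d, P c → P d → P (c + d))
    (hsmul : ∀ (s : B) c, P c → P (s • c))
    (hbase : ∀ m, φ m = 0 → P (fun j ↦ α j (m j)))
    (c : ∀ j, R' j) (hc : φ' c = 0) : P c := by
  let h₂ : (∀ j, R j) →ₗ[A] (∀ j, R' j) := .pi fun i ↦ α i ∘ₗ .proj i
  let h₃ : (∀ j, S j) →ₗ[A] (∀ j, S' j) := .pi fun i ↦ β i ∘ₗ .proj i
  have hmem : ∀ m ∈ LinearMap.ker φ, h₂ m ∈ (LinearMap.ker φ').restrictScalars A := by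
    intro m hm
    rw [Submodule.restrictScalars_mem, LinearMap.mem_ker]
    funext k
    rw [LinearMap.mem_ker] at hm
    have := comm m k
    rw [hm] at this
    rw [show h₂ m = fun j ↦ α j (m j) from rfl, this]
    simp
  let : Module A (LinearMap.ker φ') :=
    inferInstanceAs (Module A ((LinearMap.ker φ').restrictScalars A))
  have : IsScalarTower A B (LinearMap.ker φ') :=
    ⟨fun a b x ↦ Subtype.ext (smul_assoc a b (x : ∀ j, R' j))⟩
  let h₁ : LinearMap.ker φ →ₗ[A] LinearMap.ker φ' :=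
    h₂.restrict hmem
  have key : IsBaseChange B h₁ := by
    refine IsBaseChange.of_left_exact B (f := (LinearMap.ker φ).subtype) (g := φ)
      (f' := (LinearMap.ker φ').subtype) (g' := φ') h₁ h₂ h₃ rfl ?_ (IsBaseChange.pi α hα)
      (IsBaseChange.pi β hβ) φ.exact_subtype_ker_map Subtype.val_injective
      φ'.exact_subtype_ker_map Subtype.val_injective
    ext1 m
    funext k
    exact (comm m k).symm
  suffices h : ∀ c : LinearMap.ker φ', P c by exact h ⟨c, hc⟩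
  intro c
  induction c using key.inductionOn with
  | zero => exact h0
  | tmul m => exact hbase m m.2
  | smul s c hc => exact hsmul s _ hc
  | add c d hc hd => exact hadd _ _ hc hd

end Algebra

theorem isPushout_app_of_flat {X Y X' V : Scheme.{u}} [IsAffine Y] [IsAffine V] {f : X ⟶ Y}
    {p : V ⟶ Y} {a : X' ⟶ X} {b : X' ⟶ V} (H : IsPullback a b f p) [Flat p] (W : X.Opens)
    (hW : IsCompact (W : Set X)) (hW' : IsQuasiSeparated (W : Set X)) :
    IsPushout (f.appLE ⊤ W le_top) p.appTop (a.app W) (b.appLE ⊤ (a ⁻¹ᵁ W) le_top) := by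
  have h := isIso_pushoutSection_of_isQuasiSeparated_of_flat_right H
    (US := ⊤) (UT := ⊤) (UX := W) (UY := a ⁻¹ᵁ W) le_top le_top (by simp)
    (isAffineOpen_top Y) (isAffineOpen_top V) hW hW'
  replace h := (isIso_pushoutSection_iff _ _ _ _).mp h
  have e : ∀ {A B : Scheme.{u}} (k : A ⟶ B), k.appLE ⊤ ⊤ le_top = k.appTop := fun k ↦
    Scheme.Hom.appLE_eq_app k
  rw [e p, Scheme.Hom.appLE_eq_app] at h
  exact h

theorem ring_core {A B : Type u} [CommRing A] [CommRing B] [Algebra A B] [Module.Flat A B]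
    {ι κ : Type*} [Finite ι] [Finite κ]
    {R R' : ι → Type u} {S S' : κ → Type u} [∀ j, CommRing (R j)] [∀ j, CommRing (R' j)]
    [∀ j, CommRing (S j)] [∀ j, CommRing (S' j)]
    (x : ∀ j, A →+* R j) (x' : ∀ j, B →+* R' j) (α : ∀ j, R j →+* R' j)
    (hα : ∀ j, IsPushout (CommRingCat.ofHom (x j)) (CommRingCat.ofHom (algebraMap A B))
      (CommRingCat.ofHom (α j)) (CommRingCat.ofHom (x' j)))
    (y : ∀ j, A →+* S j) (y' : ∀ j, B →+* S' j) (β : ∀ j, S j →+* S' j)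
    (hβ : ∀ j, IsPushout (CommRingCat.ofHom (y j)) (CommRingCat.ofHom (algebraMap A B))
      (CommRingCat.ofHom (β j)) (CommRingCat.ofHom (y' j)))
    (s t : κ → ι)
    (l : ∀ k, R (s k) →+* S k) (r : ∀ k, R (t k) →+* S k) (hl : ∀ k, (l k).comp (x (s k)) = y k)
    (hr : ∀ k, (r k).comp (x (t k)) = y k)
    (l' : ∀ k, R' (s k) →+* S' k) (r' : ∀ k, R' (t k) →+* S' k)
    (hl' : ∀ k, (l' k).comp (x' (s k)) = y' k) (hr' : ∀ k, (r' k).comp (x' (t k)) = y' k)
    (cl : ∀ k, (β k).comp (l k) = (l' k).comp (α (s k)))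
    (cr : ∀ k, (β k).comp (r k) = (r' k).comp (α (t k)))
    (g : ∀ k, S k)
    (P : (∀ j, R' j) → Prop) (h0 : P 0) (hadd : ∀ c d, P c → P d → P (c + d))
    (hsmul : ∀ (s : B) c, P c → P (fun j ↦ x' j s * c j))
    (hbase : ∀ m : ∀ j, R j, (∀ k, l k (m (s k)) * g k = r k (m (t k))) → P (fun j ↦ α j (m j)))
    (c : ∀ j, R' j) (hc : ∀ k, l' k (c (s k)) * β k (g k) = r' k (c (t k))) : P c := by
  let iR : ∀ j, Algebra A (R j) := fun j ↦ (x j).toAlgebra
  let iR' : ∀ j, Algebra B (R' j) := fun j ↦ (x' j).toAlgebra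
  let iR'' : ∀ j, Algebra A (R' j) := fun j ↦ ((α j).comp (x j)).toAlgebra
  let iRR' : ∀ j, Algebra (R j) (R' j) := fun j ↦ (α j).toAlgebra
  have tR : ∀ j, IsScalarTower A B (R' j) := fun j ↦
    IsScalarTower.of_algebraMap_eq' congr($((hα j).w).hom)
  have tR' : ∀ j, IsScalarTower A (R j) (R' j) := fun j ↦ IsScalarTower.of_algebraMap_eq' rfl
  let iS : ∀ k, Algebra A (S k) := fun k ↦ (y k).toAlgebra
  let iS' : ∀ k, Algebra B (S' k) := fun k ↦ (y' k).toAlgebra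
  let iS'' : ∀ k, Algebra A (S' k) := fun k ↦ ((β k).comp (y k)).toAlgebra
  let iSS' : ∀ k, Algebra (S k) (S' k) := fun k ↦ (β k).toAlgebra
  have tS : ∀ k, IsScalarTower A B (S' k) := fun k ↦
    IsScalarTower.of_algebraMap_eq' congr($((hβ k).w).hom)
  have tS' : ∀ k, IsScalarTower A (S k) (S' k) := fun k ↦
    IsScalarTower.of_algebraMap_eq' rfl
  have hbα : ∀ j, Algebra.IsPushout A B (R j) (R' j) := fun j ↦
    CommRingCat.isPushout_iff_isPushout.mp (hα j).flip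
  have hbβ : ∀ k, Algebra.IsPushout A B (S k) (S' k) := fun k ↦
    CommRingCat.isPushout_iff_isPushout.mp (hβ k).flip
  let L : ∀ k, R (s k) →ₗ[A] S k := fun k ↦
    (AlgHom.mk (l k) (fun t ↦ congr($(hl k) t))).toLinearMap
  let Rr : ∀ k, R (t k) →ₗ[A] S k := fun k ↦
    (AlgHom.mk (r k) (fun t ↦ congr($(hr k) t))).toLinearMap
  let L' : ∀ k, R' (s k) →ₗ[B] S' k := fun k ↦
    (AlgHom.mk (l' k) (fun t ↦ congr($(hl' k) t))).toLinearMap
  let Rr' : ∀ k, R' (t k) →ₗ[B] S' k := fun k ↦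
    (AlgHom.mk (r' k) (fun t ↦ congr($(hr' k) t))).toLinearMap
  let φ : (∀ j, R j) →ₗ[A] (∀ k, S k) := .pi fun k ↦
    (LinearMap.mulRight A (g k)) ∘ₗ L k ∘ₗ .proj (s k) - Rr k ∘ₗ .proj (t k)
  let φ' : (∀ j, R' j) →ₗ[B] (∀ k, S' k) := .pi fun k ↦
    (LinearMap.mulRight B (β k (g k))) ∘ₗ L' k ∘ₗ .proj (s k) - Rr' k ∘ₗ .proj (t k)
  refine alg_core (fun j ↦ (IsScalarTower.toAlgHom A (R j) (R' j)).toLinearMap)
    (fun j ↦ (hbα j).out) (fun k ↦ (IsScalarTower.toAlgHom A (S k) (S' k)).toLinearMap)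
    (fun k ↦ (hbβ k).out) φ φ' ?_ P h0 hadd ?_ ?_ c ?_
  · intro m k
    change l' k (α (s k) (m (s k))) * β k (g k) - r' k (α (t k) (m (t k))) =
      β k (l k (m (s k)) * g k - r k (m (t k)))
    have h1 : l' k (α (s k) (m (s k))) = β k (l k (m (s k))) := congr($(cl k) (m (s k))).symm
    have h2 : r' k (α (t k) (m (t k))) = β k (r k (m (t k))) := congr($(cr k) (m (t k))).symm
    rw [h1, h2, map_sub, map_mul]
  · intro b c hc
    have := hsmul b c hc
    convert this using 1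
    funext j
    exact Algebra.smul_def b (c j)
  · intro m hm
    refine hbase m fun k ↦ ?_
    have h1 : l k (m (s k)) * g k - r k (m (t k)) = 0 := congrFun hm k
    exact sub_eq_zero.mp h1
  · funext k
    exact sub_eq_zero.mpr (hc k)


/-- Flat base change of global sections of line bundles, in terms of families: every compatible
family upstairs is a finite sum of multiples of pullbacks of families downstairs. -/
theorem fam_induction {X Y X' V : Scheme.{u}} [IsAffine Y] [IsAffine V] {f : X ⟶ Y}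
    {p : V ⟶ Y} {a : X' ⟶ X} {b : X' ⟶ V} (H : IsPullback a b f p) [Flat p]
    {ι : Type*} [Finite ι] (W : ι → X.Opens) (hW : ∀ j, IsCompact (W j : Set X))
    (hW' : ∀ j, IsQuasiSeparated (W j : Set X))
    (hcc : ∀ i j, IsCompact ((W i ⊓ W j : X.Opens) : Set X))
    (g : ∀ i j, Γ(X, W i ⊓ W j))
    (P : (∀ j, Γ(X', a ⁻¹ᵁ W j)) → Prop) (h0 : P 0) (hadd : ∀ c d, P c → P d → P (c + d))
    (hsmul : ∀ (s : Γ(V, ⊤)) c, P c → P (fun j ↦ b.appLE ⊤ (a ⁻¹ᵁ W j) le_top s * c j))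
    (hbase : ∀ m, IsFam W g m → P (fun j ↦ a.app (W j) (m j)))
    (c : ∀ j, Γ(X', a ⁻¹ᵁ W j))
    (hc : IsFam (fun j ↦ a ⁻¹ᵁ W j) (fun i j ↦ a.app (W i ⊓ W j) (g i j)) c) : P c := by
  let : Algebra Γ(Y, ⊤) Γ(V, ⊤) := p.appTop.hom.toAlgebra
  have : Module.Flat Γ(Y, ⊤) Γ(V, ⊤) := p.flat_appTop
  have hW'' : ∀ i j, IsQuasiSeparated ((W i ⊓ W j : X.Opens) : Set X) := fun i j ↦
    (hW' i).of_subset (by simp)
  refine ring_core (A := Γ(Y, ⊤)) (B := Γ(V, ⊤)) (ι := ι) (κ := ι × ι)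
    (R := fun j ↦ Γ(X, W j)) (R' := fun j ↦ Γ(X', a ⁻¹ᵁ W j))
    (S := fun k ↦ Γ(X, W k.1 ⊓ W k.2)) (S' := fun k ↦ Γ(X', a ⁻¹ᵁ (W k.1 ⊓ W k.2)))
    (fun j ↦ (f.appLE ⊤ (W j) le_top).hom) (fun j ↦ (b.appLE ⊤ (a ⁻¹ᵁ W j) le_top).hom)
    (fun j ↦ (a.app (W j)).hom) (fun j ↦ isPushout_app_of_flat H (W j) (hW j) (hW' j))
    (fun k ↦ (f.appLE ⊤ (W k.1 ⊓ W k.2) le_top).hom)
    (fun k ↦ (b.appLE ⊤ (a ⁻¹ᵁ (W k.1 ⊓ W k.2)) le_top).hom)
    (fun k ↦ (a.app (W k.1 ⊓ W k.2)).hom)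
    (fun k ↦ isPushout_app_of_flat H (W k.1 ⊓ W k.2) (hcc _ _) (hW'' _ _))
    (fun k ↦ k.1) (fun k ↦ k.2) (fun k ↦ ores inf_le_left) (fun k ↦ ores inf_le_right)
    (fun k ↦ ?_) (fun k ↦ ?_) (fun k ↦ ores (inf_le_left : a ⁻¹ᵁ W k.1 ⊓ a ⁻¹ᵁ W k.2 ≤ _))
    (fun k ↦ ores (inf_le_right : a ⁻¹ᵁ W k.1 ⊓ a ⁻¹ᵁ W k.2 ≤ _)) (fun k ↦ ?_) (fun k ↦ ?_)
    (fun k ↦ ?_) (fun k ↦ ?_) (fun k ↦ g k.1 k.2) P h0 hadd hsmul
    (fun m hm ↦ hbase m fun i j ↦ hm (i, j)) c (fun k ↦ hc k.1 k.2)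
  · exact congrArg CommRingCat.Hom.hom (Scheme.Hom.appLE_map f _ _)
  · exact congrArg CommRingCat.Hom.hom (Scheme.Hom.appLE_map f _ _)
  · exact congrArg CommRingCat.Hom.hom (Scheme.Hom.appLE_map b _ _)
  · exact congrArg CommRingCat.Hom.hom (Scheme.Hom.appLE_map b _ _)
  · exact congrArg CommRingCat.Hom.hom (a.naturality (homOfLE inf_le_left).op)
  · exact congrArg CommRingCat.Hom.hom (a.naturality (homOfLE inf_le_right).op)

/-- On a line bundle pulled back along a flat base change of affine schemes, if some section does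
not vanish at `x'`, then some section downstairs does not vanish at the image of `x'`. -/
theorem exists_fam_of_fam {X Y X' V : Scheme.{u}} [IsAffine Y] [IsAffine V] {f : X ⟶ Y}
    {p : V ⟶ Y} {a : X' ⟶ X} {b : X' ⟶ V} (H : IsPullback a b f p) [Flat p]
    {ι : Type*} [Finite ι] (W : ι → X.Opens) (hW : ∀ j, IsCompact (W j : Set X))
    (hW' : ∀ j, IsQuasiSeparated (W j : Set X))
    (hcc : ∀ i j, IsCompact ((W i ⊓ W j : X.Opens) : Set X))
    (g : ∀ i j, Γ(X, W i ⊓ W j))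
    (c : ∀ j, Γ(X', a ⁻¹ᵁ W j))
    (hc : IsFam (fun j ↦ a ⁻¹ᵁ W j) (fun i j ↦ a.app (W i ⊓ W j) (g i j)) c) (x' : X') (j : ι)
    (hx : x' ∈ X'.basicOpen (c j)) : ∃ m, IsFam W g m ∧ a x' ∈ X.basicOpen (m j) := by
  revert hx
  refine fam_induction H W hW hW' hcc g
    (fun c ↦ x' ∈ X'.basicOpen (c j) → ∃ m, IsFam W g m ∧ a x' ∈ X.basicOpen (m j))
    ?_ ?_ ?_ ?_ c hc
  · intro h
    simp at h
  · intro c d hc hd h
    have h' : x' ∈ X'.basicOpen (c j) ∨ x' ∈ X'.basicOpen (d j) := by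
      have hx : x' ∈ a ⁻¹ᵁ W j := X'.basicOpen_le _ h
      rw [Scheme.mem_basicOpen _ _ _ hx] at h ⊢
      rw [Scheme.mem_basicOpen _ _ _ hx]
      rw [Pi.add_apply, map_add] at h
      exact IsLocalRing.isUnit_or_isUnit_of_isUnit_add h
    exact h'.elim hc hd
  · intro s c hc h
    refine hc ?_
    rw [Scheme.basicOpen_mul] at h
    exact h.2
  · intro m hm h
    refine ⟨m, hm, ?_⟩
    rw [← Scheme.preimage_basicOpen] at h
    exact h

theorem iSup_basicOpen_inf {X : Scheme.{u}} {ι : Type*} {W : ι → X.Opens}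
    {g : ∀ i j, Γ(X, W i ⊓ W j)} {b : ∀ j, Γ(X, W j)} (hb : IsFam W g b)
    (hg : ∀ i j, IsUnit (g i j)) (j : ι) : (⨆ i, X.basicOpen (b i)) ⊓ W j = X.basicOpen (b j) := by
  apply le_antisymm
  · rw [iSup_inf_eq]
    refine iSup_le fun i ↦ ?_
    refine le_basicOpen_of_isUnit _ inf_le_right ?_
    have h1 := congrArg (ores (inf_le_inf_right (W j) (X.basicOpen_le (b i)))) (hb i j)
    rw [map_mul, ores_ores, ores_ores] at h1
    rw [← h1]
    exact (isUnit_res_basicOpen (b i) _ inf_le_left).mul ((hg i j).map _)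
  · exact le_inf (le_iSup (fun i ↦ X.basicOpen (b i)) j) (X.basicOpen_le _)

/-- If `L` is ample and `s` is a section of a positive power of `L`, then for every point of `X_s`
there is a function on `X_s` with affine non-vanishing locus containing the point. -/
theorem exists_basicOpen_of_isFam {X : Scheme.{u}} {ι : Type*} {L : X.Modules} {W : ι → X.Opens}
    {g : ∀ i j, Γ(X, W i ⊓ W j)} (h : Trivs L W g) (hA : CohB1.IsAmple L) (n : ℕ)
    (b : ∀ j, Γ(X, W j)) (hb : IsFam W (fun i j ↦ g i j ^ (n + 1)) b) (x : X)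
    (hx : x ∈ ⨆ j, X.basicOpen (b j)) :
    ∃ t : Γ(X, ⨆ j, X.basicOpen (b j)), x ∈ X.basicOpen t ∧ IsAffineOpen (X.basicOpen t) := by
  obtain ⟨m, c, hc, hxc, haff⟩ := (h.isAmple_iff.1 hA).2 x
  have hu : ∀ j, IsUnit (ores (X.basicOpen_le (b j)) (b j)) := fun j ↦
    isUnit_res_basicOpen (b j) _ le_rfl
  have h1 : ∀ j, ∃ t : Γ(X, X.basicOpen (b j)), t * ores (X.basicOpen_le (b j)) (b j) ^ (m + 1) =
      ores (X.basicOpen_le (b j)) (c j) ^ (n + 1) := by
    intro j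
    obtain ⟨v, hv⟩ := ((hu j).pow (m + 1)).exists_left_inv
    exact ⟨ores (X.basicOpen_le (b j)) (c j) ^ (n + 1) * v, by rw [mul_assoc, hv, mul_one]⟩
  choose t ht using h1
  have hcompat : ∀ i j, ores (inf_le_left : X.basicOpen (b i) ⊓ X.basicOpen (b j) ≤ _) (t i) =
      ores inf_le_right (t j) := by
    intro i j
    have e1 := congrArg (ores (inf_le_left : X.basicOpen (b i) ⊓ X.basicOpen (b j) ≤ _)) (ht i)
    have e2 := congrArg (ores (inf_le_right : X.basicOpen (b i) ⊓ X.basicOpen (b j) ≤ _)) (ht j)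
    have e3 := congrArg (ores (inf_le_inf (X.basicOpen_le (b i)) (X.basicOpen_le (b j)))) (hb i j)
    have e4 := congrArg (ores (inf_le_inf (X.basicOpen_le (b i)) (X.basicOpen_le (b j)))) (hc i j)
    have u1 := (hu i).map (ores (inf_le_left : X.basicOpen (b i) ⊓ X.basicOpen (b j) ≤ _))
    have u2 := (hu j).map (ores (inf_le_right : X.basicOpen (b i) ⊓ X.basicOpen (b j) ≤ _))
    simp only [map_mul, map_pow, ores_ores] at e1 e2 e3 e4 u1 u2
    refine ((u1.pow (m + 1)).mul (u2.pow (m + 1))).mul_right_cancel ?_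
    calc _ = (ores (inf_le_left : X.basicOpen (b i) ⊓ X.basicOpen (b j) ≤ _) (t i) *
          ores (inf_le_left.trans (X.basicOpen_le _)) (b i) ^ (m + 1)) *
          ores (inf_le_right.trans (X.basicOpen_le _)) (b j) ^ (m + 1) := by ring
      _ = (ores (inf_le_right : X.basicOpen (b i) ⊓ X.basicOpen (b j) ≤ _) (t j) *
          ores (inf_le_right.trans (X.basicOpen_le _)) (b j) ^ (m + 1)) *
          ores (inf_le_left.trans (X.basicOpen_le _)) (b i) ^ (m + 1) := by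
            rw [e1, e2, ← e3, ← e4]; ring
      _ = _ := by ring
  obtain ⟨T, hT⟩ := ores_glue (V := ⨆ j, X.basicOpen (b j)) (fun j ↦ X.basicOpen (b j))
    (fun j ↦ le_iSup (fun j ↦ X.basicOpen (b j)) j) le_rfl t hcompat
  have hD : X.basicOpen T = (⨆ j, X.basicOpen (b j)) ⊓ (⨆ j, X.basicOpen (c j)) := by
    have hle : X.basicOpen T = ⨆ j, X.basicOpen (b j) ⊓ X.basicOpen T := by
      rw [← iSup_inf_eq]
      exact (inf_eq_right.mpr (X.basicOpen_le T)).symm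
    rw [hle, iSup_inf_eq]
    refine iSup_congr fun j ↦ ?_
    rw [← basicOpen_res T (le_iSup (fun j ↦ X.basicOpen (b j)) j), hT]
    have h2 : X.basicOpen (t j) = X.basicOpen (t j * ores (X.basicOpen_le (b j)) (b j) ^ (m + 1)) := by
      rw [Scheme.basicOpen_mul, X.basicOpen_of_isUnit ((hu j).pow _)]
      exact (inf_eq_left.mpr (X.basicOpen_le _)).symm
    rw [h2, ht, Scheme.basicOpen_pow _ _ (Nat.succ_pos n), basicOpen_res,
      ← iSup_basicOpen_inf hc (fun i j ↦ (h.isUnit i j).pow _) j, inf_comm _ (W j), ← inf_assoc,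
      inf_eq_left.mpr (X.basicOpen_le (b j))]
  refine ⟨T, by rw [hD]; exact ⟨hx, hxc⟩, ?_⟩
  obtain ⟨s, hs⟩ := (h.tensorPow (n + 1)).exists_sec b hb
  rw [hD, ← hs]
  exact isAffineOpen_genLocus_inf (h.tensorPow (n + 1)).isInvertible s haff

/-- For `L` ample and `s` a section of a positive power of `L`, the locus `X_s` is quasi-affine. -/
theorem isQuasiAffine_of_isFam {X : Scheme.{u}} {ι : Type*} {L : X.Modules} {W : ι → X.Opens}
    {g : ∀ i j, Γ(X, W i ⊓ W j)} (h : Trivs L W g) (hA : CohB1.IsAmple L) (n : ℕ)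
    (b : ∀ j, Γ(X, W j)) (hb : IsFam W (fun i j ↦ g i j ^ (n + 1)) b) :
    ((⨆ j, X.basicOpen (b j) : X.Opens) : Scheme.{u}).IsQuasiAffine := by
  have hX : CompactSpace X := hA.2.1
  set U : X.Opens := ⨆ j, X.basicOpen (b j) with hU
  have hι : IsAffineHom U.ι := by
    obtain ⟨s, hs⟩ := (h.tensorPow (n + 1)).exists_sec b hb
    rw [hU, ← hs]
    exact isAffineHom_genLocus_ι (h.tensorPow (n + 1)).isInvertible s
  have : CompactSpace (U : Scheme.{u}) := QuasiCompact.compactSpace_of_compactSpace U.ι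
  refine Scheme.IsQuasiAffine.of_forall_exists_mem_basicOpen _ fun x ↦ ?_
  obtain ⟨t, hxt, ht⟩ := exists_basicOpen_of_isFam h hA n b hb x.1 x.2
  refine ⟨(U : Scheme.{u}).presheaf.map (eqToHom (by simp)).op (U.ι.app U t), ?_⟩
  have h1 : (U : Scheme.{u}).basicOpen
      ((U : Scheme.{u}).presheaf.map (eqToHom (by simp)).op (U.ι.app U t) : Γ(U, ⊤)) =
      U.ι ⁻¹ᵁ X.basicOpen t := by
    rw [Scheme.preimage_basicOpen, Scheme.basicOpen_res_eq]
  rw [h1]
  exact ⟨ht.preimage U.ι, hxt⟩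

theorem isFam_app {X X' : Scheme.{u}} (a : X' ⟶ X) {ι : Type*} {W : ι → X.Opens}
    {g : ∀ i j, Γ(X, W i ⊓ W j)} {m : ∀ j, Γ(X, W j)} (hm : IsFam W g m) :
    IsFam (fun j ↦ a ⁻¹ᵁ W j) (fun i j ↦ a.app (W i ⊓ W j) (g i j))
      (fun j ↦ a.app (W j) (m j)) := by
  intro k l
  have h1 := congrArg (a.app (W k ⊓ W l)) (hm k l)
  have e1 : (a.app (W k ⊓ W l)) (ores inf_le_left (m k)) =
      ores (inf_le_left : a ⁻¹ᵁ W k ⊓ a ⁻¹ᵁ W l ≤ _) (a.app (W k) (m k)) :=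
    congr($(a.naturality (homOfLE (inf_le_left : W k ⊓ W l ≤ W k)).op) (m k))
  have e2 : (a.app (W k ⊓ W l)) (ores inf_le_right (m l)) =
      ores (inf_le_right : a ⁻¹ᵁ W k ⊓ a ⁻¹ᵁ W l ≤ _) (a.app (W l) (m l)) :=
    congr($(a.naturality (homOfLE (inf_le_right : W k ⊓ W l ≤ W l)).op) (m l))
  rw [map_mul, e1, e2] at h1
  exact h1

theorem isFam_congr {X : Scheme.{u}} {ι : Type*} {W : ι → X.Opens}
    {g g' : ∀ i j, Γ(X, W i ⊓ W j)} {m : ∀ j, Γ(X, W j)} (hm : IsFam W g m)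
    (h : ∀ i j, g i j = g' i j) : IsFam W g' m := by
  intro i j
  rw [← h]
  exact hm i j

/-- **Descent of ampleness** along a finite jointly surjective family of flat morphisms from affine
schemes to an affine scheme. -/
theorem isAmple_of_finite_flat_family {ι : Type u} [Finite ι] {X Y : Scheme.{u}}
    [IsAffine Y] [CompactSpace X] [QuasiSeparatedSpace X] (f : X ⟶ Y) (V : ι → Scheme.{u})
    [∀ i, IsAffine (V i)] (p : ∀ i, V i ⟶ Y)
    [∀ i, Flat (p i)] (hp : ∀ y : Y, ∃ i, y ∈ Set.range (p i))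
    {X' : ι → Scheme.{u}} {a : ∀ i, X' i ⟶ X} {b : ∀ i, X' i ⟶ V i}
    (H : ∀ i, IsPullback (a i) (b i) f (p i)) {L : X.Modules} (hL : PicF.IsInvertible L)
    (hA : ∀ i, CohB1.IsAmple ((Scheme.Modules.pullback (a i)).obj L)) : CohB1.IsAmple L := by
  refine ⟨hL, inferInstance, fun x ↦ ?_⟩
  obtain ⟨r, W, g, hW, hT⟩ := exists_trivs hL IsAffineOpen (fun U x hx ↦ by
    obtain ⟨V, hV, hxV, hVU⟩ := exists_affine_nhds hx
    exact ⟨V, hxV, hVU, hV⟩)
  obtain ⟨i, y, hy⟩ := hp (f x)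
  obtain ⟨x', hx', -⟩ := Scheme.exists_preimage_of_isPullback (H i) x y hy.symm
  obtain ⟨n, c, hc, hxc, -⟩ := ((hT.pullback (a i)).isAmple_iff.1 (hA i)).2 x'
  obtain ⟨j, hj⟩ := Opens.mem_iSup.mp hxc
  have hcomp : ∀ i j, IsCompact ((W i ⊓ W j : X.Opens) : Set X) := fun i j =>
    QuasiSeparatedSpace.inter_isCompact _ _ (W i).isOpen (hW i).isCompact
      (W j).isOpen (hW j).isCompact
  obtain ⟨m, hm, hxm⟩ := exists_fam_of_fam (H i) W (fun j ↦ (hW j).isCompact)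
    (fun j ↦ (hW j).isQuasiSeparated) hcomp (fun i j ↦ g i j ^ (n + 1)) c
    (isFam_congr hc fun k l ↦ (map_pow _ _ _).symm) x' j hj
  rw [hx'] at hxm
  obtain ⟨s, hs⟩ := (hT.tensorPow (n + 1)).exists_sec m hm
  have hι : IsAffineHom (⨆ j, X.basicOpen (m j)).ι := by
    rw [← hs]
    exact isAffineHom_genLocus_ι (hT.tensorPow (n + 1)).isInvertible s
  have : CompactSpace ((⨆ j, X.basicOpen (m j) : X.Opens) : Scheme.{u}) :=
    QuasiCompact.compactSpace_of_compactSpace (⨆ j, X.basicOpen (m j)).ι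
  have : QuasiSeparatedSpace ((⨆ j, X.basicOpen (m j) : X.Opens) : Scheme.{u}) :=
    quasiSeparatedSpace_of_quasiSeparated (⨆ j, X.basicOpen (m j)).ι
  have hqa : ((⨆ j, X.basicOpen (m j) : X.Opens) : Scheme.{u}).IsQuasiAffine := by
    refine QAffDesc.isQuasiAffine_of_finite_flat_family ((⨆ j, X.basicOpen (m j)).ι ≫ f) V p hp
      (X' := fun i ↦ (a i ⁻¹ᵁ (⨆ j, X.basicOpen (m j)) : (X' i).Opens))
      (a := fun i ↦ a i ∣_ (⨆ j, X.basicOpen (m j)))
      (b := fun i ↦ (a i ⁻¹ᵁ (⨆ j, X.basicOpen (m j))).ι ≫ b i) (fun i ↦ ?_) (fun i ↦ ?_)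
    · exact (isPullback_morphismRestrict (a i) _).paste_vert (H i)
    · have h1 := isQuasiAffine_of_isFam (hT.pullback (a i)) (hA i) n
        (fun j ↦ (a i).app (W j) (m j))
        (isFam_congr (isFam_app (a i) hm) fun k l ↦ map_pow _ _ _)
      have h2 : a i ⁻¹ᵁ (⨆ j, X.basicOpen (m j)) =
          ⨆ j, (X' i).basicOpen ((a i).app (W j) (m j)) := by
        rw [Scheme.Hom.preimage_iSup]
        exact iSup_congr fun j ↦ Scheme.preimage_basicOpen _ _
      rw [h2]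
      exact h1
  have hxU : x ∈ ⨆ j, X.basicOpen (m j) := Opens.mem_iSup.mpr ⟨j, hxm⟩
  have key : ∃ t : Γ(X, ⨆ j, X.basicOpen (m j)), x ∈ X.basicOpen t ∧
      IsAffineOpen (X.basicOpen t) := by
    set U : X.Opens := ⨆ j, X.basicOpen (m j)
    obtain ⟨_, ⟨_, ⟨r, hr, rfl⟩, rfl⟩, hxr, -⟩ :=
      (Scheme.IsQuasiAffine.isBasis_basicOpen (U : Scheme.{u})).exists_subset_of_mem_open
        (Set.mem_univ ⟨x, hxU⟩) isOpen_univ
    obtain ⟨t, rfl⟩ : ∃ t : Γ(X, U), U.topIso.inv t = r := ⟨U.topIso.hom r, congr($(U.topIso.hom_inv_id) r)⟩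
    refine ⟨t, ?_, ?_⟩
    · rw [← Scheme.Opens.ι_image_basicOpen_topIso_inv]
      exact ⟨⟨x, hxU⟩, hxr, rfl⟩
    · rw [← Scheme.Opens.ι_image_basicOpen_topIso_inv]
      exact hr.image_of_isOpenImmersion U.ι
  rw [← hs] at key
  obtain ⟨t, hxt, ht⟩ := key
  obtain ⟨k, v, hv⟩ := exists_genLocus_eq_basicOpen hL n s t
  exact ⟨k, v, by rwa [hv], by rwa [hv]⟩

/-- Restriction of a pullback: the pullback of `L` along `a`, restricted to an open `U'` mapping
into `U`, is the pullback of `L|_U`. -/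
noncomputable def restrictPullbackIso {X X' : Scheme.{u}} (a : X' ⟶ X) (L : X.Modules)
    (U : X.Opens) (U' : X'.Opens) (e : U' ≤ a ⁻¹ᵁ U) :
    (Scheme.Modules.pullback (a.resLE U U' e)).obj (L.restrict U.ι) ≅
      ((Scheme.Modules.pullback a).obj L).restrict U'.ι :=
  (Scheme.Modules.pullback (a.resLE U U' e)).mapIso
      ((Scheme.Modules.restrictFunctorIsoPullback U.ι).app L) ≪≫
    (Scheme.Modules.pullbackComp (a.resLE U U' e) U.ι).app L ≪≫
    (Scheme.Modules.pullbackCongr (by simp)).app L ≪≫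
    ((Scheme.Modules.pullbackComp U'.ι a).app L).symm ≪≫
    ((Scheme.Modules.restrictFunctorIsoPullback U'.ι).app _).symm

set_option backward.isDefEq.respectTransparency false in
set_option backward.isDefEq.respectTransparency.types false in
/-- A morphism with a relatively ample module is quasi-separated. -/
theorem quasiSeparated_of_isRelAmple {X S : Scheme.{u}} {f : X ⟶ S} {L : X.Modules}
    (h : RelAmple.IsRelAmple f L) : QuasiSeparated f := by
  rw [HasAffineProperty.eq_targetAffineLocally (P := @QuasiSeparated)]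
  intro U
  exact quasiSeparatedSpace_of_isAmple (h.2 U)

theorem exists_trivs_of_isInvertible {X : Scheme.{u}} {L : X.Modules} (hL : PicF.IsInvertible L) :
    ∃ (W : X → X.Opens) (g : ∀ i j, Γ(X, W i ⊓ W j)), Trivs L W g := by
  choose W e hx he using (isInvertible_iff L).mp hL
  obtain ⟨g, hg⟩ := exists_trans W e he
  exact ⟨W, g, fun x ↦ ⟨x, hx x⟩, e, he, hg⟩

theorem isAmple_restrict_of_isRelAmple {X S S' X' : Scheme.{u}} {f : X ⟶ S} {L : X.Modules}
    (hL : PicF.IsInvertible L) {g : S' ⟶ S} [QuasiCompact g] [Flat g] [Surjective g]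
    {a : X' ⟶ X} {b : X' ⟶ S'} (H : IsPullback a b f g)
    [QuasiCompact f] [QuasiSeparated f]
    (h : RelAmple.IsRelAmple b ((Scheme.Modules.pullback a).obj L)) (V : S.Opens)
    (hV : IsAffineOpen V) : CohB1.IsAmple (L.restrict (f ⁻¹ᵁ V).ι) := by
  obtain ⟨I, hI, e⟩ := isCompact_iff_finite_and_eq_biUnion_affineOpens.mp
    (g.isCompact_preimage hV.isCompact)
  have hIV (i : I) : i.1.1 ≤ g ⁻¹ᵁ V := by
    rw [e]
    exact le_iSup₂_of_le i.1 i.2 le_rfl
  have := hI.to_subtype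
  have hVa : IsAffine V := hV
  have hIa : ∀ i : I, IsAffine (i.1.1 : S'.Opens) := fun i ↦ i.1.2
  have h1 : CompactSpace (f ⁻¹ᵁ V : X.Opens) :=
    isCompact_iff_compactSpace.mp (f.isCompact_preimage hV.isCompact)
  have h2 : QuasiSeparatedSpace (f ⁻¹ᵁ V : X.Opens) :=
    isQuasiSeparated_iff_quasiSeparatedSpace _ (f ⁻¹ᵁ V).2 |>.mp
      (f.isQuasiSeparated_preimage hV.isQuasiSeparated)
  have h3 : ∀ i : I, b ⁻¹ᵁ i.1.1 = a ⁻¹ᵁ (f ⁻¹ᵁ V) ⊓ b ⁻¹ᵁ i.1.1 := fun i ↦ by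
    refine (inf_eq_right.mpr ?_).symm
    rw [← Scheme.Hom.comp_preimage, H.w, Scheme.Hom.comp_preimage]
    exact Scheme.Hom.preimage_mono _ (hIV i)
  have h4 : ∀ i : I, Flat (g.resLE V i.1.1 (hIV i)) := fun i ↦ by
    delta Scheme.Hom.resLE
    infer_instance
  have h5 : ∀ i : I, b ⁻¹ᵁ i.1.1 ≤ a ⁻¹ᵁ (f ⁻¹ᵁ V) :=
    fun i ↦ by rw [h3 i]; exact inf_le_left
  have h6 : ∀ y : (V : Scheme.{u}), ∃ i : I, y ∈ Set.range (g.resLE V i.1.1 (hIV i)) := by
    intro y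
    obtain ⟨x, hx⟩ := g.surjective y.1
    have hx' : x ∈ g ⁻¹ᵁ V := by
      show g x ∈ V
      rw [hx]
      exact y.2
    rw [e] at hx'
    simp only [TopologicalSpace.Opens.mem_iSup] at hx'
    obtain ⟨i, hi, hxi⟩ := hx'
    refine ⟨⟨i, hi⟩, ⟨x, hxi⟩, ?_⟩
    apply Subtype.ext
    rw [Scheme.Hom.coe_resLE_apply]
    exact hx
  have hL' : PicF.IsInvertible (L.restrict (f ⁻¹ᵁ V).ι) := by
    obtain ⟨W, g, hT⟩ := exists_trivs_of_isInvertible hL
    exact (hT.restrict (f ⁻¹ᵁ V).ι).isInvertible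
  have hA : ∀ i : I, CohB1.IsAmple ((Scheme.Modules.pullback
      (a.resLE (f ⁻¹ᵁ V) (b ⁻¹ᵁ i.1.1) (h5 i))).obj (L.restrict (f ⁻¹ᵁ V).ι)) := fun i ↦
    isAmple_of_iso (restrictPullbackIso _ L _ _ (h5 i)).symm (h.2 i.1)
  exact isAmple_of_finite_flat_family (f.resLE V (f ⁻¹ᵁ V) le_rfl)
    (fun i : I ↦ (i.1.1 : Scheme.{u})) (fun i ↦ g.resLE V i.1.1 (hIV i)) h6
    (X' := fun i ↦ (b ⁻¹ᵁ i.1.1 : X'.Opens))
    (a := fun i ↦ a.resLE (f ⁻¹ᵁ V) _ (h5 i))
    (b := fun i ↦ b.resLE i.1.1 _ le_rfl)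
    (fun i ↦ Scheme.Hom.isPullback_resLE H (hIV i) le_rfl (h3 i)) hL' hA

/-- Relative ampleness descends along quasi-compact flat surjective base change. -/
theorem isRelAmple_of_isRelAmple_baseChange {X S S' : Scheme.{u}} (f : X ⟶ S) (L : X.Modules)
    (hL : PicF.IsInvertible L) (g : S' ⟶ S) [QuasiCompact g] [Flat g] [Surjective g]
    (h : RelAmple.IsRelAmple (pullback.snd f g)
      ((Scheme.Modules.pullback (pullback.fst f g)).obj L)) : RelAmple.IsRelAmple f L := by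
  have H : IsPullback (pullback.fst f g) (pullback.snd f g) f g := IsPullback.of_hasPullback f g
  have := h.1
  have hqs' : QuasiSeparated (pullback.snd f g) := quasiSeparated_of_isRelAmple h
  have := QAffDesc.quasiCompact_descendsAlong.{u}
  have := QAffDesc.quasiSeparated_descendsAlong.{u}
  have hg : (@Surjective ⊓ @Flat ⊓ @QuasiCompact : MorphismProperty Scheme.{u}) g :=
    ⟨⟨inferInstance, inferInstance⟩, inferInstance⟩
  have hqc : QuasiCompact f := MorphismProperty.of_isPullback_of_descendsAlong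
    (P := @QuasiCompact) H.flip hg inferInstance
  have hqs : QuasiSeparated f := MorphismProperty.of_isPullback_of_descendsAlong
    (P := @QuasiSeparated) H.flip hg inferInstance
  exact ⟨hqc, fun V ↦ isAmple_restrict_of_isRelAmple hL H h V.1 V.2⟩

end Groth.Agent.Desc.AmpleDesc
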