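import Groth.Agent.Desc.StableDD
import Mathlib.AlgebraicGeometry.Morphisms.UniversallyInjective
import Mathlib.AlgebraicGeometry.Morphisms.Separated
import Mathlib.AlgebraicGeometry.Morphisms.Immersion

/-!
# Localizing the base of a descent datum; universally injective covers
-/

set_option autoImplicit false
set_option backward.isDefEq.respectTransparency false
set_option backward.isDefEq.respectTransparency.types false
open CategoryTheory CategoryTheory.Limits AlgebraicGeometry Opposite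
universe u
open _root_.Desc
open Groth.Agent.Desc.OpenDD Groth.Agent.Desc.StableDD

namespace Groth.Agent.Desc.BaseOpenDD

variable {X S : Scheme.{u}} {p : X ⟶ S}

/-- If the scheme underlying a descent datum lies over a monomorphism `S₀ ⟶ S`, it is a descent datum
relative to the base change `X₀ ⟶ S₀`. -/
noncomputable def baseMono {X₀ S₀ : Scheme.{u}} {i : X₀ ⟶ X} {p₀ : X₀ ⟶ S₀} {j : S₀ ⟶ S}
    (H : IsPullback i p₀ p j) [Mono i] (D : SchDD p) (v₀ : D.obj.left ⟶ X₀)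
    (hv : v₀ ≫ i = D.obj.hom) : SchDD p₀ :=
  have hh : ∀ {T : Scheme.{u}} (x₀ x₁ : T ⟶ X₀), x₀ ≫ p₀ = x₁ ≫ p₀ →
      (x₀ ≫ i) ≫ p = (x₁ ≫ i) ≫ p := fun x₀ x₁ h ↦ by
    rw [Category.assoc, Category.assoc, H.w, reassoc_of% h]
  have hto : ∀ {T : Scheme.{u}} {x : T ⟶ X₀} (v : Lifts (Over.mk v₀) x), v.1 ≫ D.obj.hom = x ≫ i :=
    fun {T x} v ↦ by
      have : v.1 ≫ v₀ = x := v.2
      rw [← hv, reassoc_of% this]
  have hfrom : ∀ {T : Scheme.{u}} {x : T ⟶ X₀} (v : Lifts D.obj (x ≫ i)), v.1 ≫ v₀ = x :=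
    fun {T x} v ↦ by rw [← cancel_mono i, Category.assoc, hv, v.2]
  { obj := Over.mk v₀
    φ := fun T x₀ x₁ h ↦
      { toFun := fun v ↦ ⟨(D.φ (x₀ ≫ i) (x₁ ≫ i) (hh x₀ x₁ h) ⟨v.1, hto v⟩).1, hfrom _⟩
        invFun := fun v ↦ ⟨(D.φ (x₁ ≫ i) (x₀ ≫ i) (hh x₀ x₁ h).symm ⟨v.1, hto v⟩).1, hfrom _⟩
        left_inv := fun v ↦ by
          apply Subtype.ext
          change (D.φ (x₁ ≫ i) (x₀ ≫ i) _ (D.φ (x₀ ≫ i) (x₁ ≫ i) (hh x₀ x₁ h) ⟨v.1, hto v⟩)).1 = _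
          rw [φ_symm]
        right_inv := fun v ↦ by
          apply Subtype.ext
          change (D.φ (x₀ ≫ i) (x₁ ≫ i) _ (D.φ (x₁ ≫ i) (x₀ ≫ i) (hh x₀ x₁ h).symm
            ⟨v.1, hto v⟩)).1 = _
          rw [φ_symm D (x₁ ≫ i) (x₀ ≫ i)] }
    φ_natural := fun T T' g x₀ x₁ h h' v v' hv' ↦ by
      exact D.φ_natural g (x₀ ≫ i) (x₁ ≫ i) (hh _ _ h) (hh _ _ h') ⟨v.1, hto v⟩ ⟨v'.1, hto v'⟩ hv'
    φ_self := fun T x v ↦ by
      apply Subtype.ext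
      change (D.φ (x ≫ i) (x ≫ i) _ ⟨v.1, hto v⟩).1 = _
      rw [D.φ_self]
    φ_comp := fun T x₀ x₁ x₂ h₀₁ h₁₂ v ↦ by
      apply Subtype.ext
      change (D.φ (x₁ ≫ i) (x₂ ≫ i) _ (D.φ (x₀ ≫ i) (x₁ ≫ i) (hh _ _ h₀₁) ⟨v.1, hto v⟩)).1 =
        (D.φ (x₀ ≫ i) (x₂ ≫ i) _ ⟨v.1, hto v⟩).1
      rw [D.φ_comp] }

theorem baseMono_obj {X₀ S₀ : Scheme.{u}} {i : X₀ ⟶ X} {p₀ : X₀ ⟶ S₀} {j : S₀ ⟶ S}
    (H : IsPullback i p₀ p j) [Mono i] (D : SchDD p) (v₀ : D.obj.left ⟶ X₀)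
    (hv : v₀ ≫ i = D.obj.hom) : (baseMono H D v₀ hv).obj = Over.mk v₀ := rfl

/-- Effectivity over `S₀` gives effectivity over `S`. -/
theorem effective_of_baseMono {X₀ S₀ : Scheme.{u}} {i : X₀ ⟶ X} {p₀ : X₀ ⟶ S₀} {j : S₀ ⟶ S}
    (H : IsPullback i p₀ p j) [Mono i] (D : SchDD p) (v₀ : D.obj.left ⟶ X₀)
    (hv : v₀ ≫ i = D.obj.hom)
    (heff : ∃ U : Over S₀, Nonempty ((toDD p₀).obj U ≅ baseMono H D v₀ hv)) :
    ∃ U : Over S, Nonempty ((toDD p).obj U ≅ D) := by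
  obtain ⟨U, hU⟩ := heff
  obtain ⟨q, hq⟩ := (nonempty_iso_iff _ _).mp hU
  refine ⟨Over.mk (U.hom ≫ j), IsEff.nonempty_iso (q := q) ⟨?_, ?_⟩⟩
  · have h1 : IsPullback v₀ q p₀ U.hom := hq.isPullback
    have h3 : IsPullback (v₀ ≫ i) q p (U.hom ≫ j) := h1.paste_horiz H
    rw [← hv]; exact h3
  · intro T x₀ x₁ h y
    have hy : y.1 ≫ D.obj.hom = x₀ := y.2
    have ht₀ : (y.1 ≫ v₀) ≫ i = x₀ := by rw [Category.assoc, hv, hy]
    let t₁ : T ⟶ X₀ := H.lift x₁ ((y.1 ≫ v₀) ≫ p₀) (by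
      rw [Category.assoc (y.1 ≫ v₀), ← H.w, ← Category.assoc, ht₀, h])
    have ht₁ : t₁ ≫ i = x₁ := H.lift_fst _ _ _
    have ht₁' : t₁ ≫ p₀ = (y.1 ≫ v₀) ≫ p₀ := H.lift_snd _ _ _
    have key := hq.φ_comp_q (y.1 ≫ v₀) t₁ ht₁'.symm ⟨y.1, rfl⟩
    refine Eq.trans ?_ key
    refine congrArg (· ≫ q) ?_
    exact ZarSec.φ_val_congr D ht₀.symm ht₁.symm h _ y ⟨y.1, by rw [ht₀]; exact hy⟩ rfl

/-- For a universally injective `p` every open is stable. -/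
theorem isStable_of_universallyInjective [UniversallyInjective p] (D : SchDD p)
    (W : D.obj.left.Opens) : IsStable D W := by
  intro T x₀ x₁ h v t ht
  -- restrict to the residue field of `t`
  let s : Spec (T.residueField t) ⟶ T := T.fromSpecResidueField t
  have hs : s ≫ x₀ = s ≫ x₁ := by
    have h1 : ∀ (K : Type u) [Field K], Function.Injective (fun g : Spec (.of K) ⟶ X ↦ g ≫ p) :=
      (((tfae_universallyInjective p).out 0 1 : UniversallyInjective p ↔ _)).mp inferInstance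
    have h2 := h1 (T.residueField t)
    apply h2
    simp [h]
  have e1 := ZarSec.comp_φ D s x₀ x₁ h v
  have e2 : (D.φ (s ≫ x₀) (s ≫ x₁) (by simp [h]) ⟨s ≫ v.1, by rw [Category.assoc, v.2]⟩).1 =
      s ≫ v.1 := by
    have e3 : (D.φ (s ≫ x₀) (s ≫ x₀) rfl ⟨s ≫ v.1, by rw [Category.assoc, v.2]⟩).1 = s ≫ v.1 := by
      rw [D.φ_self]
    refine Eq.trans ?_ e3
    exact ZarSec.φ_val_congr D rfl hs.symm _ _ _ _ rfl
  have e4 : s ≫ (D.φ x₀ x₁ h v).1 = s ≫ v.1 := e1.trans e2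
  have hst : s (IsLocalRing.closedPoint _) = t := by
    simp [s]
  have e5 : (s ≫ (D.φ x₀ x₁ h v).1) (IsLocalRing.closedPoint _) =
    (s ≫ v.1) (IsLocalRing.closedPoint _) := by rw [e4]
  rw [Scheme.Hom.comp_apply, Scheme.Hom.comp_apply, hst] at e5
  rw [e5]
  exact ht

/-- A universally injective morphism is separated. -/
theorem isSeparated_of_universallyInjective {X Y : Scheme.{u}} (f : X ⟶ Y)
    [UniversallyInjective f] : IsSeparated f := by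
  have h1 : Surjective (pullback.diagonal f) := (UniversallyInjective.iff_diagonal f).mp inferInstance
  refine ⟨?_⟩
  refine .of_isPreimmersion _ ?_
  rw [Set.range_eq_univ.mpr h1.surj]
  exact isClosed_univ

end Groth.Agent.Desc.BaseOpenDD
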