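import Groth.Agent.Desc.CoactDescent

/-!
# Coactions from descent data, algebraic part

Purely algebraic packaging: from the "unit, transport and gluing" maps attached to a descent datum we
build a counital coassociative coaction and apply faithfully flat descent.
-/

set_option autoImplicit false
open TensorProduct
universe u v w

namespace Groth.Agent.Desc.CoactDescent

variable {R : Type u} {A : Type v} {M : Type w} [CommRing R] [CommRing A] [Algebra R A]
  [AddCommGroup M] [Module R M] [Module A M] [IsScalarTower R A M]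

/-- The data of the elementary maps attached to a module descent datum relative to `R → A`. -/
structure CoactData (R : Type u) (A : Type v) (M : Type w) [CommRing R] [CommRing A] [Algebra R A]
  [AddCommGroup M] [Module R M] [Module A M] [IsScalarTower R A M]
  (P E Q Q' : Type*) [AddCommGroup P] [AddCommGroup E] [AddCommGroup Q] [AddCommGroup Q']
  [Module A P] [Module R P] [IsScalarTower R A P] where
  /-- base change: sections of `p₂^* M` -/
  κ₂ : A ⊗[R] M →ₗ[A] P
  κ₂_bij : Function.Bijective κ₂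
  /-- `m ↦ δ (p₁^* m)` -/
  δu : M →ₗ[A] P
  /-- restriction to the diagonal -/
  t : P →+ E
  u : M →+ E
  u_inj : Function.Injective u
  t_κ₂ : ∀ s m, t (κ₂ (s ⊗ₜ m)) = u (s • m)
  t_δu : ∀ m, t (δu m) = u m
  /-- base change: sections of `q₃^* M` -/
  κ₃ : A ⊗[R] P →+ Q
  κ₃_inj : Function.Injective κ₃
  t₁₂ : P →+ Q'
  δ₂₃ : Q' →+ Q
  t₁₃ : P →+ Q
  κ₃_δu : ∀ s m, κ₃ (s ⊗ₜ δu m) = δ₂₃ (t₁₂ (κ₂ (s ⊗ₜ m)))
  κ₃_κ₂ : ∀ s m, κ₃ (s ⊗ₜ κ₂ (1 ⊗ₜ m)) = t₁₃ (κ₂ (s ⊗ₜ m))
  cocycle : ∀ m, δ₂₃ (t₁₂ (δu m)) = t₁₃ (δu m)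

namespace CoactData

variable {P E Q Q' : Type*} [AddCommGroup P] [AddCommGroup E] [AddCommGroup Q] [AddCommGroup Q']
  [Module A P] [Module R P] [IsScalarTower R A P] (d : CoactData R A M P E Q Q')

/-- the coaction -/
noncomputable def a : M →ₗ[A] A ⊗[R] M :=
  (LinearEquiv.ofBijective d.κ₂ d.κ₂_bij).symm.toLinearMap ∘ₗ d.δu

theorem κ₂_a (m : M) : d.κ₂ (d.a m) = d.δu m :=
  (LinearEquiv.ofBijective d.κ₂ d.κ₂_bij).apply_symm_apply (d.δu m)

theorem t_κ₂' (x : A ⊗[R] M) : d.t (d.κ₂ x) = d.u (mulMap R A M x) := by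
  induction x with
  | zero => simp
  | add x y hx hy => simp only [map_add, hx, hy]
  | tmul s m => rw [d.t_κ₂, mulMap_tmul]

theorem counit (m : M) : mulMap R A M (d.a m) = m := by
  apply d.u_inj
  rw [← t_κ₂', κ₂_a, t_δu]

theorem coassoc (m : M) : LinearMap.lTensor A (d.a.restrictScalars R) (d.a m) =
      LinearMap.lTensor A (TensorProduct.mk R A M 1) (d.a m) := by
  have hinj : Function.Injective (LinearMap.lTensor A (d.κ₂.restrictScalars R)) :=
    (LinearEquiv.lTensor A ((LinearEquiv.ofBijective d.κ₂ d.κ₂_bij).restrictScalars R)).injective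
  apply hinj
  apply d.κ₃_inj
  have h1 : ∀ x : A ⊗[R] M, d.κ₃ (LinearMap.lTensor A (d.κ₂.restrictScalars R)
      (LinearMap.lTensor A (d.a.restrictScalars R) x)) = d.δ₂₃ (d.t₁₂ (d.κ₂ x)) := by
    intro x
    induction x with
    | zero => simp
    | add x y hx hy => simp only [map_add, hx, hy]
    | tmul s m =>
      rw [LinearMap.lTensor_tmul, LinearMap.lTensor_tmul, ← d.κ₃_δu]
      simp only [LinearMap.restrictScalars_apply, κ₂_a]
  have h2 : ∀ x : A ⊗[R] M, d.κ₃ (LinearMap.lTensor A (d.κ₂.restrictScalars R)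
      (LinearMap.lTensor A (TensorProduct.mk R A M 1) x)) = d.t₁₃ (d.κ₂ x) := by
    intro x
    induction x with
    | zero => simp
    | add x y hx hy => simp only [map_add, hx, hy]
    | tmul s m =>
      rw [LinearMap.lTensor_tmul, LinearMap.lTensor_tmul, ← d.κ₃_κ₂]
      simp only [LinearMap.restrictScalars_apply, TensorProduct.mk_apply]
  rw [h1, h2, κ₂_a, cocycle]

theorem mem_coinv_iff (m : M) : m ∈ coinv d.a ↔ d.δu m = d.κ₂ (1 ⊗ₜ m) := by
  rw [mem_coinv, ← κ₂_a]
  exact ⟨fun h => by rw [h], fun h => d.κ₂_bij.1 h⟩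

theorem bijective [Module.Flat R A] : Function.Bijective (ofCoinv d.a) :=
  ofCoinv_bijective d.a d.counit d.coassoc

end CoactData

end Groth.Agent.Desc.CoactDescent
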