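import Groth.Agent.Desc.SecPresheaf
import Groth.Agent.Picfga.OverRep
import Mathlib.AlgebraicGeometry.Limits
import Mathlib.AlgebraicGeometry.Morphisms.Etale
import Mathlib.AlgebraicGeometry.Morphisms.Integral
import Mathlib.AlgebraicGeometry.Morphisms.FlatMono

/-!
# Splitting off a section of an étale separated descent datum

* `restrictDD D W hW`: the restriction of a descent datum to a saturated open `W` of `D.obj.left`;
* `rep_coprod`: if a Zariski sheaf `F` on `Over S` is the "disjoint union" of the point `σ` and of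
  a presheaf represented by `U`, then it is represented by `S ⨿ U`;
* `exists_complement`: the complement of a global section of an étale separated descent datum.
-/

set_option autoImplicit false
set_option backward.isDefEq.respectTransparency false
set_option backward.isDefEq.respectTransparency.types false
open CategoryTheory CategoryTheory.Limits AlgebraicGeometry Opposite
universe w u
open _root_.Desc Groth.Agent.Desc.SecFunctor Groth.Agent.Desc.SecPresheaf
open Groth.Agent.Picfga.OverRep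

namespace Groth.Agent.Desc.Complement

section restrictDD

variable {X S : Scheme.{u}} {p : X ⟶ S}

/-- Lifts to an open subscheme are lifts with image in the open. -/
noncomputable def liftsOpen (V : Over X) (W : V.left.Opens) {T : Scheme.{u}} (x : T ⟶ X) :
    Lifts (Over.mk (W.ι ≫ V.hom)) x ≃ {v : Lifts V x // Set.range v.1 ⊆ (W : Set V.left)} where
  toFun v := ⟨⟨v.1 ≫ W.ι, by rw [Category.assoc]; exact v.2⟩, by
    rw [Scheme.Hom.comp_base, TopCat.coe_comp]
    refine (Set.range_comp_subset_range _ _).trans ?_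
    exact (Scheme.Opens.range_ι W).le⟩
  invFun v := ⟨IsOpenImmersion.lift W.ι v.1.1 (v.2.trans (Scheme.Opens.range_ι W).ge), by
    change _ ≫ W.ι ≫ V.hom = x
    rw [← Category.assoc, IsOpenImmersion.lift_fac]; exact v.1.2⟩
  left_inv v := by
    apply Subtype.ext
    rw [← cancel_mono W.ι]
    simp
  right_inv v := by
    apply Subtype.ext
    apply Subtype.ext
    simp

theorem liftsOpen_val (V : Over X) (W : V.left.Opens) {T : Scheme.{u}} (x : T ⟶ X)
    (v : Lifts (Over.mk (W.ι ≫ V.hom)) x) : (liftsOpen V W x v).1.1 = v.1 ≫ W.ι := rfl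

theorem liftsOpen_symm_ι (V : Over X) (W : V.left.Opens) {T : Scheme.{u}} (x : T ⟶ X)
    (v : {v : Lifts V x // Set.range v.1 ⊆ (W : Set V.left)}) :
    ((liftsOpen V W x).symm v).1 ≫ W.ι = v.1.1 :=
  IsOpenImmersion.lift_fac _ _ _

/-- An open subset which is stable under the gluing bijections. -/
def Saturated (D : SchDD p) (W : D.obj.left.Opens) : Prop :=
  ∀ ⦃T : Scheme.{u}⦄ (x₀ x₁ : T ⟶ X) (h : x₀ ≫ p = x₁ ≫ p) (v : Lifts D.obj x₀),
    Set.range v.1 ⊆ (W : Set D.obj.left) → Set.range (D.φ x₀ x₁ h v).1 ⊆ (W : Set D.obj.left)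

theorem φ_φ (D : SchDD p) {T : Scheme.{u}} (x₀ x₁ : T ⟶ X) (h : x₀ ≫ p = x₁ ≫ p)
    (v : Lifts D.obj x₀) : D.φ x₁ x₀ h.symm (D.φ x₀ x₁ h v) = v := by
  rw [D.φ_comp, D.φ_self]

theorem Saturated.iff {D : SchDD p} {W : D.obj.left.Opens} (hW : Saturated D W) {T : Scheme.{u}}
    (x₀ x₁ : T ⟶ X) (h : x₀ ≫ p = x₁ ≫ p) (v : Lifts D.obj x₀) :
    Set.range v.1 ⊆ (W : Set D.obj.left) ↔
      Set.range (D.φ x₀ x₁ h v).1 ⊆ (W : Set D.obj.left) := by
  refine ⟨hW x₀ x₁ h v, fun h' => ?_⟩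
  have := hW x₁ x₀ h.symm _ h'
  rwa [φ_φ] at this

/-- The restriction of a descent datum to a saturated open. -/
noncomputable def restrictDD (D : SchDD p) (W : D.obj.left.Opens) (hW : Saturated D W) :
    SchDD p where
  obj := Over.mk (W.ι ≫ D.obj.hom)
  φ T x₀ x₁ h := (liftsOpen D.obj W x₀).trans
    ((Equiv.subtypeEquiv (D.φ x₀ x₁ h) (hW.iff x₀ x₁ h)).trans (liftsOpen D.obj W x₁).symm)
  φ_natural T T' g x₀ x₁ h h' v v' hv := by
    rw [← cancel_mono W.ι]
    simp only [Equiv.trans_apply, Category.assoc, liftsOpen_symm_ι]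
    refine D.φ_natural g x₀ x₁ h h' (liftsOpen D.obj W x₀ v).1
      (liftsOpen D.obj W _ v').1 ?_
    rw [liftsOpen_val, liftsOpen_val, hv, Category.assoc]
  φ_self T x v := by
    rw [Equiv.trans_apply, Equiv.trans_apply, Equiv.symm_apply_eq]
    apply Subtype.ext
    exact D.φ_self x _
  φ_comp T x₀ x₁ x₂ h₀₁ h₁₂ v := by
    simp only [Equiv.trans_apply, Equiv.apply_symm_apply]
    rw [Equiv.symm_apply_eq, Equiv.apply_symm_apply]
    apply Subtype.ext
    exact D.φ_comp x₀ x₁ x₂ h₀₁ h₁₂ _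

theorem restrictDD_φ {D : SchDD p} {W : D.obj.left.Opens} (hW : Saturated D W) {T : Scheme.{u}}
    (x₀ x₁ : T ⟶ X) (h : x₀ ≫ p = x₁ ≫ p) (v : Lifts (restrictDD D W hW).obj x₀) :
    ((restrictDD D W hW).φ x₀ x₁ h v).1 ≫ W.ι =
      (D.φ x₀ x₁ h (liftsOpen D.obj W x₀ v).1).1 := by
  simp only [restrictDD, Equiv.trans_apply, liftsOpen_symm_ι]
  rfl

/-- The inclusion of the restriction of a descent datum. -/
noncomputable def restrictι {D : SchDD p} {W : D.obj.left.Opens} (hW : Saturated D W) :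
    restrictDD D W hW ⟶ D :=
  ⟨Over.homMk W.ι rfl, by
    intro T x₀ x₁ h v w hw
    have : w = (liftsOpen D.obj W x₀ v).1 := Subtype.ext hw
    subst this
    exact (restrictDD_φ hW x₀ x₁ h v).symm⟩

/-- Inclusion on sections. -/
noncomputable def ιSec {D : SchDD p} {W : D.obj.left.Opens} (hW : Saturated D W) :
    secFunctor (restrictDD D W hW) ⟶ secFunctor D :=
  Functor.whiskerLeft _ (yoneda.map (restrictι hW))

theorem ev_ιSec {D : SchDD p} {W : D.obj.left.Opens} (hW : Saturated D W) {T : Over S}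
    (a : (secFunctor (restrictDD D W hW)).obj (op T)) {Z : Scheme.{u}} (z : Z ⟶ T.left)
    (x : Z ⟶ X) (h : x ≫ p = z ≫ T.hom) :
    (ev ((ιSec hW).app (op T) a) z x h).1 = (ev a z x h).1 ≫ W.ι :=
  (Category.assoc _ _ _).symm

theorem ιSec_injective {D : SchDD p} {W : D.obj.left.Opens} (hW : Saturated D W) (T : Over S) :
    Function.Injective ((ιSec hW).app (op T)) := by
  intro a b hab
  apply ev_ext
  intro Z z x h
  apply (cancel_mono W.ι).1
  refine (ev_ιSec hW a z x h).symm.trans (Eq.trans ?_ (ev_ιSec hW b z x h))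
  rw [hab]

/-- A section all of whose values lie in `W` comes from the restricted descent datum. -/
theorem exists_ιSec {D : SchDD p} {W : D.obj.left.Opens} (hW : Saturated D W) {T : Over S}
    (b : (secFunctor D).obj (op T))
    (hb : ∀ ⦃Z : Scheme.{u}⦄ (z : Z ⟶ T.left) (x : Z ⟶ X) (h : x ≫ p = z ≫ T.hom),
      Set.range (ev b z x h).1 ⊆ (W : Set D.obj.left)) :
    ∃ a, (ιSec hW).app (op T) a = b := by
  obtain ⟨v, hv⟩ : ∃ v : ∀ ⦃Z : Scheme.{u}⦄ (z : Z ⟶ T.left) (x : Z ⟶ X)
      (_ : x ≫ p = z ≫ T.hom), Lifts (restrictDD D W hW).obj x,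
      ∀ ⦃Z : Scheme.{u}⦄ (z : Z ⟶ T.left) (x : Z ⟶ X) (h : x ≫ p = z ≫ T.hom),
        (v z x h).1 ≫ W.ι = (ev b z x h).1 :=
    ⟨fun Z z x h => (liftsOpen D.obj W x).symm ⟨ev b z x h, hb z x h⟩,
      fun Z z x h => liftsOpen_symm_ι _ _ _ _⟩
  refine ⟨mk v ?_ ?_, ?_⟩
  · intro Z Z' g z x h h'
    apply (cancel_mono W.ι).1
    rw [Category.assoc, hv, hv]
    exact ev_comp b g z x h rfl rfl h'
  · intro Z z x₀ x₁ h₀ h₁
    apply Subtype.ext
    apply (cancel_mono W.ι).1
    rw [restrictDD_φ, hv]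
    refine Eq.trans ?_ (congrArg Subtype.val (φ_ev b z x₀ x₁ h₀ h₁))
    congr 2
    exact Subtype.ext (hv z x₀ h₀)
  · apply ev_ext
    intro Z z x h
    rw [ev_ιSec, ev_mk, hv]

end restrictDD

section coprod

variable {S : Scheme.{u}}

/-- The structure morphism of `T`, as a morphism over `S`. -/
noncomputable abbrev toBase (T : Over S) : T ⟶ Over.mk (𝟙 S) :=
  Over.homMk T.hom (Category.comp_id _)

theorem toBase_unique {T : Over S} (f : T ⟶ Over.mk (𝟙 S)) : f = toBase T := by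
  ext
  have := Over.w f
  simpa using this

/-- Sections of a Zariski sheaf over an empty scheme are all equal. -/
theorem eq_of_isEmpty {F : (Over S)ᵒᵖ ⥤ Type w} (hF : IsZarSheaf F) {T : Over S} [IsEmpty T.left]
    (a b : F.obj (op T)) : a = b :=
  hF.ext_local T a b (fun t => isEmptyElim t)

/-- An element whose pullback map is injective and locally surjective is universal. -/
theorem bijective_of_locally {F : (Over S)ᵒᵖ ⥤ Type u} (hF : IsZarSheaf F) {P : Over S}
    (ω : F.obj (op P))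
    (inj : ∀ (T : Over S), Function.Injective (fun f : T ⟶ P => F.map f.op ω))
    (surj : ∀ (T : Over S) (t : F.obj (op T)) (y : T.left), ∃ (W : T.left.Opens)
      (k : Over.mk (W.ι ≫ T.hom) ⟶ P), y ∈ W ∧ F.map k.op ω = F.map (res T W).op t) (T : Over S) :
    Function.Bijective (fun f : T ⟶ P => F.map f.op ω) := by
  refine ⟨inj T, fun t => ?_⟩
  choose W k hW hk using surj T t
  have h1 : ∀ (y : T.left) {Z : Over S} (c : Z ⟶ Over.mk ((W y).ι ≫ T.hom)),
      F.map (c ≫ k y).op ω = F.map (c ≫ res T (W y)).op t := by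
    intro y Z c
    rw [map_comp_apply, map_comp_apply, hk]
  obtain ⟨f, hf⟩ := glue_hom T P (pointCover T W hW) k (by
    intro y y' Z a b hab
    apply inj Z
    exact (h1 y a).trans ((map_eq_of_eq hab t).trans (h1 y' b).symm))
  refine ⟨f, ?_⟩
  apply hF.ext_cover T (pointCover T W hW)
  intro y
  rw [← map_comp_apply, hf]
  exact hk y

/-- A factorization of a restriction of `f` through an open immersion. -/
theorem exists_fac {T P V : Over S} (f : T ⟶ P) (i : V ⟶ P) [IsOpenImmersion i.left]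
    (W : T.left.Opens) (hW : ∀ y ∈ W, f.left y ∈ Set.range i.left) :
    ∃ g : Over.mk (W.ι ≫ T.hom) ⟶ V, g ≫ i = res T W ≫ f := by
  have h : Set.range (W.ι ≫ f.left) ⊆ Set.range i.left := by
    rintro _ ⟨y, rfl⟩
    exact hW _ y.2
  refine ⟨Over.homMk (IsOpenImmersion.lift i.left (W.ι ≫ f.left) h) ?_, ?_⟩
  · change _ ≫ V.hom = W.ι ≫ T.hom
    rw [← Over.w i, ← Category.assoc, IsOpenImmersion.lift_fac, Category.assoc, Over.w f]
  · ext
    exact IsOpenImmersion.lift_fac _ _ _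

theorem rep_coprod {F F' : (Over S)ᵒᵖ ⥤ Type u} (hF : IsZarSheaf F) (ι : F' ⟶ F)
    (hι : ∀ T : Over S, Function.Injective (ι.app (op T))) (σ : F.obj (op (Over.mk (𝟙 S))))
    (disj : ∀ (T : Over S) (a : F'.obj (op T)),
      ι.app (op T) a = F.map (toBase T).op σ → IsEmpty T.left)
    (cover : ∀ (T : Over S) (t : F.obj (op T)) (y : T.left), ∃ (W : T.left.Opens), y ∈ W ∧
      (F.map (res T W).op t = F.map (toBase _).op σ ∨
        ∃ a : F'.obj (op (Over.mk (W.ι ≫ T.hom))), F.map (res T W).op t = ι.app _ a))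
    {U : Over S} (e : F'.RepresentableBy U) :
    Nonempty (F.RepresentableBy (Over.mk (coprod.desc (𝟙 S) U.hom))) := by
  obtain ⟨P, hP⟩ : ∃ P : Over S, P = Over.mk (coprod.desc (𝟙 S) U.hom) := ⟨_, rfl⟩
  rw [← hP]
  obtain ⟨i₁, i₂, hi₁, hi₂, hd, hc⟩ : ∃ (i₁ : Over.mk (𝟙 S) ⟶ P) (i₂ : U ⟶ P)
      (_ : IsOpenImmersion i₁.left) (_ : IsOpenImmersion i₂.left),
      (∀ a b, i₁.left a ≠ i₂.left b) ∧
      (∀ y, y ∈ Set.range i₁.left ∨ y ∈ Set.range i₂.left) := by
    subst hP
    refine ⟨Over.homMk coprod.inl (coprod.inl_desc _ _), Over.homMk coprod.inr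
      (coprod.inr_desc _ _), inferInstanceAs (IsOpenImmersion (coprod.inl : S ⟶ S ⨿ U.left)),
      inferInstanceAs (IsOpenImmersion (coprod.inr : U.left ⟶ S ⨿ U.left)), ?_, ?_⟩
    · intro a b h
      exact Set.disjoint_iff_forall_ne.mp (isCompl_range_inl_inr S U.left).1 ⟨a, rfl⟩ ⟨b, rfl⟩ h
    · intro y
      have := (isCompl_range_inl_inr S U.left).2
      rw [codisjoint_iff] at this
      have h : y ∈ Set.range (coprod.inl : S ⟶ S ⨿ U.left) ⊔
        Set.range (coprod.inr : U.left ⟶ S ⨿ U.left) := by rw [this]; trivial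
      exact h
  have hm₁ : ∀ {W : Over S} (a b : W ⟶ Over.mk (𝟙 S)), a = b := fun a b => by
    rw [toBase_unique a, toBase_unique b]
  have hm₂ : ∀ {W : Over S} (a b : W ⟶ U), a ≫ i₂ = b ≫ i₂ → a = b := by
    intro W a b hab
    ext
    rw [← cancel_mono i₂.left]
    exact congrArg (fun f => f.left) hab
  have he : ∀ {W : Over S} (a : W ⟶ Over.mk (𝟙 S)) (b : W ⟶ U), a ≫ i₁ = b ≫ i₂ →
      IsEmpty W.left := by
    intro W a b hab
    refine ⟨fun w => hd (a.left w) (b.left w) ?_⟩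
    have h1 : a.left ≫ i₁.left = b.left ≫ i₂.left := congrArg (fun f => f.left) hab
    exact congrArg (fun f => f w) h1
  obtain ⟨ω, hω₁, hω₂⟩ : ∃ ω : F.obj (op P), F.map i₁.op ω = σ ∧
      F.map i₂.op ω = ι.app _ (e.homEquiv (𝟙 U)) := by
    let 𝒰 : Cov P :=
      { ι := ULift Bool
        V b := match b with
          | ⟨false⟩ => Over.mk (𝟙 S)
          | ⟨true⟩ => U
        j b := match b with
          | ⟨false⟩ => i₁
          | ⟨true⟩ => i₂
        isOpen b := match b with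
          | ⟨false⟩ => hi₁
          | ⟨true⟩ => hi₂
        covers y := by
          rcases hc y with ⟨a, ha⟩ | ⟨a, ha⟩
          · exact ⟨⟨false⟩, a, ha⟩
          · exact ⟨⟨true⟩, a, ha⟩ }
    obtain ⟨ω, hω, -⟩ := hF P 𝒰 (fun b => match b with
          | ⟨false⟩ => σ
          | ⟨true⟩ => ι.app _ (e.homEquiv (𝟙 U))) (by
      rintro (⟨⟨⟩⟩ : ULift Bool) (⟨⟨⟩⟩ : ULift Bool) W a b hab
      · exact map_eq_of_eq (hm₁ a b) _
      · have : IsEmpty W.left := he a b hab
        exact eq_of_isEmpty hF _ _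
      · have : IsEmpty W.left := he b a hab.symm
        exact eq_of_isEmpty hF _ _
      · exact map_eq_of_eq (hm₂ a b hab) _)
    exact ⟨ω, hω ⟨false⟩, hω ⟨true⟩⟩
  have key₁ : ∀ {W : Over S} (f : W ⟶ Over.mk (𝟙 S)), F.map (f ≫ i₁).op ω =
      F.map (toBase W).op σ := by
    intro W f
    rw [map_comp_apply, hω₁, toBase_unique f]
  have key₂ : ∀ {W : Over S} (f : W ⟶ U), F.map (f ≫ i₂).op ω =
      ι.app _ (e.homEquiv f) := by
    intro W f
    rw [map_comp_apply, hω₂, e.homEquiv_eq f]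
    exact (NatTrans.naturality_apply ι f.op _).symm
  have inj : ∀ (T : Over S), Function.Injective (fun f : T ⟶ P => F.map f.op ω) := by
    intro T f g hfg
    dsimp only at hfg
    apply hom_ext_local
    intro t
    have hfg' : ∀ W : T.left.Opens, F.map (res T W ≫ f).op ω = F.map (res T W ≫ g).op ω := by
      intro W
      rw [map_comp_apply, map_comp_apply, hfg]
    rcases hc (f.left t) with h | h <;> rcases hc (g.left t) with h' | h'
    · refine ⟨f.left ⁻¹ᵁ i₁.left.opensRange ⊓ g.left ⁻¹ᵁ i₁.left.opensRange, ⟨h, h'⟩, ?_⟩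
      obtain ⟨f', hf'⟩ := exists_fac f i₁ (f.left ⁻¹ᵁ i₁.left.opensRange ⊓
        g.left ⁻¹ᵁ i₁.left.opensRange) (fun y hy => hy.1)
      obtain ⟨g', hg'⟩ := exists_fac g i₁ (f.left ⁻¹ᵁ i₁.left.opensRange ⊓
        g.left ⁻¹ᵁ i₁.left.opensRange) (fun y hy => hy.2)
      rw [← hf', ← hg', hm₁ f' g']
    · exfalso
      obtain ⟨f', hf'⟩ := exists_fac f i₁ (f.left ⁻¹ᵁ i₁.left.opensRange ⊓
        g.left ⁻¹ᵁ i₂.left.opensRange) (fun y hy => hy.1)
      obtain ⟨g', hg'⟩ := exists_fac g i₂ (f.left ⁻¹ᵁ i₁.left.opensRange ⊓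
        g.left ⁻¹ᵁ i₂.left.opensRange) (fun y hy => hy.2)
      have := hfg' (f.left ⁻¹ᵁ i₁.left.opensRange ⊓ g.left ⁻¹ᵁ i₂.left.opensRange)
      rw [← hf', ← hg', key₁, key₂] at this
      exact (disj _ _ this.symm).false ⟨t, h, h'⟩
    · exfalso
      obtain ⟨f', hf'⟩ := exists_fac f i₂ (f.left ⁻¹ᵁ i₂.left.opensRange ⊓
        g.left ⁻¹ᵁ i₁.left.opensRange) (fun y hy => hy.1)
      obtain ⟨g', hg'⟩ := exists_fac g i₁ (f.left ⁻¹ᵁ i₂.left.opensRange ⊓
        g.left ⁻¹ᵁ i₁.left.opensRange) (fun y hy => hy.2)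
      have := hfg' (f.left ⁻¹ᵁ i₂.left.opensRange ⊓ g.left ⁻¹ᵁ i₁.left.opensRange)
      rw [← hf', ← hg', key₁, key₂] at this
      exact (disj _ _ this).false ⟨t, h, h'⟩
    · refine ⟨f.left ⁻¹ᵁ i₂.left.opensRange ⊓ g.left ⁻¹ᵁ i₂.left.opensRange, ⟨h, h'⟩, ?_⟩
      obtain ⟨f', hf'⟩ := exists_fac f i₂ (f.left ⁻¹ᵁ i₂.left.opensRange ⊓
        g.left ⁻¹ᵁ i₂.left.opensRange) (fun y hy => hy.1)
      obtain ⟨g', hg'⟩ := exists_fac g i₂ (f.left ⁻¹ᵁ i₂.left.opensRange ⊓
        g.left ⁻¹ᵁ i₂.left.opensRange) (fun y hy => hy.2)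
      have := hfg' (f.left ⁻¹ᵁ i₂.left.opensRange ⊓ g.left ⁻¹ᵁ i₂.left.opensRange)
      rw [← hf', ← hg', key₂, key₂] at this
      rw [← hf', ← hg', e.homEquiv.injective (hι _ this)]
  have bij := bijective_of_locally hF ω inj (by
    intro T t y
    obtain ⟨W, hy, h | ⟨a, ha⟩⟩ := cover T t y
    · exact ⟨W, toBase _ ≫ i₁, hy, by rw [key₁, h]⟩
    · exact ⟨W, e.homEquiv.symm a ≫ i₂, hy, by rw [key₂, ha, Equiv.apply_symm_apply]⟩)
  exact ⟨{ homEquiv {T} := Equiv.ofBijective _ (bij T)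
           homEquiv_comp {T T'} f g := map_comp_apply f g ω }⟩

end coprod

section complement

variable {X S : Scheme.{u}} {p : X ⟶ S} (D : SchDD p)

/-- The value of a global section. -/
noncomputable def val (σ : (secFunctor D).obj (op (Over.mk (𝟙 S)))) : X ⟶ D.obj.left :=
  (ev σ p (𝟙 X) (by simp)).1

theorem val_hom (σ : (secFunctor D).obj (op (Over.mk (𝟙 S)))) : val D σ ≫ D.obj.hom = 𝟙 X :=
  (ev σ p (𝟙 X) (by simp)).2

theorem ev_toBase (σ : (secFunctor D).obj (op (Over.mk (𝟙 S)))) {T : Over S} {Z : Scheme.{u}}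
    (z : Z ⟶ T.left) (x : Z ⟶ X) (h : x ≫ p = z ≫ T.hom) :
    (ev ((secFunctor D).map (toBase T).op σ) z x h).1 = x ≫ val D σ := by
  rw [ev_map (toBase T) σ z x h (by simpa using h)]
  exact ev_comp σ x p (𝟙 X) _ (by simpa using h.symm) (Category.comp_id _).symm _

theorem φ_val (σ : (secFunctor D).obj (op (Over.mk (𝟙 S)))) {T : Scheme.{u}} (x₀ x₁ : T ⟶ X)
    (h : x₀ ≫ p = x₁ ≫ p) (v : Lifts D.obj x₀) (hv : v.1 = x₀ ≫ val D σ) :
    (D.φ x₀ x₁ h v).1 = x₁ ≫ val D σ := by
  have h1 := φ_ev ((secFunctor D).map (toBase (Over.mk (x₀ ≫ p))).op σ) (𝟙 T) x₀ x₁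
    (by simp) (by simp [h])
  have h2 := congrArg Subtype.val h1
  rw [ev_toBase] at h2
  rw [← h2]
  congr 2
  apply Subtype.ext
  rw [ev_toBase, hv]

/-- Testing on points whether the image of a lift is in an open. -/
theorem saturated_of_points (W : D.obj.left.Opens)
    (h : ∀ ⦃K : Type u⦄ [Field K] (x₀ x₁ : Spec (.of K) ⟶ X) (h : x₀ ≫ p = x₁ ≫ p)
      (v : Lifts D.obj x₀), Set.range v.1 ⊆ (W : Set D.obj.left) →
      Set.range (D.φ x₀ x₁ h v).1 ⊆ (W : Set D.obj.left)) : Saturated D W := by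
  intro T x₀ x₁ e v hv
  rintro _ ⟨t, rfl⟩
  have h1 := h (T.fromSpecResidueField t ≫ x₀) (T.fromSpecResidueField t ≫ x₁) (by
    rw [Category.assoc, Category.assoc, e]) ⟨T.fromSpecResidueField t ≫ v.1, by
      rw [Category.assoc, v.2]⟩ (by
      rintro _ ⟨y, rfl⟩
      exact hv ⟨_, rfl⟩)
  have h2 := D.φ_natural (T.fromSpecResidueField t) x₀ x₁ e (by
    rw [Category.assoc, Category.assoc, e]) v ⟨T.fromSpecResidueField t ≫ v.1, by
      rw [Category.assoc, v.2]⟩ rfl
  refine h1 ⟨IsLocalRing.closedPoint _, ?_⟩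
  refine (congrArg (fun f => f (IsLocalRing.closedPoint _)) h2).trans ?_
  refine (Scheme.Hom.comp_apply _ _ _).trans ?_
  exact congrArg _ (T.fromSpecResidueField_apply t _)

section

variable (σ : (secFunctor D).obj (op (Over.mk (𝟙 S))))

instance isClosedImmersion_val [IsSeparated D.obj.hom] : IsClosedImmersion (val D σ) := by
  have h := val_hom D σ
  have : IsClosedImmersion (val D σ ≫ D.obj.hom) := by rw [h]; infer_instance
  exact IsClosedImmersion.of_comp (val D σ) D.obj.hom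

instance isOpenImmersion_val [Etale D.obj.hom] : IsOpenImmersion (val D σ) := by
  have h := val_hom D σ
  have : Etale (val D σ ≫ D.obj.hom) := by rw [h]; infer_instance
  have : Etale (val D σ) := Etale.of_comp (val D σ) D.obj.hom
  have : Mono (val D σ) := by
    have : Mono (val D σ ≫ D.obj.hom) := by rw [h]; infer_instance
    exact mono_of_mono (val D σ) D.obj.hom
  exact IsOpenImmersion.of_flat_of_mono _

theorem eq_comp_val [IsOpenImmersion (val D σ)] {T : Scheme.{u}} {x : T ⟶ X} (v : Lifts D.obj x)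
    (hv : Set.range v.1 ⊆ Set.range (val D σ)) : v.1 = x ≫ val D σ := by
  have h1 : IsOpenImmersion.lift (val D σ) v.1 hv ≫ val D σ = v.1 := IsOpenImmersion.lift_fac _ _ _
  have h2 : IsOpenImmersion.lift (val D σ) v.1 hv = x := by
    have := congrArg (· ≫ D.obj.hom) h1
    rwa [Category.assoc, val_hom, Category.comp_id, v.2] at this
  rw [← h1, h2]

/-- The complement of the image of a section. -/
noncomputable def compl [IsSeparated D.obj.hom] : D.obj.left.Opens :=
  ⟨(Set.range (val D σ))ᶜ, (val D σ).isClosedEmbedding.isClosed_range.isOpen_compl⟩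

theorem saturated_compl [IsSeparated D.obj.hom] [IsOpenImmersion (val D σ)] :
    Saturated D (compl D σ) := by
  apply saturated_of_points
  intro K _ x₀ x₁ h v hv
  rintro _ ⟨k, rfl⟩
  intro hk
  have h1 : (D.φ x₀ x₁ h v).1 = x₁ ≫ val D σ := by
    apply eq_comp_val
    rintro _ ⟨k', rfl⟩
    rwa [Subsingleton.elim k' k]
  have h2 := φ_val D σ x₁ x₀ h.symm (D.φ x₀ x₁ h v) h1
  rw [φ_φ] at h2
  refine hv ⟨k, rfl⟩ ?_
  rw [h2]
  exact ⟨x₀ k, rfl⟩

theorem disj_compl [Surjective p] [IsSeparated D.obj.hom] [IsOpenImmersion (val D σ)]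
    (T : Over S) (a : (secFunctor (restrictDD D (compl D σ) (saturated_compl D σ))).obj (op T))
    (ha : (ιSec (saturated_compl D σ)).app (op T) a = (secFunctor D).map (toBase T).op σ) :
    IsEmpty T.left := by
  by_contra hT
  rw [not_isEmpty_iff] at hT
  obtain ⟨t⟩ := hT
  obtain ⟨y, hy⟩ := (pullback.snd p T.hom).surjective t
  have h1 := congrArg (fun b => (ev b (pullback.snd p T.hom) (pullback.fst p T.hom)
    pullback.condition).1) ha
  dsimp only at h1
  rw [ev_ιSec, ev_toBase] at h1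
  have h2 := congrArg (fun f => f y) h1
  dsimp only at h2
  rw [Scheme.Hom.comp_apply, Scheme.Hom.comp_apply] at h2
  have h3 : ((ev a (pullback.snd p T.hom) (pullback.fst p T.hom) pullback.condition).1 y).1 ∈
    (Set.range (val D σ))ᶜ := ((ev a (pullback.snd p T.hom) (pullback.fst p T.hom)
      pullback.condition).1 y).2
  exact h3 ⟨_, h2.symm⟩

/-- The value of a section at the universal point of `X ×_S T`. -/
noncomputable def uval {T : Over S} (t : (secFunctor D).obj (op T)) :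
    Lifts D.obj (pullback.fst p T.hom) :=
  ev t (pullback.snd p T.hom) (pullback.fst p T.hom) pullback.condition

theorem ev_eq_uval {T : Over S} (t : (secFunctor D).obj (op T)) {Z : Scheme.{u}} (z : Z ⟶ T.left)
    (x : Z ⟶ X) (h : x ≫ p = z ≫ T.hom) : (ev t z x h).1 = pullback.lift x z h ≫ (uval D t).1 :=
  ev_comp t (pullback.lift x z h) _ _ _ (pullback.lift_snd _ _ _).symm
      (pullback.lift_fst _ _ _).symm _

theorem range_ev_res {T : Over S} (t : (secFunctor D).obj (op T)) (W : T.left.Opens)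
    (A : Set D.obj.left)
    (hW : ∀ w : (pullback p T.hom : Scheme.{u}), pullback.snd p T.hom w ∈ W → (uval D t).1 w ∈ A)
    {Z : Scheme.{u}} (z : Z ⟶ (Over.mk (W.ι ≫ T.hom)).left) (x : Z ⟶ X)
    (h : x ≫ p = z ≫ (Over.mk (W.ι ≫ T.hom)).hom) :
    Set.range (ev ((secFunctor D).map (res T W).op t) z x h).1 ⊆ A := by
  have h' : x ≫ p = (z ≫ W.ι) ≫ T.hom := h.trans (Category.assoc _ _ _).symm
  have e : (ev ((secFunctor D).map (res T W).op t) z x h).1 =
      pullback.lift x (z ≫ W.ι) h' ≫ (uval D t).1 :=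
    (congrArg Subtype.val (ev_map (res T W) t z x h h')).trans (ev_eq_uval D t _ _ h')
  rw [e]
  rintro _ ⟨w, rfl⟩
  rw [Scheme.Hom.comp_apply]
  apply hW
  rw [← Scheme.Hom.comp_apply, pullback.lift_snd, Scheme.Hom.comp_apply]
  exact (z w).2

theorem uval_mem_range [IsSeparated D.obj.hom] [IsOpenImmersion (val D σ)] {T : Over S}
    (t : (secFunctor D).obj (op T)) (a b : (pullback p T.hom : Scheme.{u}))
    (hab : pullback.snd p T.hom a = pullback.snd p T.hom b)
    (hb : (uval D t).1 b ∈ Set.range (val D σ)) : (uval D t).1 a ∈ Set.range (val D σ) := by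
  by_contra ha
  obtain ⟨c, hca, hcb⟩ := Scheme.Pullback.exists_preimage_pullback
        (f := pullback.snd p T.hom) (g := pullback.snd p T.hom) a b hab
  obtain ⟨K, _, za, zb, hz, k, hka, hkb⟩ : ∃ (K : Type u) (_ : Field K)
      (za zb : Spec (.of K) ⟶ pullback p T.hom)
      (_ : za ≫ pullback.snd p T.hom = zb ≫ pullback.snd p T.hom) (k : Spec (.of K)),
      za k = a ∧ zb k = b := by
    refine ⟨_, inferInstance, (Scheme.fromSpecResidueField _ c) ≫ pullback.fst _ _,
      (Scheme.fromSpecResidueField _ c) ≫ pullback.snd _ _, by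
        rw [Category.assoc, Category.assoc, pullback.condition], IsLocalRing.closedPoint _, ?_, ?_⟩
    · exact (Scheme.Hom.comp_apply _ _ _).trans
        ((congrArg _ (Scheme.fromSpecResidueField_apply c _)).trans hca)
    · exact (Scheme.Hom.comp_apply _ _ _).trans
        ((congrArg _ (Scheme.fromSpecResidueField_apply c _)).trans hcb)
  have h₀ : (za ≫ pullback.fst p T.hom) ≫ p = (za ≫ pullback.snd p T.hom) ≫ T.hom := by
    rw [Category.assoc, Category.assoc, pullback.condition]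
  have h₁ : (zb ≫ pullback.fst p T.hom) ≫ p = (za ≫ pullback.snd p T.hom) ≫ T.hom := by
    rw [hz, Category.assoc, Category.assoc, pullback.condition]
  have h2 := φ_ev t (za ≫ pullback.snd p T.hom) _ _ h₀ h₁
  have h3 : (ev t (za ≫ pullback.snd p T.hom) (za ≫ pullback.fst p T.hom) h₀).1 =
      za ≫ (uval D t).1 := ev_comp t za _ _ _ rfl rfl _
  have h4 : (ev t (za ≫ pullback.snd p T.hom) (zb ≫ pullback.fst p T.hom) h₁).1 =
      zb ≫ (uval D t).1 := ev_comp t zb _ _ _ hz rfl _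
  have h5 : Set.range (ev t (za ≫ pullback.snd p T.hom) (za ≫ pullback.fst p T.hom) h₀).1 ⊆
      (compl D σ : Set D.obj.left) := by
    rintro _ ⟨k', rfl⟩
    rw [Subsingleton.elim k' k, h3, Scheme.Hom.comp_apply, hka]
    exact ha
  have h6 := saturated_compl D σ _ _ (h₀.trans h₁.symm) _ h5
  rw [h2] at h6
  have h7 := h6 ⟨k, rfl⟩
  rw [h4, Scheme.Hom.comp_apply, hkb] at h7
  exact h7 hb

theorem cover_compl [IsIntegralHom p] [IsSeparated D.obj.hom] [IsOpenImmersion (val D σ)]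
    (T : Over S) (t : (secFunctor D).obj (op T)) (y : T.left) :
    ∃ (W : T.left.Opens), y ∈ W ∧
      ((secFunctor D).map (res T W).op t = (secFunctor D).map (toBase _).op σ ∨
        ∃ a : (secFunctor (restrictDD D (compl D σ) (saturated_compl D σ))).obj
            (op (Over.mk (W.ι ≫ T.hom))),
          (secFunctor D).map (res T W).op t = (ιSec (saturated_compl D σ)).app _ a) := by
  have hcl : IsClosedMap (pullback.snd p T.hom) := (pullback.snd p T.hom).isClosedMap
  obtain ⟨A₁, hA₁⟩ : ∃ A : Set T.left, A = (pullback.snd p T.hom) '' ((uval D t).1 ⁻¹'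
    (Set.range (val D σ))ᶜ) := ⟨_, rfl⟩
  obtain ⟨A₂, hA₂⟩ : ∃ A : Set T.left, A = (pullback.snd p T.hom) '' ((uval D t).1 ⁻¹'
    (Set.range (val D σ))) := ⟨_, rfl⟩
  have hA₁' : IsClosed A₁ := by
    rw [hA₁]
    exact hcl _ (((val D σ).opensRange.2.isClosed_compl).preimage (uval D t).1.continuous)
  have hA₂' : IsClosed A₂ := by
    rw [hA₂]
    exact hcl _ (((val D σ).isClosedEmbedding.isClosed_range).preimage (uval D t).1.continuous)
  by_cases hy₁ : y ∈ A₁
  · have hy₂ : y ∉ A₂ := by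
      intro hy₂
      rw [hA₁] at hy₁
      rw [hA₂] at hy₂
      obtain ⟨a, ha, ha'⟩ := hy₁
      obtain ⟨b, hb, hb'⟩ := hy₂
      exact ha (uval_mem_range D σ t a b (ha'.trans hb'.symm) hb)
    refine ⟨⟨A₂ᶜ, hA₂'.isOpen_compl⟩, hy₂, Or.inr ?_⟩
    obtain ⟨a, ha⟩ := exists_ιSec (saturated_compl D σ)
      ((secFunctor D).map (res T ⟨A₂ᶜ, hA₂'.isOpen_compl⟩).op t) (by
      intro Z z x h
      apply range_ev_res
      intro w hw hw'
      apply hw
      rw [hA₂]
      exact ⟨w, hw', rfl⟩)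
    exact ⟨a, ha.symm⟩
  · refine ⟨⟨A₁ᶜ, hA₁'.isOpen_compl⟩, hy₁, Or.inl ?_⟩
    apply ev_ext
    intro Z z x h
    rw [ev_toBase]
    apply eq_comp_val
    apply range_ev_res
    intro w hw
    by_contra hw'
    apply hw
    rw [hA₁]
    exact ⟨w, hw', rfl⟩

end

end complement

/-- The complement of a global section of an étale separated descent datum. -/
theorem exists_complement {X S : Scheme.{u}} (p : X ⟶ S)
    [IsIntegralHom p] [Surjective p] (D : SchDD p) [QuasiCompact D.obj.hom] [IsSeparated D.obj.hom]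
    [Etale D.obj.hom] (hZ : IsZarSheaf (secFunctor D))
    (σ : (secFunctor D).obj (op (Over.mk (𝟙 S)))) :
    ∃ D' : SchDD p, QuasiCompact D'.obj.hom ∧ IsSeparated D'.obj.hom ∧ Etale D'.obj.hom ∧
      -- bounds
      (∀ n : ℕ, (∀ (Ω : Type u) [Field Ω] (s : Spec (.of Ω) ⟶ S)
          (a : Fin (n + 2) → (secFunctor D).obj (op (Over.mk s))), ¬ Function.Injective a) →
        (∀ (Ω : Type u) [Field Ω] (s : Spec (.of Ω) ⟶ S)
          (a : Fin (n + 1) → (secFunctor D').obj (op (Over.mk s))), ¬ Function.Injective a)) ∧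
      -- representability
      ∀ U : Over S, (secFunctor D').RepresentableBy U →
        Nonempty ((secFunctor D).RepresentableBy (Over.mk (coprod.desc (𝟙 S) U.hom))) := by
  refine ⟨restrictDD D (compl D σ) (saturated_compl D σ), ?_, ?_, ?_, ?_, ?_⟩
  · have : QuasiCompact (compl D σ).ι := by
      refine ⟨fun K hK hK' => ?_⟩
      rw [← Set.preimage_inter_range,
        (compl D σ).ι.isOpenEmbedding.isInducing.isCompact_preimage_iff Set.inter_subset_right,
        Scheme.Opens.range_ι]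
      exact hK'.inter_right (val D σ).opensRange.2.isClosed_compl
    exact inferInstanceAs (QuasiCompact ((compl D σ).ι ≫ D.obj.hom))
  · exact inferInstanceAs (IsSeparated ((compl D σ).ι ≫ D.obj.hom))
  · exact inferInstanceAs (Etale ((compl D σ).ι ≫ D.obj.hom))
  · intro n hn Ω _ s a ha
    refine hn Ω s (Fin.cons ((secFunctor D).map (toBase _).op σ)
      (fun i => (ιSec (saturated_compl D σ)).app _ (a i))) ?_
    rw [Fin.cons_injective_iff]
    refine ⟨?_, (ιSec_injective (saturated_compl D σ) _).comp ha⟩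
    rintro ⟨i, hi⟩
    have := disj_compl D σ (Over.mk s) (a i) hi
    exact this.false (IsLocalRing.closedPoint Ω : Spec (.of Ω))
  · intro U e
    exact rep_coprod hZ (ιSec (saturated_compl D σ)) (fun T => ιSec_injective _ T) σ
      (disj_compl D σ) (cover_compl D σ) e

end Groth.Agent.Desc.Complement
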