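import Groth.Agent.Desc.EtAssocPb
import Groth.Agent.Ega1.TildePullback

/-!
# Sections of the pullback of a quasi-coherent module between affine schemes
-/

set_option autoImplicit false

universe u

open CategoryTheory CategoryTheory.Limits AlgebraicGeometry TopologicalSpace Opposite
open scoped TensorProduct

namespace Groth.Agent.Desc.EtAssocAff

open Groth.Agent.Desc.EtAssocPb Groth.Agent.Ega1.TildePullback

variable {R S : CommRingCat.{u}} (φ : R ⟶ S)

/-- the composite adjunction `extendScalars ⋙ tilde ⊣ pushforward ⋙ Γ`. -/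
noncomputable def adj₁ : ModuleCat.extendScalars φ.hom ⋙ tilde.functor S ⊣
    Scheme.Modules.pushforward (Spec.map φ) ⋙ moduleSpecΓFunctor (R := R) :=
  ((ModuleCat.extendRestrictScalarsAdj φ.hom).comp (tilde.adjunction (R := S))).ofNatIsoRight
    (pushforwardCompΓIso φ).symm

/-- the composite adjunction `tilde ⋙ pullback ⊣ pushforward ⋙ Γ`. -/
noncomputable def adj₂ : tilde.functor R ⋙ Scheme.Modules.pullback (Spec.map φ) ⊣
    Scheme.Modules.pushforward (Spec.map φ) ⋙ moduleSpecΓFunctor (R := R) :=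
  (tilde.adjunction (R := R)).comp
      (Scheme.Modules.pullbackPushforwardAdjunction (Spec.map φ))

/-- the comparison isomorphism -/
noncomputable def ψ (M : ModuleCat.{u} R) :
    tilde ((ModuleCat.extendScalars φ.hom).obj M) ≅
      (Scheme.Modules.pullback (Spec.map φ)).obj (tilde M) :=
  ((adj₁ φ).leftAdjointUniq (adj₂ φ)).app M

theorem unit_ψ (M : ModuleCat.{u} R) :
    (adj₁ φ).unit.app M ≫
      (Scheme.Modules.pushforward (Spec.map φ) ⋙ moduleSpecΓFunctor (R := R)).map (ψ φ M).hom =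
      (adj₂ φ).unit.app M :=
  Adjunction.unit_leftAdjointUniq_hom_app _ _ _

theorem adj₂_unit_apply (M : ModuleCat.{u} R) (m : M) :
    ((adj₂ φ).unit.app M).hom m = pb (Spec.map φ) (tilde M) ((tilde.isoTop M).hom m) := by
  unfold adj₂
  rw [Adjunction.comp_unit_app]
  rfl

theorem adj₁_unit_apply (M : ModuleCat.{u} R) (m : M) :
    ((adj₁ φ).unit.app M).hom m =
      (tilde.isoTop ((ModuleCat.extendScalars φ.hom).obj M)).hom
        ((ModuleCat.extendRestrictScalarsAdj φ.hom).unit.app M m) := by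
  have h : (adj₁ φ).unit.app M =
      ((ModuleCat.extendRestrictScalarsAdj φ.hom).comp (tilde.adjunction (R := S))).unit.app M ≫
        (pushforwardCompΓIso φ).symm.hom.app _ := by
    have h1 := Adjunction.homEquiv_ofNatIsoRight_apply
      ((ModuleCat.extendRestrictScalarsAdj φ.hom).comp (tilde.adjunction (R := S)))
      (pushforwardCompΓIso φ).symm (X := M) (𝟙 _)
    rw [Adjunction.homEquiv_id, Adjunction.homEquiv_id] at h1
    exact h1
  rw [h, Adjunction.comp_unit_app]
  rfl

/-- The equivalence `S ⊗ M ≃ Γ(f^* M~)`. -/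
noncomputable def E (M : ModuleCat.{u} R) :
    (ModuleCat.extendScalars φ.hom).obj M ≅
      (moduleSpecΓFunctor (R := S)).obj
        ((Scheme.Modules.pullback (Spec.map φ)).obj (tilde M)) :=
  tilde.isoTop ((ModuleCat.extendScalars φ.hom).obj M) ≪≫
    (moduleSpecΓFunctor (R := S)).mapIso (ψ φ M)

theorem E_apply (M : ModuleCat.{u} R) (m : M) :
    (E φ M).hom ((ModuleCat.extendRestrictScalarsAdj φ.hom).unit.app M m) =
      pb (Spec.map φ) (tilde M) ((tilde.isoTop M).hom m) := by
  rw [← adj₂_unit_apply, ← unit_ψ]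
  have h := adj₁_unit_apply φ M m
  change ((moduleSpecΓFunctor (R := S)).map (ψ φ M).hom).hom
    ((tilde.isoTop ((ModuleCat.extendScalars φ.hom).obj M)).hom
        ((ModuleCat.extendRestrictScalarsAdj φ.hom).unit.app M m)) =
    ((Scheme.Modules.pushforward (Spec.map φ) ⋙ moduleSpecΓFunctor (R := R)).map
      (ψ φ M).hom).hom (((adj₁ φ).unit.app M).hom m)
  rw [h]
  rfl

theorem isoTop_fromTildeΓ (N : (Spec R).Modules) (m : (moduleSpecΓFunctor (R := R)).obj N) :
    gs (Scheme.Modules.fromTildeΓ N)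
      ((tilde.isoTop ((moduleSpecΓFunctor (R := R)).obj N)).hom m) = m := by
  have h := Scheme.Modules.toOpen_fromTildeΓ_app N ⊤
  have h2 := congrArg (fun k : _ ⟶ _ => (ConcreteCategory.hom k) m) h
  refine Eq.trans ?_ (h2.trans ?_)
  · rfl
  · have h3 : (modulesSpecToSheaf.obj N).obj.map (homOfLE (le_top (a := (⊤ : (Spec R).Opens)))).op =
      𝟙 _ := CategoryTheory.Functor.map_id _ _
    exact congrArg (fun k : _ ⟶ _ => (ConcreteCategory.hom k) m) h3

/-- The equivalence `S ⊗ Γ(N) ≃ Γ(f^* N)` for `N` quasi-coherent. -/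
noncomputable def EN (N : (Spec R).Modules) [IsIso N.fromTildeΓ] :
    (ModuleCat.extendScalars φ.hom).obj ((moduleSpecΓFunctor (R := R)).obj N) ≅
      (moduleSpecΓFunctor (R := S)).obj
        ((Scheme.Modules.pullback (Spec.map φ)).obj N) :=
  E φ ((moduleSpecΓFunctor (R := R)).obj N) ≪≫
    (moduleSpecΓFunctor (R := S)).mapIso
      ((Scheme.Modules.pullback (Spec.map φ)).mapIso (@asIso _ _ _ _ N.fromTildeΓ ‹_›))

theorem EN_apply (N : (Spec R).Modules) [IsIso N.fromTildeΓ]
    (m : (moduleSpecΓFunctor (R := R)).obj N) :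
    (EN φ N).hom ((ModuleCat.extendRestrictScalarsAdj φ.hom).unit.app _ m) =
      pb (Spec.map φ) N m := by
  have h1 := E_apply φ ((moduleSpecΓFunctor (R := R)).obj N) m
  have h2 := congrArg (fun k : _ ⟶ _ => (ConcreteCategory.hom k)
    ((tilde.isoTop ((moduleSpecΓFunctor (R := R)).obj N)).hom m))
    (pb_naturality (Spec.map φ) (Scheme.Modules.fromTildeΓ N))
  have h3 := isoTop_fromTildeΓ N m
  have h4 : pb (Spec.map φ) N (gs (Scheme.Modules.fromTildeΓ N)
      ((tilde.isoTop ((moduleSpecΓFunctor (R := R)).obj N)).hom m)) =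
      gs ((Scheme.Modules.pullback (Spec.map φ)).map (Scheme.Modules.fromTildeΓ N))
        (pb (Spec.map φ) (tilde ((moduleSpecΓFunctor (R := R)).obj N))
          ((tilde.isoTop ((moduleSpecΓFunctor (R := R)).obj N)).hom m)) := h2
  rw [h3] at h4
  rw [h4, ← h1]
  rfl

section algebra

variable (R S : CommRingCat.{u}) [Algebra R S]

/-- `S ⊗_R Γ(N) ≃ Γ(f^* N)` for `N` quasi-coherent on `Spec R`, induced by the pullback of
sections. -/
theorem exists_equiv (N : (Spec R).Modules) [N.IsQuasicoherent] :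
    ∃ e : S ⊗[R] (N.presheaf.obj (op ⊤)) ≃ₗ[S]
      (((Scheme.Modules.pullback (Spec.map (CommRingCat.ofHom (algebraMap R S)))).obj
        N).presheaf.obj (op ⊤)),
      ∀ x, e (1 ⊗ₜ x) = pb (Spec.map (CommRingCat.ofHom (algebraMap R S))) N x := by
  let φ : R ⟶ S := CommRingCat.ofHom (algebraMap R S)
  have hN : IsIso N.fromTildeΓ := inferInstance
  let M : ModuleCat.{u} R := (moduleSpecΓFunctor (R := R)).obj N
  let e1 : ModuleCat.of S (S ⊗[R] M) ≅
      (ModuleCat.extendScalars φ.hom).obj M := (extendScalarsIso R S M).symm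
  refine ⟨(e1 ≪≫ EN φ N).toLinearEquiv, fun x => ?_⟩
  refine Eq.trans ?_ (EN_apply φ N x)
  have h1 : e1.hom (1 ⊗ₜ x) = (ModuleCat.extendRestrictScalarsAdj φ.hom).unit.app M x := by
    rfl
  change (EN φ N).hom (e1.hom (1 ⊗ₜ x)) = _
  rw [h1]

end algebra

end Groth.Agent.Desc.EtAssocAff
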