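import Groth.Agent.Desc.EtAssocPb
import Groth.Agent.CohqA.PullbackQCoh
import Groth.Agent.Etbase.FFExact

/-!
# Base change property of the presheaf `U ↦ Γ(U, u^* F)` on affine étale schemes
-/

set_option autoImplicit false

universe u

open CategoryTheory CategoryTheory.Limits AlgebraicGeometry TopologicalSpace Opposite

namespace Groth.Agent.Desc.EtAssocBC

open EtAssocPb
open Groth.Agent.CohqA.BaseChangeMod (IsBC isBC_iff_isBaseChange)

variable {X Y : Scheme.{u}}

theorem isBC_pb (g : X ⟶ Y) (N : Y.Modules) [N.IsQuasicoherent] [IsAffine X] [IsAffine Y] :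
    IsBC g.appTop.hom (pb g N).hom := by
  have h := Groth.Agent.CohqA.PullbackQCoh.isBC_pbSec g N (isAffineOpen_top Y) (isAffineOpen_top X)
    (le_rfl : (⊤ : X.Opens) ≤ g ⁻¹ᵁ ⊤)
  have h1 : g.appLE ⊤ ⊤ le_rfl = g.appTop := by
    rw [Scheme.Hom.appLE]
    exact (congrArg (fun k => g.app ⊤ ≫ k) (X.presheaf.map_id _)).trans (Category.comp_id _)
  rw [h1] at h
  have h2 : Groth.Agent.CohqA.PullbackQCoh.pbSec g N ⊤ ⊤ le_rfl = pb g N :=
    Groth.Agent.CohqA.PullbackAffine.secMap_top g _
  rw [h2] at h
  exact h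

/-- An isomorphism of modules induces a linear equivalence on global sections. -/
noncomputable def gsEquiv {M N : X.Modules} (φ : M ≅ N) :
    (M.presheaf.obj (op ⊤)) ≃ₗ[Γ(X, ⊤)] (N.presheaf.obj (op ⊤)) where
  toFun := φ.hom.app ⊤
  map_add' := map_add _
  map_smul' := fun r x => Scheme.Modules.Hom.app_smul φ.hom r x
  invFun := φ.inv.app ⊤
  left_inv x := by
    have h := congrArg (fun k => Scheme.Modules.Hom.app k ⊤) φ.hom_inv_id
    exact ConcreteCategory.congr_hom h x
  right_inv x := by
    have h := congrArg (fun k => Scheme.Modules.Hom.app k ⊤) φ.inv_hom_id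
    exact ConcreteCategory.congr_hom h x

theorem isBC_tr {S : Scheme.{u}} (F : S.Modules) [F.IsQuasicoherent] (f : X ⟶ Y) (u : Y ⟶ S)
    (v : X ⟶ S) (h : f ≫ u = v) [IsAffine X] [IsAffine Y] :
    IsBC f.appTop.hom (tr F f u v h).hom := by
  have h1 := isBC_pb f ((Scheme.Modules.pullback u).obj F)
  refine h1.of_equiv (gsEquiv ((Scheme.Modules.pullbackComp f u).app F ≪≫
    eqToIso (congrArg (fun w => (Scheme.Modules.pullback w).obj F) h))) ?_
  intro x
  rfl

noncomputable instance moduleObj {S : Scheme.{u}} (F : S.Modules) (U : S.Etale) :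
    Module Γ(U.left, ⊤) (EtAssoc.obj F U) :=
  inferInstanceAs (Module Γ(U.left, ⊤)
    (((Scheme.Modules.pullback U.hom).obj F).presheaf.obj (op ⊤)))

/-- The base change property of the restriction maps of `assocPresheaf F`. -/
theorem isBC_map {S : Scheme.{u}} (F : S.Modules) [F.IsQuasicoherent] {V W : S.Etale} (g : V ⟶ W)
    (hV : IsAffine V.left) (hW : IsAffine W.left) :
    IsBC (M := EtAssoc.obj F W) (N := EtAssoc.obj F V) g.left.appTop.hom (EtAssoc.resMap F g).hom := by
  rw [resMap_eq_tr]
  exact isBC_tr F g.left W.hom V.hom _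

/-- Comparison with the other definition of base change. -/
theorem isBC_ff {A B : Type u} [CommRing A] [CommRing B] {φ : A →+* B} {M N : Type u}
    [AddCommGroup M] [AddCommGroup N] [Module A M] [Module B N] {f : M →+ N} (h : IsBC φ f) :
    Groth.Agent.Etbase.FFExact.IsBC φ f := by
  refine ⟨h.map_smul, ?_⟩
  let : Algebra A B := φ.toAlgebra
  let : Module A N := Module.compHom N φ
  have : IsScalarTower A B N := ⟨fun a b m => by
    change (φ a * b) • m = φ a • b • m
    rw [mul_smul]⟩
  exact (isBC_iff_isBaseChange ({ toFun := f, map_add' := f.map_add, map_smul' := h.map_smul } :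
    M →ₗ[A] N)).1 h

end Groth.Agent.Desc.EtAssocBC
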