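import Groth.Agent.Desc.EtAssocPb
import Mathlib.Algebra.Category.Grp.Ulift

/-!
# Uniqueness and functoriality of the étale sheaf associated to a module
-/

set_option autoImplicit false

universe u

open CategoryTheory CategoryTheory.Limits AlgebraicGeometry TopologicalSpace Opposite

namespace Groth.Agent.Desc.EtAssocIso

open Groth.Agent.Desc.EtAssocPb

variable {S : Scheme.{u}}

theorem nonempty_iso {F : S.Modules} {G G' : EtCoh.Ab S} (hG : EtAssoc.IsAssoc F G)
    (hG' : EtAssoc.IsAssoc F G') : Nonempty (G ≅ G') := by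
  obtain ⟨e, he⟩ := hG
  obtain ⟨e', he'⟩ := hG'
  let α : G.obj ≅ G'.obj := NatIso.ofComponents
    (fun U => ((e U.unop).trans (e' U.unop).symm).toAddCommGrpIso) (by
      intro U V g
      ext s
      change (e' V.unop).symm (e V.unop (G.obj.map g s)) =
        G'.obj.map g ((e' U.unop).symm (e U.unop s))
      rw [AddEquiv.symm_apply_eq]
      apply ULift.down_injective
      refine (he U.unop V.unop g.unop s).trans ?_
      refine Eq.trans ?_ (he' U.unop V.unop g.unop ((e' U.unop).symm (e U.unop s))).symm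
      rw [AddEquiv.apply_symm_apply])
  exact ⟨(fullyFaithfulSheafToPresheaf _ _).preimageIso α⟩

/-- functoriality of sections of pullbacks in the module -/
theorem tr_naturality {X Y : Scheme.{u}} {F F' : S.Modules} (φ : F ⟶ F') (f : X ⟶ Y) (u : Y ⟶ S)
    (v : X ⟶ S) (h : f ≫ u = v) :
    gs ((Scheme.Modules.pullback u).map φ) ≫ tr F' f u v h =
      tr F f u v h ≫ gs ((Scheme.Modules.pullback v).map φ) := by
  subst h
  have h1 : (Scheme.Modules.pullback f).map ((Scheme.Modules.pullback u).map φ) ≫
      (Scheme.Modules.pullbackComp f u).hom.app F' =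
      (Scheme.Modules.pullbackComp f u).hom.app F ≫ (Scheme.Modules.pullback (f ≫ u)).map φ :=
    (Scheme.Modules.pullbackComp f u).hom.naturality φ
  unfold tr
  rw [eqToHom_refl, eqToHom_refl, Category.comp_id, Category.comp_id, ← Category.assoc,
    pb_naturality, Category.assoc, Category.assoc, ← gs_comp, ← gs_comp, h1]

theorem isAssoc_of_iso {F F' : S.Modules} (e : F ≅ F') {G : EtCoh.Ab S}
    (hG : EtAssoc.IsAssoc F G) : EtAssoc.IsAssoc F' G := by
  obtain ⟨a, ha⟩ := hG
  have hc : ∀ {U : S.Etale} {F₁ F₂ : S.Modules} (φ : F₁ ⟶ F₂) (ψ : F₂ ⟶ F₁) (_ : φ ≫ ψ = 𝟙 _)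
      (x : EtAssoc.obj F₁ U), gs ((Scheme.Modules.pullback U.hom).map ψ)
        (gs ((Scheme.Modules.pullback U.hom).map φ) x) = x := by
    intro U F₁ F₂ φ ψ h x
    have h1 : gs ((Scheme.Modules.pullback U.hom).map φ) ≫
        gs ((Scheme.Modules.pullback U.hom).map ψ) = 𝟙 _ := by
      rw [← gs_comp, ← Functor.map_comp, h, CategoryTheory.Functor.map_id, gs_id]
    exact ConcreteCategory.congr_hom h1 x
  let b : ∀ U : S.Etale, ULift.{u+1} (EtAssoc.obj F U) ≃+ ULift.{u+1} (EtAssoc.obj F' U) :=
    fun U =>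
    { toFun := fun x => ⟨gs ((Scheme.Modules.pullback U.hom).map e.hom) x.down⟩
      invFun := fun x => ⟨gs ((Scheme.Modules.pullback U.hom).map e.inv) x.down⟩
      left_inv := fun x => ULift.down_injective (hc e.hom e.inv e.hom_inv_id x.down)
      right_inv := fun x => ULift.down_injective (hc e.inv e.hom e.inv_hom_id x.down)
      map_add' := fun x y => ULift.down_injective
        (map_add (gs ((Scheme.Modules.pullback U.hom).map e.hom)).hom x.down y.down) }
  refine ⟨fun U => (a U).trans (b U), fun U U' g s => ?_⟩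
  change gs ((Scheme.Modules.pullback U'.hom).map e.hom) (a U' (G.obj.map g.op s)).down =
    EtAssoc.resMap F' g (gs ((Scheme.Modules.pullback U.hom).map e.hom) (a U s).down)
  rw [ha, resMap_eq_tr, resMap_eq_tr]
  exact (ConcreteCategory.congr_hom
    (tr_naturality e.hom g.left U.hom U'.hom (Over.w g.hom)) (a U s).down).symm

end Groth.Agent.Desc.EtAssocIso
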