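import Groth.Prelude.Def_EtAssoc2

/-!
# Pullback of sections of modules along morphisms of schemes

For `f : X ⟶ Y` and `N : Y.Modules`, `pb f N : Γ(N, ⊤) ⟶ Γ(f^* N, ⊤)` is induced by the unit of
`f^* ⊣ f_*`.  We prove functoriality in `N` and in `f`, and deduce that the restriction maps
`EtAssoc.resMap` are functorial.
-/

set_option autoImplicit false

universe u

open CategoryTheory CategoryTheory.Limits AlgebraicGeometry TopologicalSpace Opposite

namespace Groth.Agent.Desc.EtAssocPb

variable {X Y Z T : Scheme.{u}}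

/-- The pullback of global sections `Γ(N, ⊤) ⟶ Γ(f^* N, ⊤)`. -/
noncomputable def pb (f : X ⟶ Y) (N : Y.Modules) :
    N.presheaf.obj (op ⊤) ⟶ ((Scheme.Modules.pullback f).obj N).presheaf.obj (op ⊤) :=
  ((Scheme.Modules.pullbackPushforwardAdjunction f).unit.app N).app ⊤

/-- The map on global sections of a morphism of modules. -/
noncomputable abbrev gs {M N : X.Modules} (φ : M ⟶ N) :
    M.presheaf.obj (op ⊤) ⟶ N.presheaf.obj (op ⊤) := φ.app ⊤

theorem gs_comp {M N K : X.Modules} (φ : M ⟶ N) (ψ : N ⟶ K) : gs (φ ≫ ψ) = gs φ ≫ gs ψ := rfl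

theorem gs_id (M : X.Modules) : gs (𝟙 M) = 𝟙 _ := rfl

@[reassoc]
theorem pb_naturality (f : X ⟶ Y) {M N : Y.Modules} (φ : M ⟶ N) :
    gs φ ≫ pb f N = pb f M ≫ gs ((Scheme.Modules.pullback f).map φ) := by
  have h := (Scheme.Modules.pullbackPushforwardAdjunction f).unit.naturality φ
  exact congrArg (fun k => Scheme.Modules.Hom.app k ⊤) h

set_option backward.isDefEq.respectTransparency false in
theorem pb_comp (f : X ⟶ Y) (g : Y ⟶ Z) (N : Z.Modules) :
    pb (f ≫ g) N = pb g N ≫ pb f ((Scheme.Modules.pullback g).obj N) ≫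
      gs ((Scheme.Modules.pullbackComp f g).hom.app N) := by
  have h := unit_conjugateEquiv
    ((Scheme.Modules.pullbackPushforwardAdjunction g).comp
      (Scheme.Modules.pullbackPushforwardAdjunction f))
    (Scheme.Modules.pullbackPushforwardAdjunction (f ≫ g))
    (Scheme.Modules.pullbackComp f g).inv N
  rw [Scheme.Modules.conjugateEquiv_pullbackComp_inv] at h
  have h2 := congrArg (fun k => Scheme.Modules.Hom.app k ⊤) h
  have h3 : pb g N ≫ pb f ((Scheme.Modules.pullback g).obj N) =
      pb (f ≫ g) N ≫ gs ((Scheme.Modules.pullbackComp f g).inv.app N) := by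
    exact h2
  rw [← Category.assoc, h3, Category.assoc, ← gs_comp, Iso.inv_hom_id_app, gs_id, Category.comp_id]

set_option backward.isDefEq.respectTransparency false in
theorem pb_id (N : X.Modules) :
    pb (𝟙 X) N ≫ gs ((Scheme.Modules.pullbackId X).hom.app N) = 𝟙 _ := by
  have h := unit_conjugateEquiv (Adjunction.id (C := X.Modules))
    (Scheme.Modules.pullbackPushforwardAdjunction (𝟙 X)) (Scheme.Modules.pullbackId X).hom N
  rw [Scheme.Modules.conjugateEquiv_pullbackId_hom] at h
  have h2 := congrArg (fun k => Scheme.Modules.Hom.app k ⊤) h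
  exact h2.symm

/-- The transport of sections along `f : X ⟶ Y` for `v = f ≫ u`: `Γ(u^* F) ⟶ Γ(v^* F)`. -/
noncomputable def tr {S : Scheme.{u}} (F : S.Modules) (f : X ⟶ Y) (u : Y ⟶ S) (v : X ⟶ S)
    (h : f ≫ u = v) :
    ((Scheme.Modules.pullback u).obj F).presheaf.obj (op ⊤) ⟶
      ((Scheme.Modules.pullback v).obj F).presheaf.obj (op ⊤) :=
  pb f ((Scheme.Modules.pullback u).obj F) ≫
    gs ((Scheme.Modules.pullbackComp f u).hom.app F ≫
      eqToHom (congrArg (fun w => (Scheme.Modules.pullback w).obj F) h))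

theorem resMap_eq_tr {S : Scheme.{u}} (F : S.Modules) {U U' : S.Etale} (g : U' ⟶ U) :
    EtAssoc.resMap F g = tr F g.left U.hom U'.hom (Over.w g.hom) := by
  have h1 : ((Scheme.Modules.pullback g.left).obj
      ((Scheme.Modules.pullback U.hom).obj F)).presheaf.map
      (eqToHom (Opens.map_top g.left.base).symm).op = 𝟙 _ :=
    CategoryTheory.Functor.map_id _ _
  have h2 : EtAssoc.step1 F g = pb g.left ((Scheme.Modules.pullback U.hom).obj F) := by
    unfold EtAssoc.step1
    rw [h1]
    exact Category.comp_id _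
  unfold EtAssoc.resMap
  rw [h2]
  rfl

theorem eqToHom_gs_aux {S : Scheme.{u}} (F : S.Modules) {u v : X ⟶ S} (h : u = v) :
    eqToHom (congrArg (fun w => (Scheme.Modules.pullback w).obj F) h) =
      (eqToHom (congrArg Scheme.Modules.pullback h)).app F := by
  subst h
  rfl

set_option backward.isDefEq.respectTransparency false in
theorem coh_aux {S : Scheme.{u}} (F : S.Modules) (f : X ⟶ Y) (g : Y ⟶ Z) (u : Z ⟶ S) :
    (Scheme.Modules.pullbackComp f g).hom.app ((Scheme.Modules.pullback u).obj F) ≫
      (Scheme.Modules.pullbackComp (f ≫ g) u).hom.app F ≫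
        eqToHom (congrArg (fun w => (Scheme.Modules.pullback w).obj F) (Category.assoc f g u)) =
      (Scheme.Modules.pullback f).map ((Scheme.Modules.pullbackComp g u).hom.app F) ≫
      (Scheme.Modules.pullbackComp f (g ≫ u)).hom.app F := by
  have h := congrArg (fun k => NatTrans.app k F)
    (Scheme.Modules.pseudofunctor_associativity f g u)
  have h2 : (Scheme.Modules.pullbackComp f (g ≫ u)).inv.app F ≫
      (Scheme.Modules.pullback f).map ((Scheme.Modules.pullbackComp g u).inv.app F) ≫
        (Scheme.Modules.pullbackComp f g).hom.app ((Scheme.Modules.pullback u).obj F) ≫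
          (Scheme.Modules.pullbackComp (f ≫ g) u).hom.app F =
      eqToHom (congrArg (fun w => (Scheme.Modules.pullback w).obj F)
        (Category.assoc f g u).symm) := by
    rw [eqToHom_gs_aux F (Category.assoc f g u).symm, ← h]
    simp only [NatTrans.comp_app, Functor.whiskerRight_app, Functor.associator_hom_app,
      Functor.whiskerLeft_app, Category.id_comp]
  have h3 : (Scheme.Modules.pullback f).map ((Scheme.Modules.pullbackComp g u).inv.app F) ≫
        (Scheme.Modules.pullbackComp f g).hom.app ((Scheme.Modules.pullback u).obj F) ≫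
          (Scheme.Modules.pullbackComp (f ≫ g) u).hom.app F =
      (Scheme.Modules.pullbackComp f (g ≫ u)).hom.app F ≫
      eqToHom (congrArg (fun w => (Scheme.Modules.pullback w).obj F)
        (Category.assoc f g u).symm) := by
    rw [← h2, Iso.hom_inv_id_app_assoc]
  have h4 : (Scheme.Modules.pullbackComp f g).hom.app ((Scheme.Modules.pullback u).obj F) ≫
          (Scheme.Modules.pullbackComp (f ≫ g) u).hom.app F =
      (Scheme.Modules.pullback f).map ((Scheme.Modules.pullbackComp g u).hom.app F) ≫
      (Scheme.Modules.pullbackComp f (g ≫ u)).hom.app F ≫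
      eqToHom (congrArg (fun w => (Scheme.Modules.pullback w).obj F)
        (Category.assoc f g u).symm) := by
    rw [← h3, ← Functor.map_comp_assoc, Iso.hom_inv_id_app]
    simp
  have h5 := congrArg (fun k => k ≫ eqToHom
    (congrArg (fun w => (Scheme.Modules.pullback w).obj F) (Category.assoc f g u))) h4
  simpa only [Category.assoc, eqToHom_trans, eqToHom_refl, Category.comp_id] using h5

theorem tr_comp_aux {S : Scheme.{u}} (F : S.Modules) (f : X ⟶ Y) (g : Y ⟶ Z) (u : Z ⟶ S) :
    pb (f ≫ g) ((Scheme.Modules.pullback u).obj F) ≫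
      gs ((Scheme.Modules.pullbackComp (f ≫ g) u).hom.app F ≫
        eqToHom (congrArg (fun w => (Scheme.Modules.pullback w).obj F) (Category.assoc f g u))) =
    (pb g ((Scheme.Modules.pullback u).obj F) ≫
      gs ((Scheme.Modules.pullbackComp g u).hom.app F)) ≫
      pb f ((Scheme.Modules.pullback (g ≫ u)).obj F) ≫
      gs ((Scheme.Modules.pullbackComp f (g ≫ u)).hom.app F) := by
  have h := congrArg gs (coh_aux F f g u)
  rw [gs_comp] at h
  have h2 := congrArg (fun k => pb g ((Scheme.Modules.pullback u).obj F) ≫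
    pb f ((Scheme.Modules.pullback g).obj ((Scheme.Modules.pullback u).obj F)) ≫ k) h
  have h3 := pb_naturality f ((Scheme.Modules.pullbackComp g u).hom.app F)
  have h4 := congrArg (fun k => pb g ((Scheme.Modules.pullback u).obj F) ≫ k ≫
    gs ((Scheme.Modules.pullbackComp f (g ≫ u)).hom.app F)) h3
  rw [pb_comp]
  simp only [Category.assoc] at h2 h4 ⊢
  refine h2.trans ?_
  rw [gs_comp]
  exact h4.symm

theorem tr_comp {S : Scheme.{u}} (F : S.Modules) (f : X ⟶ Y) (g : Y ⟶ Z) (u : Z ⟶ S)
    (v : Y ⟶ S) (w : X ⟶ S) (hv : g ≫ u = v) (hw : f ≫ v = w) :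
    tr F (f ≫ g) u w (by rw [Category.assoc, hv, hw]) = tr F g u v hv ≫ tr F f v w hw := by
  subst hv hw
  have h := tr_comp_aux F f g u
  unfold tr
  rw [eqToHom_refl, eqToHom_refl, Category.comp_id, Category.comp_id]
  exact h

set_option backward.isDefEq.respectTransparency false in
theorem coh_id {S : Scheme.{u}} (F : S.Modules) (v : X ⟶ S) :
    (Scheme.Modules.pullbackComp (𝟙 X) v).hom.app F ≫
      eqToHom (congrArg (fun w => (Scheme.Modules.pullback w).obj F) (Category.id_comp v)) =
    (Scheme.Modules.pullbackId X).hom.app ((Scheme.Modules.pullback v).obj F) := by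
  have h := congrArg (fun k => NatTrans.app k F)
    (Scheme.Modules.pseudofunctor_right_unitality v)
  rw [← eqToHom_gs_aux F (Category.id_comp v)] at h
  have h2 : (Scheme.Modules.pullbackComp (𝟙 X) v).inv.app F ≫
      (Scheme.Modules.pullbackId X).hom.app ((Scheme.Modules.pullback v).obj F) =
      eqToHom (congrArg (fun w => (Scheme.Modules.pullback w).obj F) (Category.id_comp v)) := by
    rw [← h]
    simp only [NatTrans.comp_app, Functor.whiskerLeft_app, Functor.rightUnitor_hom_app]
    erw [Category.comp_id]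
  rw [← h2, Iso.hom_inv_id_app_assoc]

theorem tr_id {S : Scheme.{u}} (F : S.Modules) (v : X ⟶ S) :
    tr F (𝟙 X) v v (Category.id_comp v) = 𝟙 _ := by
  unfold tr
  rw [coh_id]
  exact pb_id _

/-- The presheaf `U ↦ Γ(U, u^* F)` on the small étale site. -/
noncomputable def assocPresheaf {S : Scheme.{u}} (F : S.Modules) :
    S.Etaleᵒᵖ ⥤ AddCommGrpCat.{u} where
  obj U := EtAssoc.obj F U.unop
  map g := EtAssoc.resMap F g.unop
  map_id U := by
    rw [resMap_eq_tr]
    exact tr_id F _
  map_comp f g := by
    rw [resMap_eq_tr, resMap_eq_tr, resMap_eq_tr]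
    exact tr_comp F _ _ _ _ _ _ _

end Groth.Agent.Desc.EtAssocPb
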