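import Groth.Agent.Desc.EtAssocPb

/-!
# Pullback of sections of modules over opens

`pbU f N W : Γ(N, W) ⟶ Γ(f^* N, f⁻¹ W)`, and `trLE F f u v h W V e : Γ(u^* F, W) ⟶ Γ(v^* F, V)`
for `f ≫ u = v` and `V ≤ f⁻¹ W`, with functoriality.
-/

set_option autoImplicit false

universe u

open CategoryTheory CategoryTheory.Limits AlgebraicGeometry TopologicalSpace Opposite

namespace Groth.Agent.Desc.EtAssocPbU

open Groth.Agent.Desc.EtAssocPb

variable {X Y Z T : Scheme.{u}}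

/-- The pullback of sections `Γ(N, W) ⟶ Γ(f^* N, f⁻¹ W)`. -/
noncomputable def pbU (f : X ⟶ Y) (N : Y.Modules) (W : Y.Opens) :
    N.presheaf.obj (op W) ⟶ ((Scheme.Modules.pullback f).obj N).presheaf.obj (op (f ⁻¹ᵁ W)) :=
  ((Scheme.Modules.pullbackPushforwardAdjunction f).unit.app N).app W

theorem pbU_top (f : X ⟶ Y) (N : Y.Modules) : pbU f N ⊤ = pb f N := rfl

@[reassoc]
theorem pbU_naturality (f : X ⟶ Y) {M N : Y.Modules} (φ : M ⟶ N) (W : Y.Opens) :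
    φ.app W ≫ pbU f N W = pbU f M W ≫ ((Scheme.Modules.pullback f).map φ).app (f ⁻¹ᵁ W) := by
  have h := (Scheme.Modules.pullbackPushforwardAdjunction f).unit.naturality φ
  exact congrArg (fun k => Scheme.Modules.Hom.app k W) h

theorem app_naturality {M N : X.Modules} (φ : M ⟶ N) {V W : X.Opens} (e : V ≤ W) :
    M.presheaf.map (homOfLE e).op ≫ φ.app V = φ.app W ≫ N.presheaf.map (homOfLE e).op :=
  φ.mapPresheaf.naturality (homOfLE e).op

theorem pbU_res (f : X ⟶ Y) (N : Y.Modules) {V W : Y.Opens} (e : V ≤ W) :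
    N.presheaf.map (homOfLE e).op ≫ pbU f N V =
      pbU f N W ≫ ((Scheme.Modules.pullback f).obj N).presheaf.map
        (homOfLE (f.preimage_mono e)).op :=
  app_naturality ((Scheme.Modules.pullbackPushforwardAdjunction f).unit.app N) e

set_option backward.isDefEq.respectTransparency false in
theorem pbU_comp (f : X ⟶ Y) (g : Y ⟶ Z) (N : Z.Modules) (W : Z.Opens) :
    pbU (f ≫ g) N W = pbU g N W ≫ pbU f ((Scheme.Modules.pullback g).obj N) (g ⁻¹ᵁ W) ≫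
      ((Scheme.Modules.pullbackComp f g).hom.app N).app (f ⁻¹ᵁ (g ⁻¹ᵁ W)) := by
  have h := unit_conjugateEquiv
    ((Scheme.Modules.pullbackPushforwardAdjunction g).comp
      (Scheme.Modules.pullbackPushforwardAdjunction f))
    (Scheme.Modules.pullbackPushforwardAdjunction (f ≫ g))
    (Scheme.Modules.pullbackComp f g).inv N
  rw [Scheme.Modules.conjugateEquiv_pullbackComp_inv] at h
  have h2 := congrArg (fun k => Scheme.Modules.Hom.app k W) h
  have h3 : pbU g N W ≫ pbU f ((Scheme.Modules.pullback g).obj N) (g ⁻¹ᵁ W) =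
      pbU (f ≫ g) N W ≫
        ((Scheme.Modules.pullbackComp f g).inv.app N).app (f ⁻¹ᵁ (g ⁻¹ᵁ W)) := by
    exact h2
  have h4 : ((Scheme.Modules.pullbackComp f g).inv.app N).app (f ⁻¹ᵁ (g ⁻¹ᵁ W)) ≫
      ((Scheme.Modules.pullbackComp f g).hom.app N).app (f ⁻¹ᵁ (g ⁻¹ᵁ W)) = 𝟙 _ := by
    have := congrArg (fun k => Scheme.Modules.Hom.app k (f ⁻¹ᵁ (g ⁻¹ᵁ W)))
      ((Scheme.Modules.pullbackComp f g).inv_hom_id_app N)
    exact this
  rw [← Category.assoc, h3, Category.assoc, h4]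
  exact (Category.comp_id (pbU (f ≫ g) N W)).symm

set_option backward.isDefEq.respectTransparency false in
theorem pbU_id (N : X.Modules) (W : X.Opens) :
    pbU (𝟙 X) N W ≫ ((Scheme.Modules.pullbackId X).hom.app N).app W = 𝟙 _ := by
  have h := unit_conjugateEquiv (Adjunction.id (C := X.Modules))
    (Scheme.Modules.pullbackPushforwardAdjunction (𝟙 X)) (Scheme.Modules.pullbackId X).hom N
  rw [Scheme.Modules.conjugateEquiv_pullbackId_hom] at h
  have h2 := congrArg (fun k => Scheme.Modules.Hom.app k W) h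
  exact h2.symm

/-- The transport of sections along `f : X ⟶ Y` for `v = f ≫ u`: `Γ(u^* F, W) ⟶ Γ(v^* F, V)`, for
opens with `V ≤ f⁻¹ W`. -/
noncomputable def trLE {S : Scheme.{u}} (F : S.Modules) (f : X ⟶ Y) (u : Y ⟶ S) (v : X ⟶ S)
    (h : f ≫ u = v) (W : Y.Opens) (V : X.Opens) (e : V ≤ f ⁻¹ᵁ W) :
    ((Scheme.Modules.pullback u).obj F).presheaf.obj (op W) ⟶
      ((Scheme.Modules.pullback v).obj F).presheaf.obj (op V) :=
  pbU f ((Scheme.Modules.pullback u).obj F) W ≫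
    ((Scheme.Modules.pullbackComp f u).hom.app F ≫
      eqToHom (congrArg (fun w => (Scheme.Modules.pullback w).obj F) h)).app (f ⁻¹ᵁ W) ≫
    ((Scheme.Modules.pullback v).obj F).presheaf.map (homOfLE e).op

variable {S : Scheme.{u}} (F : S.Modules)

theorem trLE_top (f : X ⟶ Y) (u : Y ⟶ S) (v : X ⟶ S) (h : f ≫ u = v) :
    trLE F f u v h ⊤ ⊤ le_rfl = tr F f u v h := by
  have h1 : ((Scheme.Modules.pullback v).obj F).presheaf.map
      (homOfLE (le_refl (⊤ : X.Opens))).op = 𝟙 _ := CategoryTheory.Functor.map_id _ _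
  unfold trLE
  have h2 : ((Scheme.Modules.pullback v).obj F).presheaf.map
      (homOfLE (show (⊤ : X.Opens) ≤ f ⁻¹ᵁ ⊤ from le_rfl)).op = 𝟙 _ := h1
  erw [h2, Category.comp_id]
  rfl

theorem resMap_eq_trLE {U U' : S.Etale} (g : U' ⟶ U) :
    EtAssoc.resMap F g = trLE F g.left U.hom U'.hom (Over.w g.hom) ⊤ ⊤ le_rfl := by
  rw [resMap_eq_tr, trLE_top]

theorem trLE_aux (f : X ⟶ Y) (g : Y ⟶ Z) (u : Z ⟶ S) (W : Z.Opens) :
    pbU (f ≫ g) ((Scheme.Modules.pullback u).obj F) W ≫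
      ((Scheme.Modules.pullbackComp (f ≫ g) u).hom.app F ≫
        eqToHom (congrArg (fun w => (Scheme.Modules.pullback w).obj F)
          (Category.assoc f g u))).app (f ⁻¹ᵁ (g ⁻¹ᵁ W)) =
    (pbU g ((Scheme.Modules.pullback u).obj F) W ≫
      ((Scheme.Modules.pullbackComp g u).hom.app F).app (g ⁻¹ᵁ W)) ≫
      pbU f ((Scheme.Modules.pullback (g ≫ u)).obj F) (g ⁻¹ᵁ W) ≫
      ((Scheme.Modules.pullbackComp f (g ≫ u)).hom.app F).app (f ⁻¹ᵁ (g ⁻¹ᵁ W)) := by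
  -- abbreviations
  let A := (Scheme.Modules.pullback u).obj F
  let a1 := pbU g A W
  let a2 := pbU f ((Scheme.Modules.pullback g).obj A) (g ⁻¹ᵁ W)
  let a3 := ((Scheme.Modules.pullbackComp f g).hom.app A).app (f ⁻¹ᵁ (g ⁻¹ᵁ W))
  let a4 := ((Scheme.Modules.pullbackComp (f ≫ g) u).hom.app F ≫
        eqToHom (congrArg (fun w => (Scheme.Modules.pullback w).obj F)
          (Category.assoc f g u))).app (f ⁻¹ᵁ (g ⁻¹ᵁ W))
  let b3 := ((Scheme.Modules.pullback f).map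
    ((Scheme.Modules.pullbackComp g u).hom.app F)).app (f ⁻¹ᵁ (g ⁻¹ᵁ W))
  let b4 := ((Scheme.Modules.pullbackComp f (g ≫ u)).hom.app F).app (f ⁻¹ᵁ (g ⁻¹ᵁ W))
  let c2 := ((Scheme.Modules.pullbackComp g u).hom.app F).app (g ⁻¹ᵁ W)
  let c3 := pbU f ((Scheme.Modules.pullback (g ≫ u)).obj F) (g ⁻¹ᵁ W)
  have e1 : pbU (f ≫ g) A W = a1 ≫ a2 ≫ a3 := pbU_comp f g A W
  have e2 : a3 ≫ a4 = b3 ≫ b4 :=
    congrArg (fun k => Scheme.Modules.Hom.app k (f ⁻¹ᵁ (g ⁻¹ᵁ W))) (coh_aux F f g u)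
  have e3 : c2 ≫ c3 = a2 ≫ b3 :=
    pbU_naturality f ((Scheme.Modules.pullbackComp g u).hom.app F) (g ⁻¹ᵁ W)
  calc pbU (f ≫ g) A W ≫ a4 = (a1 ≫ a2 ≫ a3) ≫ a4 := congrArg (fun k => k ≫ a4) e1
    _ = a1 ≫ a2 ≫ (a3 ≫ a4) := by rw [Category.assoc, Category.assoc]
    _ = a1 ≫ a2 ≫ (b3 ≫ b4) := congrArg (fun k => a1 ≫ a2 ≫ k) e2
    _ = a1 ≫ (a2 ≫ b3) ≫ b4 := by rw [Category.assoc]
    _ = a1 ≫ (c2 ≫ c3) ≫ b4 := congrArg (fun k => a1 ≫ k ≫ b4) e3.symm
    _ = (a1 ≫ c2) ≫ c3 ≫ b4 := by rw [Category.assoc, Category.assoc]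

theorem res_res (M : X.Modules) {U V W : X.Opens} (e : V ≤ W) (e' : U ≤ V) :
    M.presheaf.map (homOfLE e).op ≫ M.presheaf.map (homOfLE e').op =
      M.presheaf.map (homOfLE (e'.trans e)).op := by
  rw [← Functor.map_comp]
  rfl

theorem res_self (M : X.Modules) {U : X.Opens} (e : U ≤ U) :
    M.presheaf.map (homOfLE e).op = 𝟙 _ := CategoryTheory.Functor.map_id _ _

theorem trLE_comp (f : X ⟶ Y) (g : Y ⟶ Z) (u : Z ⟶ S) (v : Y ⟶ S) (w : X ⟶ S)
    (hv : g ≫ u = v) (hw : f ≫ v = w) (W : Z.Opens) (V : Y.Opens) (T : X.Opens)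
    (e₁ : V ≤ g ⁻¹ᵁ W) (e₂ : T ≤ f ⁻¹ᵁ V) :
    trLE F (f ≫ g) u w (by rw [Category.assoc, hv, hw]) W T
        (e₂.trans (f.preimage_mono e₁)) =
      trLE F g u v hv W V e₁ ≫ trLE F f v w hw V T e₂ := by
  subst hv hw
  let A := (Scheme.Modules.pullback u).obj F
  let B := (Scheme.Modules.pullback (g ≫ u)).obj F
  let C := (Scheme.Modules.pullback (f ≫ (g ≫ u))).obj F
  let a1 := pbU g A W
  let a2 := ((Scheme.Modules.pullbackComp g u).hom.app F).app (g ⁻¹ᵁ W)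
  let r1 := B.presheaf.map (homOfLE e₁).op
  let a3 := pbU f B V
  let a4 := ((Scheme.Modules.pullbackComp f (g ≫ u)).hom.app F).app (f ⁻¹ᵁ V)
  let r2 := C.presheaf.map (homOfLE e₂).op
  let b3 := pbU f B (g ⁻¹ᵁ W)
  let r3 := ((Scheme.Modules.pullback f).obj B).presheaf.map
        (homOfLE (f.preimage_mono e₁)).op
  let b4 := ((Scheme.Modules.pullbackComp f (g ≫ u)).hom.app F).app (f ⁻¹ᵁ (g ⁻¹ᵁ W))
  let r4 := C.presheaf.map (homOfLE (f.preimage_mono e₁)).op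
  let r5 := C.presheaf.map (homOfLE (e₂.trans (f.preimage_mono e₁))).op
  let p1 := pbU (f ≫ g) A W
  let p2 := ((Scheme.Modules.pullbackComp (f ≫ g) u).hom.app F ≫
        eqToHom (congrArg (fun w => (Scheme.Modules.pullback w).obj F)
          (Category.assoc f g u))).app (f ⁻¹ᵁ (g ⁻¹ᵁ W))
  have h1 : p1 ≫ p2 = (a1 ≫ a2) ≫ b3 ≫ b4 := trLE_aux F f g u W
  have h2 : r1 ≫ a3 = b3 ≫ r3 := pbU_res f B e₁
  have h3 : r3 ≫ a4 = b4 ≫ r4 :=
    app_naturality ((Scheme.Modules.pullbackComp f (g ≫ u)).hom.app F) (f.preimage_mono e₁)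
  have h4 : r4 ≫ r2 = r5 := res_res C (f.preimage_mono e₁) e₂
  have h5 : trLE F g u (g ≫ u) rfl W V e₁ = a1 ≫ a2 ≫ r1 := by
    unfold trLE
    rw [eqToHom_refl, Category.comp_id]
  have h6 : trLE F f (g ≫ u) (f ≫ (g ≫ u)) rfl V T e₂ = a3 ≫ a4 ≫ r2 := by
    unfold trLE
    rw [eqToHom_refl, Category.comp_id]
  have h7 : trLE F (f ≫ g) u (f ≫ (g ≫ u)) (by rw [Category.assoc]) W T
        (e₂.trans (f.preimage_mono e₁)) = p1 ≫ p2 ≫ r5 := rfl
  rw [h5, h6, h7]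
  calc p1 ≫ p2 ≫ r5 = (p1 ≫ p2) ≫ r5 := (Category.assoc _ _ _).symm
    _ = ((a1 ≫ a2) ≫ b3 ≫ b4) ≫ r5 := congrArg (fun k => k ≫ r5) h1
    _ = a1 ≫ a2 ≫ b3 ≫ b4 ≫ r5 := by simp only [Category.assoc]
    _ = a1 ≫ a2 ≫ b3 ≫ b4 ≫ (r4 ≫ r2) := congrArg (fun k => a1 ≫ a2 ≫ b3 ≫ b4 ≫ k) h4.symm
    _ = a1 ≫ a2 ≫ b3 ≫ (b4 ≫ r4) ≫ r2 := by simp only [Category.assoc]
    _ = a1 ≫ a2 ≫ b3 ≫ (r3 ≫ a4) ≫ r2 := congrArg (fun k => a1 ≫ a2 ≫ b3 ≫ k ≫ r2) h3.symm
    _ = a1 ≫ a2 ≫ (b3 ≫ r3) ≫ a4 ≫ r2 := by simp only [Category.assoc]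
    _ = a1 ≫ a2 ≫ (r1 ≫ a3) ≫ a4 ≫ r2 := congrArg (fun k => a1 ≫ a2 ≫ k ≫ a4 ≫ r2) h2.symm
    _ = (a1 ≫ a2 ≫ r1) ≫ a3 ≫ a4 ≫ r2 := by simp only [Category.assoc]

theorem trLE_id (v : X ⟶ S) (W V : X.Opens) (e : V ≤ W) :
    trLE F (𝟙 X) v v (Category.id_comp v) W V e =
      ((Scheme.Modules.pullback v).obj F).presheaf.map (homOfLE e).op := by
  let A := (Scheme.Modules.pullback v).obj F
  let a1 := pbU (𝟙 X) A W
  let a2 := ((Scheme.Modules.pullbackComp (𝟙 X) v).hom.app F ≫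
      eqToHom (congrArg (fun w => (Scheme.Modules.pullback w).obj F) (Category.id_comp v))).app W
  let a3 := A.presheaf.map (homOfLE e).op
  have h1 : a2 = ((Scheme.Modules.pullbackId X).hom.app A).app W :=
    congrArg (fun k => Scheme.Modules.Hom.app k W) (coh_id F v)
  have h2 : a1 ≫ a2 = 𝟙 _ := by rw [h1]; exact pbU_id A W
  have h3 : trLE F (𝟙 X) v v (Category.id_comp v) W V e = a1 ≫ a2 ≫ a3 := rfl
  rw [h3, ← Category.assoc, h2]
  exact Category.id_comp a3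

/-- restriction before transport -/
theorem res_trLE (f : X ⟶ Y) (u : Y ⟶ S) (v : X ⟶ S) (h : f ≫ u = v) (W W' : Y.Opens)
    (V : X.Opens) (e : V ≤ f ⁻¹ᵁ W') (e' : W' ≤ W) :
    ((Scheme.Modules.pullback u).obj F).presheaf.map (homOfLE e').op ≫ trLE F f u v h W' V e =
      trLE F f u v h W V (e.trans (f.preimage_mono e')) := by
  rw [← trLE_id F u W W' e']
  have := trLE_comp F f (𝟙 Y) u u v (Category.id_comp u) h W W' V e' e
  rw [← this]
  congr 1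

/-- restriction after transport -/
theorem trLE_res (f : X ⟶ Y) (u : Y ⟶ S) (v : X ⟶ S) (h : f ≫ u = v) (W : Y.Opens)
    (V V' : X.Opens) (e : V ≤ f ⁻¹ᵁ W) (e' : V' ≤ V) :
    trLE F f u v h W V e ≫ ((Scheme.Modules.pullback v).obj F).presheaf.map (homOfLE e').op =
      trLE F f u v h W V' (e'.trans e) := by
  rw [← trLE_id F v V V' e']
  have := trLE_comp F (𝟙 X) f u v v h (Category.id_comp v) W V V' e e'
  rw [← this]
  congr 1

set_option backward.isDefEq.respectTransparency false in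
theorem pbU_eq_of_isOpenImmersion (j : X ⟶ Y) [IsOpenImmersion j] (N : Y.Modules) (W : Y.Opens) :
    pbU j N W = N.presheaf.map (homOfLE (j.image_preimage_le W)).op ≫
      ((Scheme.Modules.restrictFunctorIsoPullback j).hom.app N).app (j ⁻¹ᵁ W) := by
  have h := Adjunction.unit_leftAdjointUniq_hom_app (Scheme.Modules.restrictAdjunction j)
    (Scheme.Modules.pullbackPushforwardAdjunction j) N
  exact (congrArg (fun k => Scheme.Modules.Hom.app k W) h).symm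

theorem isIso_pbU (j : X ⟶ Y) [IsOpenImmersion j] (N : Y.Modules) (W : Y.Opens)
    (h : W ≤ j.opensRange) : IsIso (pbU j N W) := by
  rw [pbU_eq_of_isOpenImmersion]
  have e : j ''ᵁ (j ⁻¹ᵁ W) = W := by
    rw [Scheme.Hom.image_preimage_eq_opensRange_inf]
    exact inf_eq_right.2 h
  have h1 : IsIso (homOfLE (j.image_preimage_le W)) := by
    have : homOfLE (j.image_preimage_le W) = eqToHom e := rfl
    rw [this]
    infer_instance
  have h2 : IsIso (N.presheaf.map (homOfLE (j.image_preimage_le W)).op) := inferInstance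
  have h3 : IsIso (((Scheme.Modules.restrictFunctorIsoPullback j).hom.app N).app (j ⁻¹ᵁ W)) := by
    infer_instance
  exact IsIso.comp_isIso' h2 h3

theorem isIso_trLE (j : X ⟶ Y) [IsOpenImmersion j] (u : Y ⟶ S) (v : X ⟶ S) (h : j ≫ u = v)
    (W : Y.Opens) (V : X.Opens) (hW : W ≤ j.opensRange) (e : V = j ⁻¹ᵁ W) :
    IsIso (trLE F j u v h W V e.le) := by
  subst e
  have h1 := isIso_pbU j ((Scheme.Modules.pullback u).obj F) W hW
  have h2 : IsIso (((Scheme.Modules.pullback v).obj F).presheaf.map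
    (homOfLE (le_refl (j ⁻¹ᵁ W))).op) := by
    rw [res_self]
    infer_instance
  unfold trLE
  have h3 : IsIso (((Scheme.Modules.pullbackComp j u).hom.app F ≫
      eqToHom (congrArg (fun w => (Scheme.Modules.pullback w).obj F) h)).app (j ⁻¹ᵁ W)) :=
    inferInstance
  exact inferInstance

end Groth.Agent.Desc.EtAssocPbU
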