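import Groth.Agent.Desc.EtAssocPb
import Groth.Agent.CohqA.PullbackQCoh
import Groth.Agent.Etbase.EtQC

/-!
# The étale sheaf associated to a quasi-coherent module is quasi-coherent

* `isBC_tr`: for `f : X ⟶ Y` a morphism of affine schemes over `S` and `F` quasi-coherent on `S`,
  `Γ(Y, u^* F) → Γ(X, v^* F)` is the base change along `Γ(Y, O) → Γ(X, O)`.
* `qcOfAssoc`: `EtAssoc.IsAssoc F G` gives `EtQC.QC G.obj`.
-/

set_option autoImplicit false

universe u

open CategoryTheory CategoryTheory.Limits AlgebraicGeometry TopologicalSpace Opposite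

namespace Groth.Agent.Desc.EtAssocQC

open TensorProduct

open Groth.Agent.Desc.EtAssocPb Groth.Agent.CohqA.PullbackQCoh Groth.Agent.CohqA.PullbackAffine
  Groth.Agent.CohqA.PullbackSections

variable {S X Y : Scheme.{u}}

/-- an isomorphism of modules is a linear equivalence on global sections -/
noncomputable def gsEquiv {M N : X.Modules} (e : M ≅ N) : Γ(M, ⊤) ≃ₗ[Γ(X, ⊤)] Γ(N, ⊤) where
  toFun x := e.hom.app ⊤ x
  invFun x := e.inv.app ⊤ x
  map_add' x y := map_add (e.hom.app ⊤).hom x y
  map_smul' r x := Scheme.Modules.Hom.app_smul e.hom r x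
  left_inv x := by
    change (e.hom.app ⊤ ≫ e.inv.app ⊤) x = x
    rw [← Scheme.Modules.Hom.comp_app, e.hom_inv_id]
    rfl
  right_inv x := by
    change (e.inv.app ⊤ ≫ e.hom.app ⊤) x = x
    rw [← Scheme.Modules.Hom.comp_app, e.inv_hom_id]
    rfl

theorem isBC_pb (f : X ⟶ Y) [IsAffine X] [IsAffine Y] (N : Y.Modules) [N.IsQuasicoherent] :
    Groth.Agent.CohqA.BaseChangeMod.IsBC f.appTop.hom (pb f N).hom := by
  have h := isBC_pbSec f N (isAffineOpen_top Y) (isAffineOpen_top X) (le_refl _)
  have h1 : pbSec f N ⊤ ⊤ (le_refl _) = pb f N := by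
    unfold pbSec
    rw [secMap_top]
    rfl
  rw [h1] at h
  have h2 : f.appLE ⊤ ⊤ (le_refl _) = f.appTop := by
    simp [Scheme.Hom.appLE]
  rw [h2] at h
  exact h

/-- For a morphism of affine schemes over `S`, the transport of sections is a base change. -/
theorem isBC_tr (F : S.Modules) [F.IsQuasicoherent] (f : X ⟶ Y) [IsAffine X] [IsAffine Y]
    (u : Y ⟶ S) (v : X ⟶ S) (h : f ≫ u = v) :
    Groth.Agent.CohqA.BaseChangeMod.IsBC f.appTop.hom (tr F f u v h).hom :=
  (isBC_pb f ((Scheme.Modules.pullback u).obj F)).of_equiv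
    (gsEquiv ((Scheme.Modules.pullbackComp f u).app F ≪≫
      eqToIso (congrArg (fun w => (Scheme.Modules.pullback w).obj F) h))) (fun _ => rfl)

/-- Transport of base changes to other universes. -/
theorem isBC_of_addEquiv {A B M N : Type u} {M' N' : Type (u + 1)} [CommRing A] [CommRing B]
    [AddCommGroup M] [AddCommGroup N] [AddCommGroup M'] [AddCommGroup N'] [Module A M] [Module B N]
    [Module A M'] [Module B N'] (φ : A →+* B) (f : M →+ N) (f' : M' →+ N')
    (h : Groth.Agent.CohqA.BaseChangeMod.IsBC φ f) (e : M' ≃ₗ[A] M) (e' : N' ≃ₗ[B] N)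
    (comm : ∀ x, e' (f' x) = f (e x)) : Groth.Agent.Etbase.FFExact.IsBC φ f' := by
  have h1 : ∀ (a : A) (m : M'), f' (a • m) = φ a • f' m := by
    intro a m
    apply e'.injective
    rw [comm, e.map_smul, h.map_smul, e'.map_smul, comm]
  refine ⟨h1, ?_⟩
  let := φ.toAlgebra
  let : Module A N := Module.compHom _ φ
  have : IsScalarTower A B N := ⟨fun a b m => by
      change (φ a * b) • m = φ a • b • m
      rw [mul_smul]⟩
  let : Module A N' := Module.compHom _ φ
  have : IsScalarTower A B N' := ⟨fun a b m => by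
      change (φ a * b) • m = φ a • b • m
      rw [mul_smul]⟩
  let g : M →ₗ[A] N := { f with map_smul' := h.map_smul }
  have hg : IsBaseChange B g := (Groth.Agent.CohqA.BaseChangeMod.isBC_iff_isBaseChange g).1 h
  let E : TensorProduct A B M' ≃ₗ[B] N' :=
    (TensorProduct.AlgebraTensorModule.congr (LinearEquiv.refl B B) e) ≪≫ₗ hg.equiv ≪≫ₗ e'.symm
  refine IsBaseChange.of_equiv E ?_
  intro x
  apply e'.injective
  change e' (e'.symm (hg.equiv (1 ⊗ₜ[A] e x))) = e' (f' x)
  rw [e'.apply_symm_apply, comm, hg.equiv_tmul, one_smul]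
  rfl

/-- The module structure on the sections of the associated presheaf. -/
@[implicit_reducible]
noncomputable def objMod (F : S.Modules) (W : S.Etale) :
    Module Γ(W.left, ⊤) (EtAssoc.obj F W : Type u) :=
  inferInstanceAs (Module Γ(W.left, ⊤) Γ((Scheme.Modules.pullback W.hom).obj F, ⊤))

section

variable {F : S.Modules} {G : EtCoh.Ab S}
  (e : ∀ U : S.Etale, (G.obj.obj (op U) : Type (u + 1)) ≃+ ULift.{u + 1} (EtAssoc.obj F U))

/-- The transported module structure. -/
@[implicit_reducible]
noncomputable def secMod (W : S.Etale) : Module Γ(W.left, ⊤) (G.obj.obj (op W) : Type (u + 1)) :=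
  letI := objMod F W
  ((e W).trans AddEquiv.ulift).module Γ(W.left, ⊤)

/-- The étale sheaf associated to a quasi-coherent module is quasi-coherent. -/
noncomputable def qc [F.IsQuasicoherent]
    (he : ∀ (U U' : S.Etale) (g : U' ⟶ U) (s : G.obj.obj (op U)),
      (e U' (G.obj.map g.op s)).down = EtAssoc.resMap F g (e U s).down) :
    Groth.Agent.Etbase.EtQC.QC G.obj where
  mod W := secMod e W
  isBC {W' W} g _ _ := by
    let := objMod F W
    let := objMod F W'
    let := secMod e W
    let := secMod e W'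
    refine isBC_of_addEquiv g.left.appTop.hom (EtAssoc.resMap F g).hom (G.obj.map g.op).hom ?_
      { (e W).trans AddEquiv.ulift with
        map_smul' := fun r x => ((e W).trans AddEquiv.ulift).apply_symm_apply _ }
      { (e W').trans AddEquiv.ulift with
        map_smul' := fun r x => ((e W').trans AddEquiv.ulift).apply_symm_apply _ } (he W W' g)
    rw [resMap_eq_tr]
    exact isBC_tr F g.left W.hom W'.hom (Over.w g.hom)

end

theorem nonempty_qc {F : S.Modules} [F.IsQuasicoherent] {G : EtCoh.Ab S}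
    (hG : EtAssoc.IsAssoc F G) : Nonempty (Groth.Agent.Etbase.EtQC.QC G.obj) := by
  obtain ⟨e, he⟩ := hG
  exact ⟨qc e he⟩

theorem etAcyc {F : S.Modules} [F.IsQuasicoherent] {G : EtCoh.Ab S}
    (hG : EtAssoc.IsAssoc F G) : Groth.Agent.Etbase.EtCartan.EtAcyc G.obj :=
  (nonempty_qc hG).some.etAcyc

end Groth.Agent.Desc.EtAssocQC
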