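import Groth.Agent.Desc.EtAssocSt
import Groth.Prelude.Def_EtZar

/-!
# The Zariski restriction of an étale sheaf associated to a module
-/

set_option autoImplicit false

universe u

open CategoryTheory CategoryTheory.Limits AlgebraicGeometry TopologicalSpace Opposite

namespace Groth.Agent.Desc.EtAssocRes

open Groth.Agent.Desc.EtAssocPb Groth.Agent.Desc.EtAssocPbU Groth.Agent.Desc.EtAssocSt

variable {S : Scheme.{u}} (F : S.Modules)

/-- `Γ(F, W) ⟶ Γ(W, ι^* F)`. -/
noncomputable def stZ (W : S.Opens) :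
    F.presheaf.obj (op W) ⟶ EtAssoc.obj F ((EtZar.zarToEt S).obj W) :=
  st F W.ι W ⊤ (le_of_eq (Scheme.Opens.ι_preimage_self W).symm)

theorem bijective_stZ (W : S.Opens) : Function.Bijective (stZ F W) :=
  bijective_st F W W.ι rfl _

theorem resMap_stZ {W W' : S.Opens} (h : W' ⟶ W) (x : F.presheaf.obj (op W)) :
    EtAssoc.resMap F ((EtZar.zarToEt S).map h) (stZ F W x) =
      stZ F W' (F.presheaf.map h.op x) := by
  rw [resMap_eq_trLE]
  have h1 := st_trLE_apply F ((EtZar.zarToEt S).map h).left ((EtZar.zarToEt S).obj W).hom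
    ((EtZar.zarToEt S).obj W').hom (Over.w ((EtZar.zarToEt S).map h).hom) W ⊤ ⊤
    (le_of_eq (Scheme.Opens.ι_preimage_self W).symm) le_rfl
    (((le_of_eq (Scheme.Opens.ι_preimage_self W').symm : (⊤ : W'.toScheme.Opens) ≤ W'.ι ⁻¹ᵁ W')).trans
      (Scheme.Hom.preimage_mono _ h.le)) x
  refine h1.trans ?_
  exact (res_st_apply F W'.ι h.le ⊤ (le_of_eq (Scheme.Opens.ι_preimage_self W').symm) x).symm

variable {F} {G : EtCoh.Ab S}

/-- The restriction to the Zariski site of an étale sheaf associated to `F` is the universe lift of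
the underlying abelian sheaf of `F`. -/
theorem nonempty_iso [EtZar.ZarCont S] (hG : EtAssoc.IsAssoc F G) :
    Nonempty ((sheafCompose (Opens.grothendieckTopology S) AddCommGrpCat.uliftFunctor.{u + 1, u}).obj
      (Coh.toAb F) ≅ (EtZar.resZar S).obj G) := by
  obtain ⟨e, he⟩ := hG
  have he' : ∀ (U U' : S.Etale) (g : U' ⟶ U) (y : ULift.{u + 1} (EtAssoc.obj F U)),
      G.obj.map g.op ((e U).symm y) = (e U').symm ⟨EtAssoc.resMap F g y.down⟩ := by
    intro U U' g y
    apply (e U').injective
    rw [AddEquiv.apply_symm_apply]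
    apply ULift.down_injective
    rw [he, AddEquiv.apply_symm_apply]
  let a : ∀ W : S.Opens, ULift.{u + 1} (F.presheaf.obj (op W)) →+
      G.obj.obj (op ((EtZar.zarToEt S).obj W)) := fun W =>
    (e ((EtZar.zarToEt S).obj W)).symm.toAddMonoidHom.comp
      ((AddEquiv.ulift.symm.toAddMonoidHom.comp (stZ F W).hom).comp AddEquiv.ulift.toAddMonoidHom)
  have ha : ∀ W, Function.Bijective (a W) := by
    intro W
    refine (e ((EtZar.zarToEt S).obj W)).symm.bijective.comp ?_
    exact (AddEquiv.ulift.symm.bijective.comp (bijective_stZ F W)).comp AddEquiv.ulift.bijective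
  let φ : ((sheafCompose (Opens.grothendieckTopology S) AddCommGrpCat.uliftFunctor.{u + 1, u}).obj
      (Coh.toAb F)).obj ⟶ ((EtZar.resZar S).obj G).obj :=
    { app := fun W => AddCommGrpCat.ofHom (a W.unop)
      naturality := by
        intro W W' h
        ext x
        change a W'.unop ⟨F.presheaf.map h x.down⟩ =
          G.obj.map ((EtZar.zarToEt S).map h.unop).op (a W.unop x)
        change (e ((EtZar.zarToEt S).obj W'.unop)).symm ⟨stZ F W'.unop (F.presheaf.map h x.down)⟩ =
          G.obj.map ((EtZar.zarToEt S).map h.unop).op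
            ((e ((EtZar.zarToEt S).obj W.unop)).symm ⟨stZ F W.unop x.down⟩)
        rw [he']
        congr 2
        exact (resMap_stZ F h.unop x.down).symm }
  have : ∀ W, IsIso (φ.app W) := by
    intro W
    rw [ConcreteCategory.isIso_iff_bijective]
    exact ha W.unop
  have : IsIso φ := NatIso.isIso_of_isIso_app φ
  exact ⟨(fullyFaithfulSheafToPresheaf _ _).preimageIso (asIso φ)⟩

end Groth.Agent.Desc.EtAssocRes
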