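import Groth.Agent.Etbase.EtSite
import Mathlib.AlgebraicGeometry.Morphisms.UniversallyOpen

/-!
# A sheaf criterion on the small étale site

A presheaf of sets on `S.Etale` is a sheaf as soon as it satisfies Zariski gluing and descent along
surjective étale morphisms between affine schemes.
-/

set_option autoImplicit false

universe w u

open CategoryTheory CategoryTheory.Limits AlgebraicGeometry TopologicalSpace Opposite

namespace Groth.Agent.Desc.EtSheafCrit

variable {S : Scheme.{u}}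

/-- An open subscheme of an object of the small étale site. -/
noncomputable def opn (U : S.Etale) (W : U.left.Opens) : S.Etale :=
  Scheme.Etale.mk (W.ι ≫ U.hom)

/-- The inclusion of an open subscheme. -/
noncomputable def inc (U : S.Etale) (W : U.left.Opens) : opn U W ⟶ U :=
  MorphismProperty.Over.homMk W.ι rfl

@[simp] theorem opn_left (U : S.Etale) (W : U.left.Opens) :
    (opn U W).left = (W : Scheme.{u}) := rfl

@[simp] theorem inc_left (U : S.Etale) (W : U.left.Opens) : (inc U W).left = W.ι := rfl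

instance (U : S.Etale) (W : U.left.Opens) : IsOpenImmersion (inc U W).left :=
  inferInstanceAs (IsOpenImmersion W.ι)

/-- Lifting a morphism through an open immersion of the small étale site. -/
theorem exists_lift {U Z V : S.Etale} (j : V ⟶ U) [IsOpenImmersion j.left] (f : Z ⟶ U)
    (h : Set.range f.left ⊆ Set.range j.left) : ∃ g : Z ⟶ V, g ≫ j = f := by
  refine ⟨MorphismProperty.Over.homMk (IsOpenImmersion.lift j.left f.left h) ?_, ?_⟩
  · have e1 : j.left ≫ U.hom = V.hom := Over.w j.hom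
    have e2 : f.left ≫ U.hom = Z.hom := Over.w f.hom
    rw [← e1, IsOpenImmersion.lift_fac_assoc, e2]
  · apply MorphismProperty.Over.Hom.ext
    exact IsOpenImmersion.lift_fac _ _ _

theorem exists_lift_opn {U Z : S.Etale} (W : U.left.Opens) (f : Z ⟶ U)
    (h : ∀ z : Z.left, f.left z ∈ W) : ∃ g : Z ⟶ opn U W, g ≫ inc U W = f := by
  refine exists_lift (inc U W) f ?_
  rintro _ ⟨z, rfl⟩
  exact (Scheme.Opens.range_ι W).ge (h z)

/-- The local geometry: through each point of `U` there is an affine open neighbourhood `W` and a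
surjective étale morphism from an affine `V` to `W`, such that `V ⟶ U` belongs to a given covering
sieve. -/
theorem exists_affine_refinement (U : S.Etale) (R : Sieve U) (hR : R ∈ S.smallEtaleTopology U)
    (x : U.left) : ∃ (W : U.left.Opens) (_ : IsAffineOpen W) (V : S.Etale) (_ : IsAffine V.left)
      (f : V ⟶ opn U W), x ∈ W ∧ Surjective f.left ∧ R (f ≫ inc U W) := by
  obtain ⟨V₁, g, v, hg, hv⟩ := (Etbase.EtSite.mem_iff U R).1 hR x
  -- an affine open neighbourhood of `x`
  obtain ⟨W₁, hW₁, hxW₁, -⟩ := exists_isAffineOpen_mem_and_subset (x := x) (U := ⊤) trivial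
  -- an affine open neighbourhood of `v` mapping to it
  obtain ⟨V₂, hV₂, hvV₂, hV₂W₁⟩ := exists_isAffineOpen_mem_and_subset (x := v)
    (U := g.left ⁻¹ᵁ W₁) (by change g.left v ∈ W₁; rw [hv]; exact hxW₁)
  -- the image of `V₂` is open
  have hopen : IsOpen (g.left '' (V₂ : Set V₁.left)) := by
    have : Etale g.left := inferInstance
    exact Scheme.Hom.isOpenMap g.left _ V₂.isOpen
  obtain ⟨r, hr1, hr2⟩ := hW₁.exists_basicOpen_le (V := ⟨_, hopen⟩) (x := ⟨x, ⟨v, hvV₂, hv⟩⟩) hxW₁
  refine ⟨U.left.basicOpen r, hW₁.basicOpen r, ?_⟩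
  -- the preimage of `D(r)` in `V₂`
  let V₃ : V₁.left.Opens := V₂ ⊓ g.left ⁻¹ᵁ (U.left.basicOpen r)
  have hV₃ : IsAffineOpen V₃ := by
    have h1 : V₃ = V₁.left.basicOpen (g.left.appLE W₁ V₂ hV₂W₁ r) := by
      rw [Scheme.basicOpen_appLE]
    rw [h1]
    exact hV₂.basicOpen _
  obtain ⟨f, hf⟩ := exists_lift_opn (U.left.basicOpen r) (inc V₁ V₃ ≫ g)
    (fun z => z.2.2)
  have hV₃' : IsAffine (opn V₁ V₃).left := hV₃
  refine ⟨opn V₁ V₃, hV₃', f, hr2, ⟨?_⟩, ?_⟩
  · intro y
    have hy : (U.left.basicOpen r).ι y ∈ g.left '' (V₂ : Set V₁.left) := hr1 y.2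
    obtain ⟨z, hz, hzy⟩ := hy
    have hz3 : z ∈ V₃ := ⟨hz, by
      change g.left z ∈ (U.left.basicOpen r : Set U.left)
      rw [hzy]
      exact y.2⟩
    refine ⟨⟨z, hz3⟩, ?_⟩
    apply (U.left.basicOpen r).ι.isOpenEmbedding.injective
    have h2 := congrArg (fun k => k.left (⟨z, hz3⟩ : (opn V₁ V₃).left)) hf
    exact h2.trans hzy
  · rw [hf]
    exact R.downward_closed hg _

variable (P : S.Etaleᵒᵖ ⥤ Type w)

/-- Zariski separatedness. -/
def ZSep : Prop := ∀ (U : S.Etale) (s t : P.obj (op U)),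
  (∀ x : U.left, ∃ W : U.left.Opens, x ∈ W ∧ P.map (inc U W).op s = P.map (inc U W).op t) → s = t

/-- Zariski gluing. -/
def ZGlue : Prop := ∀ (U : S.Etale) (W : U.left → U.left.Opens) (_ : ∀ x, x ∈ W x)
  (s : ∀ x, P.obj (op (opn U (W x))))
  (_ : ∀ (x y : U.left) (Z : S.Etale) (a : Z ⟶ opn U (W x)) (b : Z ⟶ opn U (W y)),
    a ≫ inc U (W x) = b ≫ inc U (W y) → P.map a.op (s x) = P.map b.op (s y)),
  ∃ t : P.obj (op U), ∀ x, P.map (inc U (W x)).op t = s x

/-- Injectivity along surjective étale morphisms of affine schemes. -/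
def AInj : Prop := ∀ {V W : S.Etale} (f : V ⟶ W) (_ : IsAffine V.left) (_ : IsAffine W.left)
  (_ : Surjective f.left), Function.Injective (P.map f.op)

/-- Gluing along surjective étale morphisms of affine schemes. -/
def AGlue : Prop := ∀ {V W : S.Etale} (f : V ⟶ W) (_ : IsAffine V.left) (_ : IsAffine W.left)
  (_ : Surjective f.left) (x : P.obj (op V))
  (_ : ∀ (Z : S.Etale) (a b : Z ⟶ V), a ≫ f = b ≫ f → P.map a.op x = P.map b.op x),
  ∃ y : P.obj (op W), P.map f.op y = x

variable {P}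

theorem map_comp_apply {U V W : S.Etale} (f : V ⟶ U) (g : W ⟶ V) (x : P.obj (op U)) :
    P.map (g ≫ f).op x = P.map g.op (P.map f.op x) := by
  rw [op_comp, P.map_comp]
  rfl

theorem sep (hZ : ZSep P) (hA : AInj P) (U : S.Etale) (s t : P.obj (op U)) (R : Sieve U)
    (hR : R ∈ S.smallEtaleTopology U)
    (h : ∀ (V : S.Etale) (f : V ⟶ U), R f → P.map f.op s = P.map f.op t) : s = t := by
  refine hZ U s t fun x => ?_
  obtain ⟨W, hW, V, hV, f, hxW, hf, hRf⟩ := exists_affine_refinement U R hR x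
  refine ⟨W, hxW, hA f hV hW hf ?_⟩
  rw [← map_comp_apply, ← map_comp_apply]
  exact h V _ hRf

theorem isSheaf (hZ : ZSep P) (hZ' : ZGlue P) (hA : AInj P) (hA' : AGlue P) :
    Presieve.IsSheaf S.smallEtaleTopology P := by
  intro U R hR
  -- separatedness
  have hsep := sep hZ hA
  rw [← Presieve.isSeparatedFor_and_exists_isAmalgamation_iff_isSheafFor]
  refine ⟨fun x s t hs ht => hsep U s t R hR fun V f hf => ?_, fun x hx => ?_⟩
  · rw [hs f hf, ht f hf]
  have hx' : ∀ {V Z : S.Etale} (f : V ⟶ U) (hf : R f) (g : Z ⟶ V) (k : Z ⟶ U) (hk : R k)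
      (e : g ≫ f = k), P.map g.op (x f hf) = x k hk := by
    intro V Z f hf g k hk e
    subst e
    exact (Presieve.compatible_iff_sieveCompatible x).1 hx f g hf |>.symm
  choose W hW V hV f hxW hf hRf using exists_affine_refinement U R hR
  -- sections on the `W p`
  have h1 : ∀ p, ∃ y : P.obj (op (opn U (W p))), P.map (f p).op y = x (f p ≫ inc U (W p)) (hRf p) := by
    intro p
    refine hA' (f p) (hV p) (hW p) (hf p) _ fun Z a b hab => ?_
    have hR1 : R (a ≫ f p ≫ inc U (W p)) := R.downward_closed (hRf p) a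
    rw [hx' _ (hRf p) a (a ≫ f p ≫ inc U (W p)) hR1 rfl,
      hx' _ (hRf p) b (a ≫ f p ≫ inc U (W p)) hR1 (by
        rw [← Category.assoc, ← hab, Category.assoc])]
  choose y hy using h1
  -- the sections `y p` restrict to the given family
  have h2 : ∀ (p : U.left) (Z : S.Etale) (a : Z ⟶ opn U (W p)) (ha : R (a ≫ inc U (W p))),
      P.map a.op (y p) = x (a ≫ inc U (W p)) ha := by
    intro p Z a ha
    -- the covering sieve generated by `Z ×_{W p} V p ⟶ Z`
    let R' : Sieve Z :=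
      { arrows := fun T c => ∃ d : T ⟶ V p, d ≫ f p = c ≫ a
        downward_closed := fun {T T'} c hc k => by
          obtain ⟨d, hd⟩ := hc
          exact ⟨k ≫ d, by rw [Category.assoc, hd, Category.assoc]⟩ }
    have hR' : R' ∈ S.smallEtaleTopology Z := by
      rw [Etbase.EtSite.mem_iff]
      intro z
      obtain ⟨v, hv⟩ := (hf p).surj (a.left z)
      obtain ⟨T, c, d, t, hcd, hc, hd⟩ := Etbase.EtSite.exists_pullback a (f p) z v hv.symm
      exact ⟨T, c, t, ⟨d, hcd.symm⟩, hc⟩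
    refine hsep Z _ _ R' hR' fun T c hc => ?_
    obtain ⟨d, hd⟩ := hc
    have hRc : R (c ≫ a ≫ inc U (W p)) := R.downward_closed ha c
    rw [← map_comp_apply, ← hd, map_comp_apply, hy, hx' _ (hRf p) d (c ≫ a ≫ inc U (W p)) hRc (by
      rw [← Category.assoc, hd, Category.assoc]), hx' _ ha c (c ≫ a ≫ inc U (W p)) hRc rfl]
  -- compatibility
  have h3 : ∀ (p q : U.left) (Z : S.Etale) (a : Z ⟶ opn U (W p)) (b : Z ⟶ opn U (W q)),
      a ≫ inc U (W p) = b ≫ inc U (W q) → P.map a.op (y p) = P.map b.op (y q) := by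
    intro p q Z a b hab
    refine hsep Z _ _ (R.pullback (a ≫ inc U (W p)))
      (S.smallEtaleTopology.pullback_stable _ hR) fun T c hc => ?_
    have hc1 : R (c ≫ a ≫ inc U (W p)) := hc
    have hc2 : R ((c ≫ a) ≫ inc U (W p)) := by rwa [Category.assoc]
    have hc3 : R ((c ≫ b) ≫ inc U (W q)) := by rwa [Category.assoc, ← hab]
    rw [← map_comp_apply, ← map_comp_apply, h2 p T (c ≫ a) hc2, h2 q T (c ≫ b) hc3]
    congr 1
    rw [Category.assoc, Category.assoc, hab]
  obtain ⟨t, ht⟩ := hZ' U W hxW y h3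
  refine ⟨t, fun Z g hg => ?_⟩
  refine hZ Z _ _ fun z => ⟨g.left ⁻¹ᵁ (W (g.left z)), hxW (g.left z), ?_⟩
  obtain ⟨a, ha⟩ := exists_lift_opn (W (g.left z)) (inc Z (g.left ⁻¹ᵁ (W (g.left z))) ≫ g)
    (fun z' => z'.2)
  have hR1 : R (inc Z (g.left ⁻¹ᵁ (W (g.left z))) ≫ g) := R.downward_closed hg _
  have hR2 : R (a ≫ inc U (W (g.left z))) := by rwa [ha]
  rw [hx' g hg (inc Z (g.left ⁻¹ᵁ (W (g.left z)))) _ hR2 ha.symm, ← h2 _ _ a hR2, ← ht,
    ← map_comp_apply, ← map_comp_apply, ha]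

end Groth.Agent.Desc.EtSheafCrit
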