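import Groth.Agent.Desc.EtAssocPbU
import Groth.Agent.Desc.EtSheafCrit

/-!
# The presheaf `U ↦ Γ(U, u^* F)` is a Zariski sheaf
-/

set_option autoImplicit false

universe u

open CategoryTheory CategoryTheory.Limits AlgebraicGeometry TopologicalSpace Opposite

namespace Groth.Agent.Desc.EtAssocZar

open Groth.Agent.Desc.EtAssocPb Groth.Agent.Desc.EtAssocPbU Groth.Agent.Desc.EtSheafCrit

variable {S : Scheme.{u}} (F : S.Modules)

/-- The presheaf of sets `U ↦ Γ(U, u^* F)`. -/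
noncomputable abbrev P : S.Etaleᵒᵖ ⥤ Type u := assocPresheaf F ⋙ forget AddCommGrpCat.{u}

theorem P_map_apply {U V : S.Etale} (f : V ⟶ U) (s : (P F).obj (op U)) :
    (P F).map f.op s = trLE F f.left U.hom V.hom (Over.w f.hom) ⊤ ⊤ le_rfl s := by
  have h : (assocPresheaf F).map f.op = trLE F f.left U.hom V.hom (Over.w f.hom) ⊤ ⊤ le_rfl :=
    resMap_eq_trLE F f
  exact congrArg (fun k : _ ⟶ _ => (ConcreteCategory.hom k) s) h

theorem trLE_comp_apply {X Y Z : Scheme.{u}} (f : X ⟶ Y) (g : Y ⟶ Z) (u : Z ⟶ S) (v : Y ⟶ S)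
    (w : X ⟶ S) (hv : g ≫ u = v) (hw : f ≫ v = w) (W : Z.Opens) (V : Y.Opens) (T : X.Opens)
    (e₁ : V ≤ g ⁻¹ᵁ W) (e₂ : T ≤ f ⁻¹ᵁ V)
    (s : ((Scheme.Modules.pullback u).obj F).presheaf.obj (op W)) :
    trLE F f v w hw V T e₂ (trLE F g u v hv W V e₁ s) =
      trLE F (f ≫ g) u w (by rw [Category.assoc, hv, hw]) W T
        (e₂.trans (f.preimage_mono e₁)) s := by
  rw [trLE_comp F f g u v w hv hw W V T e₁ e₂]
  rfl

theorem res_trLE_apply {X Y : Scheme.{u}} (f : X ⟶ Y) (u : Y ⟶ S) (v : X ⟶ S) (h : f ≫ u = v)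
    (W W' : Y.Opens) (V : X.Opens) (e : V ≤ f ⁻¹ᵁ W') (e' : W' ≤ W)
    (s : ((Scheme.Modules.pullback u).obj F).presheaf.obj (op W)) :
    trLE F f u v h W' V e (((Scheme.Modules.pullback u).obj F).presheaf.map (homOfLE e').op s) =
      trLE F f u v h W V (e.trans (f.preimage_mono e')) s := by
  rw [← res_trLE F f u v h W W' V e e']
  rfl

theorem trLE_res_comp_apply {X X' Y : Scheme.{u}} (j : X ⟶ Y) (j' : X' ⟶ Y) (a : X' ⟶ X)
    (u : Y ⟶ S) (v : X ⟶ S) (v' : X' ⟶ S) (hj : j ≫ u = v) (hj' : j' ≫ u = v')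
    (ha : a ≫ j = j') (hav : a ≫ v = v') (W W' : Y.Opens) (e : W' ≤ W) (eW : ⊤ ≤ j ⁻¹ᵁ W)
    (eW' : ⊤ ≤ j' ⁻¹ᵁ W') (s : ((Scheme.Modules.pullback u).obj F).presheaf.obj (op W)) :
    trLE F j' u v' hj' W' ⊤ eW'
      (((Scheme.Modules.pullback u).obj F).presheaf.map (homOfLE e).op s) =
      trLE F a v v' hav ⊤ ⊤ le_rfl (trLE F j u v hj W ⊤ eW s) := by
  subst ha
  exact (res_trLE_apply F (a ≫ j) u v' hj' W W' ⊤ eW' e s).trans
    (trLE_comp_apply F a j u v v' hj hav W ⊤ ⊤ eW le_rfl s).symm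

/-- The identification of `Γ(u^* F, W)` with the sections over the object `W` of the étale site. -/
noncomputable def φ (U : S.Etale) (W : U.left.Opens) :
    ((Scheme.Modules.pullback U.hom).obj F).presheaf.obj (op W) ⟶ EtAssoc.obj F (opn U W) :=
  trLE F (inc U W).left U.hom (opn U W).hom (Over.w (inc U W).hom) W ⊤
    (le_of_eq (Scheme.Opens.ι_preimage_self W).symm)

theorem isIso_φ (U : S.Etale) (W : U.left.Opens) : IsIso (φ F U W) := by
  refine isIso_trLE F (inc U W).left U.hom (opn U W).hom (Over.w (inc U W).hom) W ⊤ ?_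
    (Scheme.Opens.ι_preimage_self W).symm
  exact le_of_eq (Scheme.Opens.opensRange_ι W).symm

theorem bijective_φ (U : S.Etale) (W : U.left.Opens) : Function.Bijective (φ F U W) :=
  (ConcreteCategory.isIso_iff_bijective _).1 (isIso_φ F U W)

theorem P_map_inc (U : S.Etale) (W : U.left.Opens) (s : (P F).obj (op U)) :
    (P F).map (inc U W).op s =
      φ F U W (((Scheme.Modules.pullback U.hom).obj F).presheaf.map (homOfLE le_top).op s) := by
  rw [P_map_apply]
  exact (res_trLE_apply F (inc U W).left U.hom (opn U W).hom (Over.w (inc U W).hom) ⊤ W ⊤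
    (le_of_eq (Scheme.Opens.ι_preimage_self W).symm) le_top s).symm

theorem zsep : ZSep (P F) := by
  intro U s t h
  let N := (Scheme.Modules.pullback U.hom).obj F
  choose W hxW hW using h
  refine TopCat.Sheaf.eq_of_locally_eq' ⟨N.presheaf, N.isSheaf⟩ W ⊤ (fun x => homOfLE le_top)
    (fun x _ => (TopologicalSpace.Opens.mem_iSup).2 ⟨x, hxW x⟩) s t fun x => ?_
  have h1 := hW x
  rw [P_map_inc, P_map_inc] at h1
  exact (bijective_φ F U (W x)).1 h1

/-- Compatibility of `φ` with inclusions of opens. -/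
theorem φ_res (U : S.Etale) (W W' : U.left.Opens) (e : W' ≤ W) (a : opn U W' ⟶ opn U W)
    (ha : a ≫ inc U W = inc U W')
    (s : ((Scheme.Modules.pullback U.hom).obj F).presheaf.obj (op W)) :
    φ F U W' (((Scheme.Modules.pullback U.hom).obj F).presheaf.map (homOfLE e).op s) =
      (P F).map a.op (φ F U W s) := by
  rw [P_map_apply]
  exact trLE_res_comp_apply F (inc U W).left (inc U W').left a.left U.hom (opn U W).hom
    (opn U W').hom (Over.w (inc U W).hom) (Over.w (inc U W').hom)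
    (congrArg (fun k => k.left) ha) (Over.w a.hom) W W' e _ _ s

theorem zglue : ZGlue (P F) := by
  intro U W hxW s hs
  let N := (Scheme.Modules.pullback U.hom).obj F
  choose s' hs' using fun x => (bijective_φ F U (W x)).2 (s x)
  obtain ⟨t, ht, -⟩ := TopCat.Sheaf.existsUnique_gluing' ⟨N.presheaf, N.isSheaf⟩ W ⊤
    (fun x => homOfLE le_top)
    (fun x _ => (TopologicalSpace.Opens.mem_iSup).2 ⟨x, hxW x⟩) s' (by
      intro x y
      have e1 : W x ⊓ W y ≤ W x := inf_le_left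
      have e2 : W x ⊓ W y ≤ W y := inf_le_right
      obtain ⟨a, ha⟩ := exists_lift_opn (W x) (inc U (W x ⊓ W y)) (fun z => z.2.1)
      obtain ⟨b, hb⟩ := exists_lift_opn (W y) (inc U (W x ⊓ W y)) (fun z => z.2.2)
      have h1 := φ_res F U _ _ e1 a ha (s' x)
      have h2 := φ_res F U _ _ e2 b hb (s' y)
      rw [hs'] at h1 h2
      exact (bijective_φ F U (W x ⊓ W y)).1 (h1.trans ((hs x y _ a b (ha.trans hb.symm)).trans
        h2.symm)))
  refine ⟨t, fun x => ?_⟩
  rw [P_map_inc, ← hs' x]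
  exact congrArg _ (ht x)

end Groth.Agent.Desc.EtAssocZar
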