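import Groth.Agent.Desc.EtSheafCrit
import Groth.Agent.Etbase.EtCartan
import Groth.Agent.Etbase.FFExact
import Mathlib.AlgebraicGeometry.Morphisms.Flat

/-!
# Descent for presheaves with the base change property on affine étale schemes

Let `P` be a presheaf of abelian groups on the small étale site with `Γ(W, O)`-module structures
on `P(W)` such that `P(W) → P(V)` is the base change along `Γ(W, O) → Γ(V, O)` for `V ⟶ W` with
`V`, `W` affine.  Then `P` satisfies descent along surjective `V ⟶ W` with `V`, `W` affine.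
-/

set_option autoImplicit false

universe w u

open CategoryTheory CategoryTheory.Limits AlgebraicGeometry TopologicalSpace Opposite

namespace Groth.Agent.Desc.EtDescent

open Groth.Agent.Etbase.FFExact Groth.Agent.Etbase.EtCartan

/-- Pushout squares of rings in the form needed by `IsBC.of_isPushout`. -/
theorem alg_isPushout {A B A' B' : Type u} [CommRing A] [CommRing B] [CommRing A'] [CommRing B']
    (α : A →+* A') (φ : A →+* B) (φ' : A' →+* B') (β : B →+* B') (comm : φ'.comp α = β.comp φ)
    (h : IsPushout (CommRingCat.ofHom α) (CommRingCat.ofHom φ) (CommRingCat.ofHom φ')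
      (CommRingCat.ofHom β)) :
    letI := α.toAlgebra; letI := φ.toAlgebra; letI := φ'.toAlgebra; letI := β.toAlgebra
    letI := (φ'.comp α).toAlgebra
    haveI : IsScalarTower A A' B' := IsScalarTower.of_algebraMap_eq' rfl
    haveI : IsScalarTower A B B' := IsScalarTower.of_algebraMap_eq' comm
    Algebra.IsPushout A B A' B' := by
  let := α.toAlgebra
  let := φ.toAlgebra
  let := φ'.toAlgebra
  let := β.toAlgebra
  let := (φ'.comp α).toAlgebra
  have : IsScalarTower A A' B' := IsScalarTower.of_algebraMap_eq' rfl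
  have : IsScalarTower A B B' := IsScalarTower.of_algebraMap_eq' comm
  have h2 := (CommRingCat.isPushout_iff_isPushout (R := A) (R' := A') (S := B) (S' := B')).1 h
  exact h2.symm

variable {S : Scheme.{u}} (P : S.Etaleᵒᵖ ⥤ AddCommGrpCat.{w})
  [∀ W : S.Etale, Module Γ(W.left, ⊤) (P.obj (op W))]

theorem faithfullyFlat {V W : S.Etale} (f : V ⟶ W) (hV : IsAffine V.left) (hW : IsAffine W.left)
    (hf : Surjective f.left) : f.left.appTop.hom.FaithfullyFlat := by
  rw [← Flat.flat_and_surjective_iff_faithfullyFlat_of_isAffine]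
  exact ⟨inferInstance, hf⟩

variable {P} (h : ∀ {V W : S.Etale} (g : V ⟶ W), IsAffine V.left → IsAffine W.left →
    IsBC g.left.appTop.hom (P.map g.op).hom)

include h

theorem injective {V W : S.Etale} (f : V ⟶ W) (hV : IsAffine V.left) (hW : IsAffine W.left)
    (hf : Surjective f.left) : Function.Injective (P.map f.op) := by
  let φ := f.left.appTop.hom
  have hff : φ.FaithfullyFlat := faithfullyFlat f hV hW hf
  let := φ.toAlgebra
  have : Module.FaithfullyFlat Γ(W.left, ⊤) Γ(V.left, ⊤) := hff
  obtain ⟨h1, h2⟩ := h f hV hW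
  let : Module Γ(W.left, ⊤) (P.obj (op V)) := Module.compHom _ φ
  have : IsScalarTower Γ(W.left, ⊤) Γ(V.left, ⊤) (P.obj (op V)) := ⟨fun a b m => by
      change (φ a * b) • m = φ a • b • m
      rw [mul_smul]⟩
  intro x y hxy
  have h3 : (1 : Γ(V.left, ⊤)) ⊗ₜ[Γ(W.left, ⊤)] x = 1 ⊗ₜ[Γ(W.left, ⊤)] y := by
    apply h2.equiv.injective
    rw [h2.equiv_tmul, h2.equiv_tmul, one_smul, one_smul]
    exact hxy
  have h4 : (1 : Γ(V.left, ⊤)) ⊗ₜ[Γ(W.left, ⊤)] (x - y) = 0 := by
    rw [TensorProduct.tmul_sub, h3, sub_self]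
  rw [Module.FaithfullyFlat.one_tmul_eq_zero_iff] at h4
  exact sub_eq_zero.1 h4

theorem exists_glue {V W : S.Etale} (f : V ⟶ W) (hV : IsAffine V.left) (hW : IsAffine W.left)
    (hf : Surjective f.left) (x : P.obj (op V))
    (hx : ∀ (Z : S.Etale) (a b : Z ⟶ V), IsAffine Z.left → a ≫ f = b ≫ f →
      P.map a.op x = P.map b.op x) :
    ∃ y : P.obj (op W), P.map f.op y = x := by
  have sq : IsPullback (pullback.fst f f) (pullback.snd f f) f f := IsPullback.of_hasPullback f f
  let Z : S.Etale := pullback f f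
  let p : Z ⟶ V := pullback.fst f f
  let q : Z ⟶ V := pullback.snd f f
  have sq' : IsPullback p.left q.left f.left f.left := isPullback_left sq
  have hZ : IsAffine Z.left := by
    have : IsAffine (pullback f.left f.left) := inferInstance
    exact IsAffine.of_isIso sq'.isoPullback.hom
  have hpo := isPushout_appTop_of_isPullback sq'
  have hpq : p ≫ f = q ≫ f := sq.w
  have comm : p.left.appTop.hom.comp f.left.appTop.hom =
      q.left.appTop.hom.comp f.left.appTop.hom := congrArg (fun z => z.hom) hpo.w
  let φ := f.left.appTop.hom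
  let modV : Module Γ(W.left, ⊤) (P.obj (op V)) := Module.compHom _ φ
  let modZ : Module Γ(V.left, ⊤) (P.obj (op Z)) := Module.compHom _ q.left.appTop.hom
  -- base change of `P(V)` along `W ← V`
  have hbc : IsBC φ (P.map p.op).hom (M := P.obj (op V)) (M' := P.obj (op Z)) := by
    refine IsBC.of_isPushout φ φ p.left.appTop.hom q.left.appTop.hom comm ?_ _
      (fun _ _ => rfl) (fun _ _ => rfl) (h p hZ hV)
    exact alg_isPushout φ φ p.left.appTop.hom q.left.appTop.hom comm hpo
  let d : P.obj (op W) →ₗ[Γ(W.left, ⊤)] P.obj (op V) :=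
    { toFun := P.map f.op
      map_add' := map_add _
      map_smul' := (h f hV hW).1 }
  let d' : P.obj (op V) →ₗ[Γ(V.left, ⊤)] P.obj (op Z) :=
    { toFun := P.map q.op
      map_add' := map_add _
      map_smul' := (h q hZ hV).1 }
  refine IsBC.exact φ (faithfullyFlat f hV hW hf) d d' (P.map f.op).hom (P.map p.op).hom
    (h f hV hW) hbc ?_ x ⟨x, (hx Z q p hZ hpq.symm)⟩
  intro m
  change (P.map f.op ≫ P.map p.op) m = (P.map f.op ≫ P.map q.op) m
  rw [← P.map_comp, ← P.map_comp, ← op_comp, ← op_comp, hpq]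

end Groth.Agent.Desc.EtDescent
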