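import Groth.Agent.Desc.EtMod
import Groth.Agent.Desc.EtSheafCrit

/-!
# Functors on étale `O`-modules

* `ab X : MEt X ⥤ Sheaf X.smallEtaleTopology AddCommGrpCat.{u}` and `up X`, `toAbEt X`: the underlying abelian
  sheaves, at level `u` and at level `u + 1` (in `EtCoh.Ab X`).
* `pushM f : MEt T ⥤ MEt S`: direct image.
* `opnF U : U.left.Opens ⥤ X.Etale`, `zar U : MEt X ⥤ U.left.Modules`: restriction to the Zariski
  site of an object of the small étale site.
-/

set_option autoImplicit false
universe w u

open CategoryTheory CategoryTheory.Limits AlgebraicGeometry Opposite TopologicalSpace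

namespace Groth.Agent.Desc.EtModFun

open EtMod EtSheafCrit

variable {X Y T S : Scheme.{u}}

/-- The underlying abelian sheaf (level `u`). -/
noncomputable abbrev ab (X : Scheme.{u}) :
    MEt X ⥤ Sheaf X.smallEtaleTopology AddCommGrpCat.{u} :=
  SheafOfModules.toSheaf (O X)

instance : PreservesLimitsOfSize.{u + 1, u + 1} AddCommGrpCat.uliftFunctor.{u + 1, u} := inferInstance

/-- The universe lift of abelian sheaves. -/
noncomputable abbrev up (X : Scheme.{u}) :
    Sheaf X.smallEtaleTopology AddCommGrpCat.{u} ⥤ EtCoh.Ab X :=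
  sheafCompose X.smallEtaleTopology AddCommGrpCat.uliftFunctor.{u + 1, u}

/-- The underlying abelian sheaf in `EtCoh.Ab X`. -/
noncomputable abbrev toAbEt (X : Scheme.{u}) : MEt X ⥤ EtCoh.Ab X := ab X ⋙ up X

/-- The morphism of presheaves of rings underlying the direct image. -/
noncomputable def bcC (f : T ⟶ S) : OC S ⟶ (EtCoh.bc f).op ⋙ OC T where
  app V := (pullback.fst V.unop.hom f).appTop
  naturality V V' g := by
    have h := (EtCoh.isPullback_bc_map f g.unop).w
    have h2 := congrArg (fun k => Scheme.Hom.appTop k) h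
    simp only [Scheme.Hom.comp_appTop] at h2
    exact h2.symm

/-- The morphism of sheaves of rings `O_S ⟶ f_* O_T`. -/
noncomputable def bcR (f : T ⟶ S) : O S ⟶
    ((EtCoh.bc f).sheafPushforwardContinuous RingCat.{u} S.smallEtaleTopology
      T.smallEtaleTopology).obj (O T) :=
  ⟨Functor.whiskerRight (bcC f) (forget₂ CommRingCat.{u} RingCat.{u})⟩

/-- Direct image of étale `O`-modules. -/
noncomputable def pushM (f : T ⟶ S) : MEt T ⥤ MEt S := SheafOfModules.pushforward (bcR f)

/-- Opens of an object of the small étale site, as objects of the small étale site. -/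
noncomputable def opnF (U : X.Etale) : U.left.Opens ⥤ X.Etale where
  obj W := opn U W
  map {W W'} h := MorphismProperty.Over.homMk (U.left.homOfLE h.le)
    (by change U.left.homOfLE h.le ≫ W'.ι ≫ U.hom = W.ι ≫ U.hom
        rw [Scheme.homOfLE_ι_assoc])
  map_id W := MorphismProperty.Over.Hom.ext (by
    change U.left.homOfLE (le_refl W) = 𝟙 _
    simp)
  map_comp {W W' W''} h h' := MorphismProperty.Over.Hom.ext (by
    change U.left.homOfLE (h.le.trans h'.le) = U.left.homOfLE h.le ≫ U.left.homOfLE h'.le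
    simp)

@[simp] theorem opnF_map_left (U : X.Etale) {W W' : U.left.Opens} (h : W ⟶ W') :
    ((opnF U).map h).left = U.left.homOfLE h.le := rfl

theorem opnF_map_inc (U : X.Etale) {W W' : U.left.Opens} (h : W ⟶ W') :
    (opnF U).map h ≫ inc U W' = inc U W :=
  MorphismProperty.Over.Hom.ext (by
    change U.left.homOfLE h.le ≫ W'.ι = W.ι
    simp)

theorem mono_inc (U : X.Etale) (W : U.left.Opens) : Mono (inc U W) where
  right_cancellation f g h := by
    apply MorphismProperty.Over.Hom.ext
    have h2 : f.left ≫ W.ι = g.left ≫ W.ι := congrArg (fun k => k.left) h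
    exact (cancel_mono W.ι).1 h2

theorem compatiblePreserving_opnF (U : X.Etale) :
    CompatiblePreserving.{w} X.smallEtaleTopology (opnF U) where
  compatible ℱ Z R x hx Y₁ Y₂ W f₁ f₂ g₁ g₂ hg₁ hg₂ h := by
    have h1 : f₁ ≫ inc U Y₁ = f₂ ≫ inc U Y₂ := by
      rw [← opnF_map_inc U g₁, ← opnF_map_inc U g₂, ← Category.assoc, h, Category.assoc]
    have hz : ∀ z : W.left, (f₁ ≫ inc U Y₁).left z ∈ Y₁ ⊓ Y₂ := by
      intro z
      refine ⟨(f₁.left z).2, ?_⟩
      rw [h1]
      exact (f₂.left z).2
    obtain ⟨f, hf⟩ := exists_lift_opn (Y₁ ⊓ Y₂) (f₁ ≫ inc U Y₁) hz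
    have e1 : f ≫ (opnF U).map (homOfLE inf_le_left) = f₁ :=
      (mono_inc U Y₁).right_cancellation _ _ ((Category.assoc _ _ _).trans
        ((congrArg (fun k => f ≫ k) (opnF_map_inc U _)).trans hf))
    have e2 : f ≫ (opnF U).map (homOfLE inf_le_right) = f₂ :=
      (mono_inc U Y₂).right_cancellation _ _ ((Category.assoc _ _ _).trans
        ((congrArg (fun k => f ≫ k) (opnF_map_inc U _)).trans (hf.trans h1)))
    have h3 := hx (homOfLE (inf_le_left : Y₁ ⊓ Y₂ ≤ Y₁)) (homOfLE (inf_le_right : Y₁ ⊓ Y₂ ≤ Y₂))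
      hg₁ hg₂ (Subsingleton.elim _ _)
    rw [← e1, ← e2, op_comp, op_comp, Functor.map_comp, Functor.map_comp]
    exact congrArg (ℱ.obj.map f.op) h3

theorem coverPreserving_opnF (U : X.Etale) :
    CoverPreserving (Opens.grothendieckTopology U.left) X.smallEtaleTopology (opnF U) where
  cover_preserve {W R} hR := by
    rw [Etbase.EtSite.mem_iff]
    intro w
    obtain ⟨V, f, hf, hwV⟩ := hR w.1 w.2
    exact ⟨opn U V, (opnF U).map f, ⟨w.1, hwV⟩, Sieve.image_mem_functorPushforward _ _ hf,
      Subtype.ext (Scheme.homOfLE_apply f.le ⟨w.1, hwV⟩)⟩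

instance isContinuous_opnF (U : X.Etale) :
    (opnF U).IsContinuous (Opens.grothendieckTopology U.left) X.smallEtaleTopology :=
  Functor.isContinuous_of_coverPreserving (compatiblePreserving_opnF U) (coverPreserving_opnF U)

theorem presheaf_map_topIso_inv (Y : Scheme.{u}) {W W' : Y.Opens} (h : W' ≤ W) :
    Y.presheaf.map (homOfLE h).op ≫ (Scheme.Opens.topIso W').inv =
      (Scheme.Opens.topIso W).inv ≫ (Y.homOfLE h).appTop := by
  rw [Scheme.homOfLE_appTop, Scheme.Opens.topIso_inv, Scheme.Opens.topIso_inv]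
  exact ((Y.presheaf.map_comp _ _).symm.trans
    (congrArg Y.presheaf.map (Subsingleton.elim _ _))).trans (Y.presheaf.map_comp _ _)

/-- The morphism of presheaves of rings for the restriction to opens. -/
noncomputable def opnC (U : X.Etale) : U.left.presheaf ⟶ (opnF U).op ⋙ OC X where
  app W := (Scheme.Opens.topIso W.unop).inv
  naturality W W' h := by
    exact presheaf_map_topIso_inv U.left h.unop.le

/-- The isomorphism of sheaves of rings `O_U ≅ O_X|_U` on the opens of `U`. -/
noncomputable def opnR (U : X.Etale) : U.left.ringCatSheaf ⟶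
    ((opnF U).sheafPushforwardContinuous RingCat.{u} (Opens.grothendieckTopology U.left)
      X.smallEtaleTopology).obj (O X) :=
  ⟨Functor.whiskerRight (opnC U) (forget₂ CommRingCat.{u} RingCat.{u})⟩

/-- Restriction of étale `O`-modules to the Zariski site of `U`. -/
noncomputable def zar (U : X.Etale) : MEt X ⥤ U.left.Modules :=
  SheafOfModules.pushforward (opnR U)

end Groth.Agent.Desc.EtModFun
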