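import Groth.Agent.Desc.EtAssocBC
import Groth.Agent.Desc.EtAssocZar
import Groth.Agent.Desc.EtDescent
import Groth.Agent.Desc.EtModFun

/-!
# The presheaf `U ↦ Γ(U, u^* F)` is an étale sheaf for `F` quasi-coherent
-/

set_option autoImplicit false

universe u

open CategoryTheory CategoryTheory.Limits AlgebraicGeometry TopologicalSpace Opposite

namespace Groth.Agent.Desc.EtAssocSheaf

open EtAssocPb EtAssocPbU EtAssocZar EtAssocBC EtSheafCrit

variable {S : Scheme.{u}} (F : S.Modules) [F.IsQuasicoherent]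

noncomputable instance moduleObj' (W : S.Etale) :
    Module Γ(W.left, ⊤) ((assocPresheaf F).obj (op W)) :=
  inferInstanceAs (Module Γ(W.left, ⊤) (EtAssoc.obj F W))

theorem isBC_assoc {V W : S.Etale} (g : V ⟶ W) (hV : IsAffine V.left) (hW : IsAffine W.left) :
    Groth.Agent.Etbase.FFExact.IsBC g.left.appTop.hom ((assocPresheaf F).map g.op).hom :=
  isBC_ff (isBC_map F g hV hW)

theorem aInj : AInj (P F) := fun f hV hW hf =>
  EtDescent.injective (P := assocPresheaf F) (isBC_assoc F) f hV hW hf

theorem aGlue : AGlue (P F) := fun f hV hW hf x hx =>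
  EtDescent.exists_glue (P := assocPresheaf F) (isBC_assoc F) f hV hW hf x
    (fun Z a b _ hab => hx Z a b hab)

theorem isSheaf_P : Presieve.IsSheaf S.smallEtaleTopology (P F) :=
  isSheaf (zsep F) (zglue F) (aInj F) (aGlue F)

theorem isSheaf_assocPresheaf : Presheaf.IsSheaf S.smallEtaleTopology (assocPresheaf F) := by
  apply Presheaf.isSheaf_of_isSheaf_comp S.smallEtaleTopology _ (forget AddCommGrpCat.{u})
  rw [isSheaf_iff_isSheaf_of_type]
  exact isSheaf_P F

/-- The étale sheaf associated to a quasi-coherent module (level `u`). -/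
noncomputable def sh : Sheaf S.smallEtaleTopology AddCommGrpCat.{u} :=
  ⟨assocPresheaf F, isSheaf_assocPresheaf F⟩

theorem isAssoc : EtAssoc.IsAssoc F ((EtModFun.up S).obj (sh F)) :=
  ⟨fun _ => AddEquiv.refl _, fun _ _ _ _ => rfl⟩

end Groth.Agent.Desc.EtAssocSheaf
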