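import Groth.Agent.Desc.EtAssocPbU

/-!
# From sections of `F` to sections of `v^* F`

`st F v W V e : Γ(F, W) ⟶ Γ(v^* F, V)` for `V ≤ v⁻¹ W`, compatible with the transition maps `trLE`.
-/

set_option autoImplicit false

universe u

open CategoryTheory CategoryTheory.Limits AlgebraicGeometry TopologicalSpace Opposite

namespace Groth.Agent.Desc.EtAssocSt

open Groth.Agent.Desc.EtAssocPb Groth.Agent.Desc.EtAssocPbU

variable {X Y S : Scheme.{u}} (F : S.Modules)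

/-- `Γ(F, W) ⟶ Γ(v^* F, V)` for `V ≤ v⁻¹ W`. -/
noncomputable def st (v : X ⟶ S) (W : S.Opens) (V : X.Opens) (e : V ≤ v ⁻¹ᵁ W) :
    F.presheaf.obj (op W) ⟶ ((Scheme.Modules.pullback v).obj F).presheaf.obj (op V) :=
  pbU v F W ≫ ((Scheme.Modules.pullback v).obj F).presheaf.map (homOfLE e).op

theorem st_smul (v : X ⟶ S) (W : S.Opens) (V : X.Opens) (e : V ≤ v ⁻¹ᵁ W) (a : Γ(S, W))
    (x : F.presheaf.obj (op W)) :
    st F v W V e (a • x) = v.appLE W V e a • st F v W V e x := by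
  have h1 : pbU v F W (a • x) = (v.app W a) • pbU v F W x :=
    Scheme.Modules.Hom.app_smul
      ((Scheme.Modules.pullbackPushforwardAdjunction v).unit.app F) a x
  refine (congrArg (((Scheme.Modules.pullback v).obj F).presheaf.map (homOfLE e).op) h1).trans ?_
  exact Scheme.Modules.map_smul _ (homOfLE e) _ _

theorem st_trLE (f : X ⟶ Y) (u : Y ⟶ S) (v : X ⟶ S) (h : f ≫ u = v) (W : S.Opens)
    (V : Y.Opens) (T : X.Opens) (e₁ : V ≤ u ⁻¹ᵁ W) (e₂ : T ≤ f ⁻¹ᵁ V) (e : T ≤ v ⁻¹ᵁ W) :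
    st F u W V e₁ ≫ trLE F f u v h V T e₂ = st F v W T e := by
  subst h
  let A := (Scheme.Modules.pullback u).obj F
  let C := (Scheme.Modules.pullback (f ≫ u)).obj F
  let a1 := pbU u F W
  let r1 := A.presheaf.map (homOfLE e₁).op
  let a3 := pbU f A V
  let a4 := ((Scheme.Modules.pullbackComp f u).hom.app F).app (f ⁻¹ᵁ V)
  let r2 := C.presheaf.map (homOfLE e₂).op
  let b3 := pbU f A (u ⁻¹ᵁ W)
  let r3 := ((Scheme.Modules.pullback f).obj A).presheaf.map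
        (homOfLE (f.preimage_mono e₁)).op
  let b4 := ((Scheme.Modules.pullbackComp f u).hom.app F).app (f ⁻¹ᵁ (u ⁻¹ᵁ W))
  let r4 := C.presheaf.map (homOfLE (f.preimage_mono e₁)).op
  let r5 := C.presheaf.map (homOfLE e).op
  have h1 : pbU (f ≫ u) F W = a1 ≫ b3 ≫ b4 := pbU_comp f u F W
  have h2 : r1 ≫ a3 = b3 ≫ r3 := pbU_res f A e₁
  have h3 : r3 ≫ a4 = b4 ≫ r4 :=
    app_naturality ((Scheme.Modules.pullbackComp f u).hom.app F) (f.preimage_mono e₁)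
  have h4 : r4 ≫ r2 = r5 := res_res C (f.preimage_mono e₁) e₂
  have h6 : trLE F f u (f ≫ u) rfl V T e₂ = a3 ≫ a4 ≫ r2 := by
    unfold trLE
    rw [eqToHom_refl, Category.comp_id]
  have h7 : st F (f ≫ u) W T e = pbU (f ≫ u) F W ≫ r5 := rfl
  have h8 : st F u W V e₁ = a1 ≫ r1 := rfl
  rw [h6, h7, h8, h1]
  calc (a1 ≫ r1) ≫ a3 ≫ a4 ≫ r2 = a1 ≫ (r1 ≫ a3) ≫ a4 ≫ r2 := by simp only [Category.assoc]
    _ = a1 ≫ (b3 ≫ r3) ≫ a4 ≫ r2 := congrArg (fun k => a1 ≫ k ≫ a4 ≫ r2) h2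
    _ = a1 ≫ b3 ≫ (r3 ≫ a4) ≫ r2 := by simp only [Category.assoc]
    _ = a1 ≫ b3 ≫ (b4 ≫ r4) ≫ r2 := congrArg (fun k => a1 ≫ b3 ≫ k ≫ r2) h3
    _ = a1 ≫ b3 ≫ b4 ≫ (r4 ≫ r2) := by simp only [Category.assoc]
    _ = a1 ≫ b3 ≫ b4 ≫ r5 := congrArg (fun k => a1 ≫ b3 ≫ b4 ≫ k) h4
    _ = (a1 ≫ b3 ≫ b4) ≫ r5 := by simp only [Category.assoc]

theorem st_trLE_apply (f : X ⟶ Y) (u : Y ⟶ S) (v : X ⟶ S) (h : f ≫ u = v) (W : S.Opens)
    (V : Y.Opens) (T : X.Opens) (e₁ : V ≤ u ⁻¹ᵁ W) (e₂ : T ≤ f ⁻¹ᵁ V) (e : T ≤ v ⁻¹ᵁ W)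
    (x : F.presheaf.obj (op W)) :
    trLE F f u v h V T e₂ (st F u W V e₁ x) = st F v W T e x := by
  rw [← st_trLE F f u v h W V T e₁ e₂ e]
  rfl

theorem res_st (v : X ⟶ S) {W W' : S.Opens} (h : W' ≤ W) (V : X.Opens) (e : V ≤ v ⁻¹ᵁ W') :
    F.presheaf.map (homOfLE h).op ≫ st F v W' V e =
      st F v W V (e.trans (v.preimage_mono h)) := by
  have h1 : F.presheaf.map (homOfLE h).op ≫ pbU v F W' = pbU v F W ≫
      ((Scheme.Modules.pullback v).obj F).presheaf.map (homOfLE (v.preimage_mono h)).op :=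
    pbU_res v F h
  unfold st
  refine (Category.assoc _ _ _).symm.trans ?_
  refine (congrArg (fun k => k ≫ ((Scheme.Modules.pullback v).obj F).presheaf.map
    (homOfLE e).op) h1).trans ?_
  refine (Category.assoc _ _ _).trans ?_
  exact congrArg (fun k => pbU v F W ≫ k) (res_res _ (v.preimage_mono h) e)

theorem res_st_apply (v : X ⟶ S) {W W' : S.Opens} (h : W' ≤ W) (V : X.Opens)
    (e : V ≤ v ⁻¹ᵁ W') (x : F.presheaf.obj (op W)) :
    st F v W' V e (F.presheaf.map (homOfLE h).op x) =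
      st F v W V (e.trans (v.preimage_mono h)) x := by
  rw [← res_st F v h V e]
  rfl

theorem isIso_st (j : X ⟶ S) [IsOpenImmersion j] (W : S.Opens) (V : X.Opens)
    (hW : W ≤ j.opensRange) (e : V = j ⁻¹ᵁ W) : IsIso (st F j W V e.le) := by
  subst e
  have h1 := isIso_pbU j F W hW
  have h2 : IsIso (((Scheme.Modules.pullback j).obj F).presheaf.map
    (homOfLE (le_refl (j ⁻¹ᵁ W))).op) := by
    rw [res_self]
    infer_instance
  unfold st
  infer_instance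

/-- `Γ(F, W) ≃ Γ(ι_W^* F, ⊤)`. -/
theorem bijective_st (W : S.Opens) (v : (W : Scheme.{u}) ⟶ S) (hv : v = W.ι) (e : ⊤ ≤ v ⁻¹ᵁ W) :
    Function.Bijective (st F v W ⊤ e) := by
  subst hv
  have := isIso_st F W.ι W ⊤ (le_of_eq (Scheme.Opens.opensRange_ι W).symm)
    (Scheme.Opens.ι_preimage_self W).symm
  exact (ConcreteCategory.isIso_iff_bijective _).1 this

end Groth.Agent.Desc.EtAssocSt
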