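import Groth.Agent.CohqA.FBCGeom

/-!
# Flat base change for complexes of sections of flasque resolutions

A version of `CohqA.FBCRes.quasiIso_phi_affine` and `CohqA.FBCGeom.quasiIso_phi_of_isPullback` where
injective resolutions are replaced by flasque complexes with given kernel in degree zero, whose
sections over (given) affine opens are exact in positive degrees.
-/

set_option autoImplicit false
universe u

open CategoryTheory CategoryTheory.Limits AlgebraicGeometry Opposite TopologicalSpace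

namespace Groth.Agent.Desc.EtFBCKer

open Groth.Agent Groth.Agent.CohqA
open Ega1.QCohLoc FBCSquare FBCSec FBCCx FBCRes PullbackUniv BaseChangeMod

variable {X X' : Scheme.{u}}

section Ker

variable {C D : Type*} [Category C] [Category D] [Abelian C] [Abelian D]

theorem map_comp_d (R : C ⥤ D) [R.Additive] (J : CochainComplex C ℕ) {M : C} (ε : M ⟶ J.X 0)
    (hε : ε ≫ J.d 0 1 = 0) :
    R.map ε ≫ ((R.mapHomologicalComplex (ComplexShape.up ℕ)).obj J).d 0 1 = 0 :=
  (R.map_comp _ _).symm.trans ((congrArg R.map hε).trans (R.map_zero _ _))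

/-- A kernel stays a kernel after a left exact functor. -/
noncomputable def isLimitMap (R : C ⥤ D) [R.Additive] [PreservesFiniteLimits R]
    (J : CochainComplex C ℕ) {M : C} (ε : M ⟶ J.X 0)
    (hε : ε ≫ J.d 0 1 = 0) (hl : IsLimit (KernelFork.ofι ε hε)) :
    IsLimit (KernelFork.ofι (R.map ε) (map_comp_d R J ε hε)) :=
  KernelFork.mapIsLimit _ hl R

end Ker

section Affine

variable {A B : Type u} [CommRing A] [CommRing B]

/-- The affine case. -/
theorem quasiIso_phi_affine (g : X' ⟶ X) (α : A →+* B) (hα : α.Flat) {W : X.Opens} {W' : X'.Opens}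
    (e : W' ≤ g ⁻¹ᵁ W) (ρ : A →+* Γ(X, W)) (ρ' : B →+* Γ(X', W'))
    (hρ : ∀ a, ρ' (α a) = g.appLE W W' e (ρ a)) {M : X.Modules} {M' : X'.Modules}
    (J : CochainComplex X.Modules ℕ) (I : CochainComplex X'.Modules ℕ)
    (ε : M ⟶ J.X 0) (hε : ε ≫ J.d 0 1 = 0) (hl : IsLimit (KernelFork.ofι ε hε))
    (ε' : M' ⟶ I.X 0) (hε' : ε' ≫ I.d 0 1 = 0) (hl' : IsLimit (KernelFork.ofι ε' hε'))
    (a : M ⟶ (Scheme.Modules.pushforward g).obj M')
    (θ : J ⟶
      ((Scheme.Modules.pushforward g).mapHomologicalComplex (ComplexShape.up ℕ)).obj I)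
    (hθ : ε ≫ θ.f 0 = a ≫ (Scheme.Modules.pushforward g).map ε')
    {U : X.Opens} (h : U ≤ W) {U' : X'.Opens} (h' : U' ≤ W') (e' : U' ≤ g ⁻¹ᵁ U)
    (hM : ∀ n : ℕ, (secCx ρ h J).ExactAt (n + 1)) (hM' : ∀ n : ℕ, (secCx ρ' h' I).ExactAt (n + 1))
    (hbc : IsBC (M := (sec ρ h).obj M) (N := (sec ρ' h').obj M') α
      (addOf α (secHom g α e ρ ρ' hρ a h h' e'))) :
    QuasiIso (phi g α e ρ ρ' hρ θ h h' e') := by
  have h1 := ModuleCat.preservesFiniteLimits_extendScalars_of_flat hα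
  have h2 : PreservesFiniteColimits (ModuleCat.extendScalars.{u, u, u} α) :=
    have := (ModuleCat.extendRestrictScalarsAdj.{u, u, u} α).leftAdjoint_preservesColimits
    inferInstance
  rw [quasiIso_iff]
  intro n
  cases n with
  | zero =>
    have h3 : PreservesFiniteLimits (sec ρ h ⋙ ModuleCat.extendScalars.{u, u, u} α) :=
      comp_preservesFiniteLimits _ _
    have h4 : IsIso (((ModuleCat.extendRestrictScalarsAdj.{u, u, u} α).homEquiv _ _).symm
      (secHom g α e ρ ρ' hρ a h h' e')) := (isIso_extend_iff α _ _).2 hbc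
    refine quasiIsoAt_zero _ _ _
      (isLimitMap (sec ρ h ⋙ ModuleCat.extendScalars.{u, u, u} α) J ε hε hl) _ _
      (isLimitMap (sec ρ' h') I ε' hε' hl')
      (((ModuleCat.extendRestrictScalarsAdj.{u, u, u} α).homEquiv _ _).symm
        (secHom g α e ρ ρ' hρ a h h' e')) ?_
    have h5 : (phi g α e ρ ρ' hρ θ h h' e').f 0 =
        ((ModuleCat.extendRestrictScalarsAdj.{u, u, u} α).homEquiv _ _).symm
          ((psi g α e ρ ρ' hρ θ h h' e').f 0) := adjCx_homEquiv_symm_f _ _ _ _ _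
    have h6 : secHom g α e ρ ρ' hρ a h h' e' ≫
        (ModuleCat.restrictScalars α).map ((sec ρ' h').map ε') =
        (sec ρ h).map ε ≫ (psi g α e ρ ρ' hρ θ h h' e').f 0 := by
      have h7 := (pushRes g α e ρ ρ' hρ h h' e').naturality ε'
      have h8 : (sec ρ h).map ε ≫ (sec ρ h).map (θ.f 0) = (sec ρ h).map a ≫
          (sec ρ h).map ((Scheme.Modules.pushforward g).map ε') :=
        ((sec ρ h).map_comp _ _).symm.trans
          ((congr_arg (sec ρ h).map hθ).trans ((sec ρ h).map_comp _ _))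
      refine (Category.assoc _ _ _).trans ?_
      refine (congrArg (fun t => (sec ρ h).map a ≫ t) h7.symm).trans ?_
      refine (Category.assoc _ _ _).symm.trans ?_
      refine (congrArg (fun t => t ≫ (pushRes g α e ρ ρ' hρ h h' e').app _) h8.symm).trans ?_
      exact Category.assoc _ _ _
    rw [h5]
    exact (Adjunction.homEquiv_naturality_right_symm _ _ _).symm.trans
      ((congrArg ((ModuleCat.extendRestrictScalarsAdj.{u, u, u} α).homEquiv _ _).symm h6).trans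
        (Adjunction.homEquiv_naturality_left_symm _ _ _))
  | succ n =>
    rw [quasiIsoAt_iff_exactAt]
    · exact hM' n
    · exact (hM n).map (ModuleCat.extendScalars.{u, u, u} α)

end Affine

section Homology

variable {C D : Type*} [Category C] [Category D] [Abelian C] [Abelian D]

/-- A natural transformation of exact functors which is a quasi-isomorphism on a complex is an
isomorphism on its homology objects. -/
theorem isIso_app_homology {P Q : C ⥤ D} [P.Additive] [Q.Additive] [PreservesFiniteLimits P]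
    [PreservesFiniteColimits P] [PreservesFiniteLimits Q] [PreservesFiniteColimits Q] (τ : P ⟶ Q)
    (K : CochainComplex C ℕ) (n : ℕ)
    (h : QuasiIsoAt ((NatTrans.mapHomologicalComplex τ (ComplexShape.up ℕ)).app K) n) :
    IsIso (τ.app (K.homology n)) := by
  have h1 := NatTrans.app_homology τ (K.sc n)
  have h2 : IsIso (ShortComplex.homologyMap ((K.sc n).mapNatTrans τ)) := by
    rw [quasiIsoAt_iff_isIso_homologyMap] at h
    exact h
  have h3 : IsIso (τ.app (K.sc n).homology) := by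
    rw [h1]
    infer_instance
  exact h3

end Homology

section Geom

variable {S S' : Scheme.{u}} {f : X ⟶ S} {g : S' ⟶ S} {g' : X' ⟶ X} {f' : X' ⟶ S'}

/-- Exactness in positive degrees of the complex of sections over `U`. -/
def ExactOn (J : CochainComplex X.Modules ℕ) (U : X.Opens) : Prop :=
  ∀ (n : ℕ) (x : Γ(J.X (n + 1), U)), (J.d (n + 1) (n + 2)).app U x = 0 →
    ∃ y : Γ(J.X n, U), (J.d n (n + 1)).app U y = x

theorem exactAt_secCx_of_exactOn {A : Type u} [CommRing A] {W : X.Opens} (ρ : A →+* Γ(X, W))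
    {U : X.Opens} (h : U ≤ W) {J : CochainComplex X.Modules ℕ} (hJ : ExactOn J U) (n : ℕ) :
    (secCx ρ h J).ExactAt (n + 1) := by
  rw [HomologicalComplex.exactAt_iff' _ n (n + 1) (n + 2) (by simp) (by simp),
    ShortComplex.moduleCat_exact_iff]
  intro x hx
  exact hJ n x hx

theorem quasiIso_phi_of_isPullback (H : IsPullback g' f' f g) [QuasiCompact f] [QuasiSeparated f]
    {M : X.Modules} {M' : X'.Modules} (a : M ⟶ (Scheme.Modules.pushforward g').obj M')
    (J : CochainComplex X.Modules ℕ) (I : CochainComplex X'.Modules ℕ)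
    (ε : M ⟶ J.X 0) (hε : ε ≫ J.d 0 1 = 0) (hl : IsLimit (KernelFork.ofι ε hε))
    (ε' : M' ⟶ I.X 0) (hε' : ε' ≫ I.d 0 1 = 0) (hl' : IsLimit (KernelFork.ofι ε' hε'))
    (θ : J ⟶
      ((Scheme.Modules.pushforward g').mapHomologicalComplex (ComplexShape.up ℕ)).obj I)
    (hθ : ε ≫ θ.f 0 = a ≫ (Scheme.Modules.pushforward g').map ε')
    (hJ : ∀ n, Flasque (J.X n)) (hI : ∀ n, Flasque (I.X n))
    (hJe : ∀ U : X.Opens, IsAffineOpen U → ExactOn J U)
    (hIe : ∀ U : X'.Opens, IsAffineOpen U → ExactOn I U)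
    (ha : ∀ (U : X.Opens) (U' : X'.Opens) (e : U' ≤ g' ⁻¹ᵁ U), IsAffineOpen U → IsAffineOpen U' →
      IsBC (M := Γ(M, U)) (N := Γ(M', U')) (g'.appLE U U' e).hom
        (PullbackAffine.secMap g' a U U' e).hom)
    {V : S.Opens} (hV : IsAffineOpen V) {V' : S'.Opens} (hV' : IsAffineOpen V')
    (e : V' ≤ g ⁻¹ᵁ V) (e₁ : f' ⁻¹ᵁ V' ≤ g' ⁻¹ᵁ (f ⁻¹ᵁ V))
    (hα : (g.appLE V V' e).hom.Flat) :
    QuasiIso (phi g' (g.appLE V V' e).hom e₁ (f.app V).hom (f'.app V').hom
      (FBCGeom.ring_square H.w e e₁) θ (le_refl (f ⁻¹ᵁ V)) (le_refl (f' ⁻¹ᵁ V')) e₁) := by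
  have key : QuasiIso (phi g' (g.appLE V V' e).hom e₁ (f.app V).hom (f'.app V').hom
      (FBCGeom.ring_square H.w e e₁) θ (le_refl (f ⁻¹ᵁ V)) (U' := g' ⁻¹ᵁ (f ⁻¹ᵁ V) ⊓ f' ⁻¹ᵁ V')
      inf_le_right inf_le_left) := by
    refine quasiIso_phi g' _ e₁ _ _ _ hα hJ hI θ
      (f.isQuasiSeparated_preimage hV.isQuasiSeparated) ?_ _ le_rfl
      (f.isCompact_preimage hV.isCompact)
    intro U hU hUa
    have hU'a : IsAffineOpen (g' ⁻¹ᵁ U ⊓ f' ⁻¹ᵁ V') := by
      have : IsAffine _ := hV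
      have : IsAffine _ := hV'
      have : IsAffine _ := hUa
      exact .of_isIso (Scheme.Hom.isPullback_resLE H e hU rfl).isoPullback.hom
    refine quasiIso_phi_affine g' _ hα e₁ _ _ _ J I ε hε hl ε' hε' hl' a θ hθ hU _ _
      (exactAt_secCx_of_exactOn _ _ (hJe U hUa)) (exactAt_secCx_of_exactOn _ _ (hIe _ hU'a)) ?_
    have h1 : IsPushout (g.appLE V V' e) (f.appLE V U hU)
        (f'.appLE V' (g' ⁻¹ᵁ U ⊓ f' ⁻¹ᵁ V') inf_le_right)
        (g'.appLE U (g' ⁻¹ᵁ U ⊓ f' ⁻¹ᵁ V') inf_le_left) :=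
      ((isIso_pushoutSection_iff H e hU rfl).1
        (isIso_pushoutSection_of_isAffineOpen H e hU rfl hV hV' hUa)).flip
    have h2 := ha U (g' ⁻¹ᵁ U ⊓ f' ⁻¹ᵁ V') inf_le_left hUa hU'a
    let : Module Γ(S, V) Γ(M, U) := ((sec (f.app V).hom hU).obj M).isModule
    let : Module Γ(S', V') Γ(M', g' ⁻¹ᵁ U ⊓ f' ⁻¹ᵁ V') :=
      ((sec (f'.app V').hom inf_le_right).obj M').isModule
    exact BaseChangePushout.isBC_of_isPushout (M := Γ(M, U))
      (M' := Γ(M', g' ⁻¹ᵁ U ⊓ f' ⁻¹ᵁ V')) h1 (fun r x => rfl) (fun r x => rfl) h2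
  have hU : g' ⁻¹ᵁ (f ⁻¹ᵁ V) ⊓ f' ⁻¹ᵁ V' = f' ⁻¹ᵁ V' := inf_eq_right.2 e₁
  have h3 : ∀ (U' : X'.Opens) (hU' : U' = f' ⁻¹ᵁ V') (h1 : U' ≤ f' ⁻¹ᵁ V')
      (h2 : U' ≤ g' ⁻¹ᵁ (f ⁻¹ᵁ V)), QuasiIso (phi g' (g.appLE V V' e).hom e₁ (f.app V).hom
        (f'.app V').hom (FBCGeom.ring_square H.w e e₁) θ (le_refl (f ⁻¹ᵁ V)) h1 h2) →
      QuasiIso (phi g' (g.appLE V V' e).hom e₁ (f.app V).hom (f'.app V').hom
        (FBCGeom.ring_square H.w e e₁) θ (le_refl (f ⁻¹ᵁ V)) (le_refl (f' ⁻¹ᵁ V')) e₁) := by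
    rintro U' rfl h1 h2 h
    exact h
  exact h3 _ hU _ _ key

end Geom

end Groth.Agent.Desc.EtFBCKer
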