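import Groth.Prelude.Def_EtGm
import Groth.Prelude.Def_Coh
import Mathlib.Algebra.Category.ModuleCat.Presheaf.Colimits
import Mathlib.Algebra.Category.ModuleCat.Presheaf.Limits
import Mathlib.Algebra.Category.ModuleCat.Sheaf.Colimits
import Mathlib.Algebra.Category.ModuleCat.Sheaf.Limits
import Mathlib.Algebra.Category.ModuleCat.Sheaf.Abelian
import Mathlib.Algebra.Category.ModuleCat.Sheaf.PushforwardContinuous

/-!
# Modules over the structure sheaf on the small étale site
-/

set_option autoImplicit false
universe w w' v u

open CategoryTheory CategoryTheory.Limits AlgebraicGeometry Opposite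

namespace Groth.Agent.Desc.EtMod

section reflects

theorem cone_ext {J : Type w} [Category.{w'} J] {K : J ⥤ Type u} {c : Cone K} (hc : IsLimit c)
    {x y : c.pt} (h : ∀ j, c.π.app j x = c.π.app j y) : x = y := by
  apply (Types.isLimitEquivSections hc).injective
  ext j
  exact h j

theorem lift_app {J : Type w} [Category.{w'} J] {K : J ⥤ Type u} {c : Cone K} (hc : IsLimit c)
    (s : Cone K) (j : J) (x : s.pt) : c.π.app j (hc.lift s x) = s.π.app j x :=
  ConcreteCategory.congr_hom (hc.fac s j) x

instance reflects_ring : ReflectsLimitsOfSize.{w, w'} (forget RingCat.{u}) where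
  reflectsLimitsOfShape {J} _ := ⟨fun {K} => ⟨fun {c} hc => ⟨
    IsLimit.mk (fun s => RingCat.ofHom
      { toFun := hc.lift ((forget RingCat.{u}).mapCone s)
        map_one' := cone_ext hc fun j => by
          refine (lift_app hc _ j _).trans ?_
          exact (map_one (s.π.app j).hom).trans (map_one (c.π.app j).hom).symm
        map_mul' := fun x y => cone_ext hc fun j => by
          refine (lift_app hc _ j _).trans ?_
          refine (map_mul (s.π.app j).hom x y).trans ?_
          refine Eq.trans ?_ (map_mul (c.π.app j).hom _ _).symm
          exact congrArg₂ _ (lift_app hc ((forget RingCat.{u}).mapCone s) j x).symm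
            (lift_app hc ((forget RingCat.{u}).mapCone s) j y).symm
        map_zero' := cone_ext hc fun j => by
          refine (lift_app hc _ j _).trans ?_
          exact (map_zero (s.π.app j).hom).trans (map_zero (c.π.app j).hom).symm
        map_add' := fun x y => cone_ext hc fun j => by
          refine (lift_app hc _ j _).trans ?_
          refine (map_add (s.π.app j).hom x y).trans ?_
          refine Eq.trans ?_ (map_add (c.π.app j).hom _ _).symm
          exact congrArg₂ _ (lift_app hc ((forget RingCat.{u}).mapCone s) j x).symm
            (lift_app hc ((forget RingCat.{u}).mapCone s) j y).symm })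
      (fun s j => by
        ext x
        exact lift_app hc ((forget RingCat.{u}).mapCone s) j x)
      (fun s m hm => by
        ext x
        apply cone_ext hc
        intro j
        refine Eq.trans ?_ (lift_app hc ((forget RingCat.{u}).mapCone s) j x).symm
        exact ConcreteCategory.congr_hom (hm j) x)⟩⟩⟩

instance reflects_ab : ReflectsLimitsOfSize.{w, w'} (forget AddCommGrpCat.{u}) where
  reflectsLimitsOfShape {J} _ := ⟨fun {K} => ⟨fun {c} hc => ⟨
    IsLimit.mk (fun s => AddCommGrpCat.ofHom
      { toFun := hc.lift ((forget AddCommGrpCat.{u}).mapCone s)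
        map_zero' := cone_ext hc fun j => by
          refine (lift_app hc _ j _).trans ?_
          exact (map_zero (s.π.app j).hom).trans (map_zero (c.π.app j).hom).symm
        map_add' := fun x y => cone_ext hc fun j => by
          refine (lift_app hc _ j _).trans ?_
          refine (map_add (s.π.app j).hom x y).trans ?_
          refine Eq.trans ?_ (map_add (c.π.app j).hom _ _).symm
          exact congrArg₂ _ (lift_app hc ((forget AddCommGrpCat.{u}).mapCone s) j x).symm
            (lift_app hc ((forget AddCommGrpCat.{u}).mapCone s) j y).symm })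
      (fun s j => by
        ext x
        exact lift_app hc ((forget AddCommGrpCat.{u}).mapCone s) j x)
      (fun s m hm => by
        ext x
        apply cone_ext hc
        intro j
        refine Eq.trans ?_ (lift_app hc ((forget AddCommGrpCat.{u}).mapCone s) j x).symm
        exact ConcreteCategory.congr_hom (hm j) x)⟩⟩⟩

end reflects

/-- The structure presheaf (of commutative rings) on the small étale site. -/
noncomputable def OC (X : Scheme.{u}) : X.Etaleᵒᵖ ⥤ CommRingCat.{u} :=
  (Scheme.Etale.forget X ⋙ Over.forget X).op ⋙ Scheme.Γ

theorem isSheaf_OC_forget (X : Scheme.{u}) :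
    Presheaf.IsSheaf X.smallEtaleTopology (OC X ⋙ forget CommRingCat.{u}) :=
  (Scheme.Etale.forget X ⋙ Over.forget X).op_comp_isSheaf X.smallEtaleTopology
    Scheme.etaleTopology ⟨_, EtCoh.isSheaf_Γ_forget⟩

theorem isSheaf_OC (X : Scheme.{u}) :
    Presheaf.IsSheaf X.smallEtaleTopology (OC X ⋙ forget₂ CommRingCat.{u} RingCat.{u}) := by
  apply Presheaf.isSheaf_of_isSheaf_comp X.smallEtaleTopology _ (forget RingCat.{u})
  exact isSheaf_OC_forget X

/-- The structure sheaf of rings on the small étale site. -/
noncomputable def O (X : Scheme.{u}) : Sheaf X.smallEtaleTopology RingCat.{u} :=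
  ⟨OC X ⋙ forget₂ CommRingCat.{u} RingCat.{u}, isSheaf_OC X⟩

/-- Étale `O_X`-modules. -/
abbrev MEt (X : Scheme.{u}) : Type (u + 1) := SheafOfModules.{u} (O X)

noncomputable instance (X : Scheme.{u}) : Abelian (MEt X) := inferInstance

end Groth.Agent.Desc.EtMod
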