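import Groth.Agent.Desc.EtModCech
import Groth.Agent.Desc.EtModFun
import Groth.Agent.Etbase.EtCartan
import Groth.Agent.Etbase.PushExact
import Groth.Agent.CurvesA.PushAcyclic

/-!
# Injective étale modules are acyclic

* `cartan_step'` : Cartan's dimension shifting step with a Čech acyclic (not necessarily injective)
  middle term.
* `SAcyc P` : the Čech complexes of `P` for all surjective `V ⟶ U` are exact in positive degrees.
* `isAcyc_of_sAcyc` : `SAcyc` sheaves have no cohomology in positive degrees on any étale `X`-scheme.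
* `isAcyc` : the same for the universe lift of the abelian sheaf underlying an injective étale module.
-/

set_option autoImplicit false

universe w w' v u

open CategoryTheory CategoryTheory.Limits CategoryTheory.Abelian AlgebraicGeometry Opposite Simplicial

namespace Groth.Agent.Desc.EtModAcyc

open Groth.Agent.Etbase.CechCartan Groth.Agent.Etbase.SieveCartan Groth.Agent.Etbase.EtCartan
open Groth.Agent.Desc.EtMod Groth.Agent.Desc.EtModFun Groth.Agent.Desc.EtModCech
open Groth.Agent.CurvesA.PushAcyclic Groth.Agent.CurvesA.SiteZU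

section cartan

variable {C : Type u} [Category.{v} C]
  {J : GrothendieckTopology C} [HasSheafify J AddCommGrpCat.{max v w}]
  [∀ (V U : C) (f : V ⟶ U) (n : ℕ), HasWidePullback (Arrow.mk f).right
    (fun _ : Fin (n + 1) => (Arrow.mk f).left) fun _ => (Arrow.mk f).hom]

/-- Cartan's criterion, dimension shifting step, with a Čech acyclic middle term. -/
theorem cartan_step' (B : C → Prop) (Cov : ∀ ⦃V U : C⦄, (V ⟶ U) → Prop)
    (hB : ∀ ⦃V U : C⦄ (f : V ⟶ U), Cov f → ∀ n : ℕ, B ((Arrow.mk f).cechNerve _⦋n⦌))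
    (hJ : ∀ ⦃V U : C⦄ (f : V ⟶ U), Cov f → Sieve.generateSingleton f ∈ J U)
    {F I Q : Sheaf J AddCommGrpCat.{max v w}}
    (j : F ⟶ I) (q : I ⟶ Q) (wz : j ≫ q = 0) (hT : (ShortComplex.mk j q wz).ShortExact)
    (hlift : ∀ (U : C), B U → ∀ (s : Q.obj.obj (op U)), ∃ (V : C) (f : V ⟶ U), Cov f ∧
      ∃ t : I.obj.obj (op V), q.hom.app (op V) t = Q.obj.map f.op s)
    (hF : CechAcyc Cov F.obj) (hI : CechAcyc Cov I.obj) :
    (∀ U : C, B U → Function.Surjective (q.hom.app (op U))) ∧ CechAcyc Cov Q.obj := by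
  have surj : ∀ U : C, B U → Function.Surjective (q.hom.app (op U)) := by
    intro U hU s
    obtain ⟨V, f, hf, t, ht⟩ := hlift U hU s
    let E := (Arrow.mk f).cechNerve
    let t₀ : I.obj.obj (op (E _⦋0⦌)) := I.obj.map (pr f 0 0).op t
    have hqt₀ : q.hom.app _ t₀ = Q.obj.map (bs f 0).op s := by
      have h1 : q.hom.app _ (I.obj.map (pr f 0 0).op t) =
          Q.obj.map (pr f 0 0).op (q.hom.app _ t) :=
        ConcreteCategory.congr_hom (q.hom.naturality (pr f 0 0).op) t
      rw [h1, ht, ← pr_comp f 0 0, op_comp, Functor.map_comp]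
      rfl
    have h2 : q.hom.app _ (dC I.obj E 0 t₀) = 0 := by
      rw [dC_naturality_apply, hqt₀, dC_apply, Fin.sum_univ_two]
      simp only [Fin.val_zero, pow_zero, one_smul, Fin.val_one, pow_one, neg_smul]
      rw [← sub_eq_add_neg, sub_eq_zero]
      have h3 : ∀ i, Q.obj.map (E.δ i).op (Q.obj.map (bs f 0).op s) =
          Q.obj.map (bs f 1).op s := by
        intro i
        rw [← δ_bs f 0 i, op_comp, Functor.map_comp]
        rfl
      rw [h3, h3]
    obtain ⟨z, hz⟩ := (ses_eval j q wz hT (E _⦋1⦌)).2.1 _ h2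
    have hz0 : dC F.obj E 1 z = 0 := by
      apply (ses_eval j q wz hT (E _⦋2⦌)).1
      rw [dC_naturality_apply, hz, map_zero]
      exact dC_dC_apply I.obj E 0 t₀
    obtain ⟨z', hz'⟩ := hF f hf 0 z hz0
    have h4 : dC I.obj E 0 (t₀ - j.hom.app _ z') = 0 := by
      rw [map_sub, ← dC_naturality_apply, hz', hz, sub_self]
    obtain ⟨t', ht'⟩ := sheaf_glue I f (hJ f hf) _ h4
    refine ⟨t', sheaf_sep Q f (hJ f hf) ?_⟩
    let e : V ⟶ (Arrow.mk f).cechNerve _⦋0⦌ := mkE f 0 f (fun _ => 𝟙 _) (by simp)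
    have he : e ≫ bs f 0 = f := by simp [e]
    have h5 : Q.obj.map (bs f 0).op (q.hom.app _ t') = Q.obj.map (bs f 0).op s := by
      have h6 : Q.obj.map (bs f 0).op (q.hom.app _ t') = q.hom.app _ (I.obj.map (bs f 0).op t') :=
        (ConcreteCategory.congr_hom (q.hom.naturality (bs f 0).op) t').symm
      rw [h6, ht', map_sub, hqt₀, (ses_eval j q wz hT (E _⦋0⦌)).2.2, sub_zero]
    rw [← he, op_comp, Functor.map_comp]
    exact congrArg (Q.obj.map e.op) h5
  refine ⟨surj, ?_⟩
  intro V U f hf
  exact exact_of_shortExact j.hom q.hom _ (fun n => (ses_eval j q wz hT _).1)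
    (fun n => (ses_eval j q wz hT _).2.1) (fun n => (ses_eval j q wz hT _).2.2)
    (fun n => surj _ (hB f hf n)) (hF f hf) (hI f hf)

end cartan

section transport

variable {C : Type u} [Category.{v} C]

/-- Exactness is invariant under additive isomorphisms of presheaves, possibly in different
universes. -/
theorem exact'_of_addEquiv {P : Cᵒᵖ ⥤ AddCommGrpCat.{w}} {P' : Cᵒᵖ ⥤ AddCommGrpCat.{w'}}
    (e : ∀ U : C, P.obj (op U) ≃+ P'.obj (op U))
    (he : ∀ {U V : C} (g : V ⟶ U) (x : P.obj (op U)), e V (P.map g.op x) = P'.map g.op (e U x))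
    {E : SimplicialObject C} (h : Exact' P E) : Exact' P' E := by
  have hd : ∀ (n : ℕ) (x : P.obj (op (E _⦋n⦌))), e _ (dC P E n x) = dC P' E n (e _ x) := by
    intro n x
    rw [dC_apply, dC_apply, map_sum]
    refine Finset.sum_congr rfl fun i _ => ?_
    rw [map_zsmul]
    exact congrArg _ (he _ _)
  intro n x hx
  obtain ⟨y, hy⟩ := h n ((e _).symm x) (by
    apply (e _).injective
    rw [hd, AddEquiv.apply_symm_apply, hx, map_zero])
  refine ⟨e _ y, ?_⟩
  rw [← hd, hy, AddEquiv.apply_symm_apply]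

/-- Exactness is invariant under the universe lift. -/
theorem exact'_ulift {P : Cᵒᵖ ⥤ AddCommGrpCat.{w}} {E : SimplicialObject C} (h : Exact' P E) :
    Exact' (P ⋙ AddCommGrpCat.uliftFunctor.{w', w}) E :=
  exact'_of_addEquiv (P := P) (fun _ => AddEquiv.ulift.symm) (fun _ _ => rfl) h

end transport

section etale

variable {X : Scheme.{u}}

/-- Surjective morphisms. -/
def SurjCov ⦃V U : X.Etale⦄ (f : V ⟶ U) : Prop := Function.Surjective f.left

/-- The Čech complexes of `P` for surjective morphisms are exact in positive degrees. -/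
def SAcyc (P : X.Etaleᵒᵖ ⥤ AddCommGrpCat.{w}) : Prop :=
  CechAcyc.{w} (C := X.Etale) (fun ⦃_ _⦄ f => SurjCov f) P

/-- Sections lift along epimorphisms after one surjective étale base change. -/
theorem exists_surj_lift {I Q : EtCoh.Ab X} (q : I ⟶ Q) [hq : Epi q] (U : X.Etale)
    (s : Q.obj.obj (op U)) :
    ∃ (V : X.Etale) (f : V ⟶ U), Function.Surjective f.left ∧
      ∃ t : I.obj.obj (op V), q.hom.app (op V) t = Q.obj.map f.op s := by
  rw [Etbase.PushExact.epi_iff] at hq
  choose W g w hw t ht using hq U s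
  let p := Etbase.PushExact.sigDesc W g
  obtain ⟨tt, htt, -⟩ := Etbase.PushExact.existsUnique_sig W I t
  refine ⟨Etbase.PushExact.sig W, p, ?_, tt, ?_⟩
  · intro x
    exact ⟨(Etbase.PushExact.sigι W x).left (w x),
      (congrArg (fun k : W x ⟶ _ => k.left (w x)) (Etbase.PushExact.sigι_desc W g x)).trans (hw x)⟩
  · refine Etbase.EtGlue.ext_of_cover Q (Etbase.PushExact.sigι W) (Etbase.PushExact.sig_range W)
      (fun x => ?_)
    have h2 := ConcreteCategory.congr_hom (q.hom.naturality (Etbase.PushExact.sigι W x).op) tt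
    have h3 := ConcreteCategory.congr_hom (Q.obj.map_comp p.op (Etbase.PushExact.sigι W x).op) s
    rw [← op_comp, Etbase.PushExact.sigι_desc] at h3
    refine h2.symm.trans ?_
    refine Eq.trans ?_ h3
    refine Eq.trans ?_ (ht x)
    exact congrArg _ (htt x)

theorem sAcyc_step {F I Q : EtCoh.Ab X} (j : F ⟶ I) (q : I ⟶ Q) (wz : j ≫ q = 0)
    (hT : (ShortComplex.mk j q wz).ShortExact) [Injective I] (hF : SAcyc F.obj) :
    (∀ U : X.Etale, Function.Surjective (q.hom.app (op U))) ∧ SAcyc Q.obj := by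
  have hepi : Epi q := hT.epi_g
  have h := cartan_step.{u + 1, u, u + 1} (fun _ : X.Etale => True)
    (fun ⦃_ _⦄ f => SurjCov f) (fun _ _ _ _ _ => trivial)
    (fun V U f hf => generateSingleton_mem f hf) j q wz hT
    (fun U _ s => exists_surj_lift q U s) hF
  exact ⟨fun U => h.1 U trivial, h.2⟩

/-- Čech acyclic sheaves are acyclic. -/
theorem isAcyc_of_sAcyc {F : EtCoh.Ab X} (hF : SAcyc F.obj) : IsAcyc F := by
  intro U q
  induction q generalizing F with
  | zero => intro h; omega
  | succ q ih =>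
    intro _ x
    let P : InjectivePresentation F := Classical.arbitrary _
    have hS : (ShortComplex.mk P.f (cokernel.π P.f) (cokernel.condition P.f)).ShortExact :=
      { exact := ShortComplex.exact_cokernel P.f }
    have := P.injective
    have h := sAcyc_step P.f (cokernel.π P.f) (cokernel.condition P.f) hS hF
    obtain ⟨y, hy⟩ := Ext.covariant_sequence_exact₁ ((Z X).obj U) hS x
      (Ext.eq_zero_of_injective _) rfl
    rcases Nat.eq_zero_or_pos q with rfl | hq
    · obtain ⟨φ, rfl⟩ := (Ext.mk₀_bijective _ _).2 y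
      obtain ⟨t, ht⟩ := h.1 U (ev φ)
      have h3 : lift.{u + 1} t ≫ cokernel.π P.f = φ := by
        apply ev_injective
        rw [ev_comp, ev_lift, ht]
      rw [← hy, ← h3, ← Ext.mk₀_comp_mk₀, Ext.comp_assoc_of_second_deg_zero]
      have h4 : (Ext.mk₀ (cokernel.π P.f)).comp hS.extClass (zero_add 1) = 0 := hS.comp_extClass
      rw [h4, Ext.comp_zero]
    · rw [← hy, ih h.2 hq y, Ext.zero_comp]

theorem sAcyc_of_injective (I : MEt X) [Injective I] : SAcyc I.val.presheaf := by
  intro V U f _
  exact exact_of_injective I _ (contractible_cechNerve f)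

theorem sAcyc_toAbEt (I : MEt X) [Injective I] : SAcyc ((toAbEt X).obj I).obj := by
  intro V U f hf
  exact exact'_ulift (sAcyc_of_injective I f hf)

/-- Injective étale modules have no cohomology in positive degrees on any étale `X`-scheme. -/
theorem isAcyc (I : MEt X) [Injective I] : IsAcyc ((toAbEt X).obj I) :=
  isAcyc_of_sAcyc (sAcyc_toAbEt I)

/-- `R^q f_* I = 0` for `q ≥ 1` and `I` an injective étale module. -/
theorem isZero_Rpush {Y : Scheme.{u}} (f : X ⟶ Y) (I : MEt X) (hI : Injective I) (q : ℕ) :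
    IsZero ((EtCoh.Rpush f (q + 1)).obj ((toAbEt X).obj I)) :=
  Groth.Agent.CurvesA.PushAcyclic.isZero_Rpush f (isAcyc I) (q + 1) (by omega)

end etale

end Groth.Agent.Desc.EtModAcyc
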