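import Groth.Agent.Desc.EtModFun
import Groth.Agent.CohqA.BaseChangeMod
import Mathlib.CategoryTheory.Abelian.RightDerived

/-!
# Definitions for quasi-coherent étale `O`-modules

* `IsQC P` for a presheaf of modules `P` over `(O X).obj`: the base change property for morphisms of
  affine objects of the small étale site.
* `cohPsh I i`: the presheaf `U ↦ H^i(I(U))`.
* `Flq P`: restriction along monomorphisms (e.g. open immersions) is surjective.
-/

set_option autoImplicit false
universe u

open CategoryTheory CategoryTheory.Limits AlgebraicGeometry Opposite TopologicalSpace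

namespace Groth.Agent.Desc.EtModDefs

open EtMod EtModFun
open Groth.Agent.CohqA.BaseChangeMod (IsBC)

variable {X T S : Scheme.{u}}

/-- Presheaves of modules on the small étale site. -/
abbrev PEt (X : Scheme.{u}) : Type (u + 1) := PresheafOfModules.{u} (O X).obj

noncomputable instance (P : PEt X) (U : X.Etale) : Module Γ(U.left, ⊤) (P.presheaf.obj (op U)) :=
  (P.obj (op U)).isModule

theorem presheaf_map_smul (P : PEt X) {V U : X.Etale} (g : V ⟶ U) (a : Γ(U.left, ⊤))
    (x : P.presheaf.obj (op U)) :
    P.presheaf.map g.op (a • x) = g.left.appTop a • P.presheaf.map g.op x :=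
  P.map_smul g.op a x

/-- The base change property on affine objects of the small étale site. -/
def IsQC (P : PEt X) : Prop :=
  ∀ {V U : X.Etale} (g : V ⟶ U), IsAffine V.left → IsAffine U.left →
    IsBC g.left.appTop.hom (P.presheaf.map g.op).hom

/-- Restriction along monomorphisms is surjective. -/
def Flq (P : PEt X) : Prop :=
  ∀ {V U : X.Etale} (g : V ⟶ U), Mono g → Function.Surjective (P.presheaf.map g.op)

/-- The presheaf of modules `U ↦ H^i(I(U))`. -/
noncomputable def cohPsh (I : CochainComplex (MEt X) ℕ) (i : ℕ) : PEt X :=
  (((SheafOfModules.forget (O X)).mapHomologicalComplex (ComplexShape.up ℕ)).obj I).homology i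

/-- The functor induced on cochain complexes. -/
noncomputable abbrev mapK {C D : Type*} [Category* C] [Category* D] [Preadditive C] [Preadditive D]
    (F : C ⥤ D) [F.Additive] (K : CochainComplex C ℕ) : CochainComplex D ℕ :=
  (F.mapHomologicalComplex (ComplexShape.up ℕ)).obj K

instance additive_pushM (f : T ⟶ S) : (pushM f).Additive where
  map_add := rfl

instance additive_zar (U : X.Etale) : (zar U).Additive where
  map_add := rfl

end Groth.Agent.Desc.EtModDefs
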