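import Groth.Agent.Desc.EtModAcyc
import Groth.Agent.Desc.EtModDefs
import Groth.Agent.Desc.EtAssocQC
import Groth.Agent.CycB.StalkExact
import Mathlib.CategoryTheory.Abelian.Injective.Resolution

/-!
# Affine acyclicity of quasi-coherent étale modules

* `acyc_of_isQC` : quasi-coherent presheaves of étale modules are Čech acyclic for affine coverings.
* `subsingleton_cohPsh` : if `M` is quasi-coherent and `I` an injective resolution, then
  `H^{i+1}(I(U)) = 0` for `U` affine.
-/

set_option autoImplicit false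

universe w w' v u

open CategoryTheory CategoryTheory.Limits AlgebraicGeometry Opposite Simplicial

namespace Groth.Agent.Desc.EtModAff

open Groth.Agent.Etbase.CechCartan Groth.Agent.Etbase.SieveCartan Groth.Agent.Etbase.EtCartan
open Groth.Agent.Desc.EtMod Groth.Agent.Desc.EtModFun Groth.Agent.Desc.EtModCech
open Groth.Agent.Desc.EtModAcyc Groth.Agent.Desc.EtModDefs

variable {X : Scheme.{u}}

/-- Čech acyclicity for affine coverings, in any universe. -/
def ACyc (P : X.Etaleᵒᵖ ⥤ AddCommGrpCat.{w}) : Prop :=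
  CechAcyc.{w} (C := X.Etale) (fun ⦃_ _⦄ f => AffCov f) P

/-- The module structure on the universe lift. -/
@[implicit_reducible]
noncomputable def ulMod (P : PEt X) (W : X.Etale) : Module Γ(W.left, ⊤)
    ((P.presheaf ⋙ AddCommGrpCat.uliftFunctor.{u + 1, u}).obj (op W)) :=
  inferInstanceAs (Module Γ(W.left, ⊤) (ULift.{u + 1} (P.presheaf.obj (op W))))

/-- The quasi-coherence data on the universe lift. -/
noncomputable def qcUlift (P : PEt X) (hP : IsQC P) :
    Etbase.EtQC.QC (P.presheaf ⋙ AddCommGrpCat.uliftFunctor.{u + 1, u}) where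
  mod W := ulMod P W
  isBC {W' W} g h' h := by
    let := ulMod P W
    let := ulMod P W'
    exact EtAssocQC.isBC_of_addEquiv g.left.appTop.hom (P.presheaf.map g.op).hom _ (hP g h' h)
      (ULift.moduleEquiv : ULift.{u + 1} (P.presheaf.obj (op W)) ≃ₗ[Γ(W.left, ⊤)] _)
      (ULift.moduleEquiv : ULift.{u + 1} (P.presheaf.obj (op W')) ≃ₗ[Γ(W'.left, ⊤)] _)
      (fun _ => rfl)

/-- Quasi-coherent presheaves are Čech acyclic. -/
theorem acyc_of_isQC (P : PEt X) (hP : IsQC P) : ACyc P.presheaf := by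
  intro V U f hf
  exact exact'_of_addEquiv (P := P.presheaf ⋙ AddCommGrpCat.uliftFunctor.{u + 1, u})
    (fun _ => AddEquiv.ulift) (fun _ _ => rfl) ((qcUlift P hP).etAcyc f hf)

theorem acyc_of_injective (I : MEt X) [Injective I] : ACyc I.val.presheaf := by
  intro V U f _
  exact exact_of_injective I _ (contractible_cechNerve f)

/-- Abelian sheaves at level `u`. -/
abbrev AbU (X : Scheme.{u}) := Sheaf X.smallEtaleTopology AddCommGrpCat.{u}

instance preservesFiniteColimits_ab : PreservesFiniteColimits (ab X) where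
  preservesFiniteColimits K _ _ :=
    CycB.StalkExact.toSheaf_preservesColimitsOfShape (O X) K

/-- Lifting of sections along epimorphisms over an affine étale surjective object. -/
theorem exists_affine_lift {I Q : AbU X} (q : I ⟶ Q) [Epi q] (U : X.Etale)
    [IsAffine U.left] (s : Q.obj.obj (op U)) :
    ∃ (V : X.Etale) (f : V ⟶ U), IsAffine V.left ∧ Function.Surjective f.left ∧
      ∃ t : I.obj.obj (op V), q.hom.app (op V) t = Q.obj.map f.op s := by
  have hls : Sheaf.IsLocallySurjective q := (Sheaf.isLocallySurjective_iff_epi' _ _).2 inferInstance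
  have hls' : Sheaf.IsLocallySurjective ((up X).map q) := by
    constructor
    rintro W ⟨r⟩
    refine X.smallEtaleTopology.superset_covering ?_ (Presheaf.imageSieve_mem X.smallEtaleTopology
      q.hom (U := op W) r)
    rintro Z g ⟨t, ht⟩
    exact ⟨ULift.up t, congrArg ULift.up ht⟩
  have hepi : Epi ((up X).map q) := (Sheaf.isLocallySurjective_iff_epi' _ _).1 hls'
  obtain ⟨V, f, h1, h2, ⟨t⟩, ht⟩ := Etbase.EtAffCover.exists_affine_lift ((up X).map q) U
    (ULift.up s)
  exact ⟨V, f, h1, h2, t, congrArg ULift.down ht⟩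

/-- The dimension shifting step. -/
theorem acyc_step {F I Q : AbU X} (j : F ⟶ I) (q : I ⟶ Q) (wz : j ≫ q = 0)
    (hT : (ShortComplex.mk j q wz).ShortExact) (hF : ACyc F.obj) (hI : ACyc I.obj) :
    (∀ U : X.Etale, IsAffine U.left → Function.Surjective (q.hom.app (op U))) ∧ ACyc Q.obj := by
  have hepi : Epi q := hT.epi_g
  refine cartan_step'.{u, u, u + 1} (fun U : X.Etale => IsAffine U.left)
    (fun ⦃_ _⦄ f => AffCov f) ?_ ?_ j q wz hT ?_ hF hI
  · rintro V U f ⟨h1, h2, -⟩ n
    exact isAffine_cechNerve f n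
  · rintro V U f ⟨-, -, h3⟩
    exact generateSingleton_mem f h3
  · intro U hU s
    have : IsAffine U.left := hU
    obtain ⟨V, f, hV, hf, t, ht⟩ := exists_affine_lift q U s
    exact ⟨V, f, ⟨hV, hU, hf⟩, t, ht⟩

/-- Sections over `U` of a morphism of étale modules. -/
noncomputable abbrev sm {M N : MEt X} (φ : M ⟶ N) (U : X.Etale) :
    M.val.presheaf.obj (op U) ⟶ N.val.presheaf.obj (op U) :=
  ((ab X).map φ).hom.app (op U)

theorem sm_comp_apply {M N K : MEt X} (φ : M ⟶ N) (ψ : N ⟶ K) (U : X.Etale)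
    (x : M.val.presheaf.obj (op U)) : sm (φ ≫ ψ) U x = sm ψ U (sm φ U x) := by
  rw [sm, Functor.map_comp]
  rfl

theorem shortExact_cokernel {M N : MEt X} (φ : M ⟶ N) [Mono φ] :
    ((ShortComplex.mk φ (cokernel.π φ) (cokernel.condition φ)).map (ab X)).ShortExact :=
  ShortComplex.ShortExact.map_of_exact { exact := ShortComplex.exact_cokernel φ } (ab X)

theorem sm_injective {M N : MEt X} (φ : M ⟶ N) [Mono φ] (U : X.Etale) :
    Function.Injective (sm φ U) :=
  (ses_eval _ _ _ (shortExact_cokernel φ) U).1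

theorem sm_exact {M N K : MEt X} (φ : M ⟶ N) [Mono φ] (ψ : N ⟶ K) (w : φ ≫ ψ = 0)
    (h : (ShortComplex.mk φ ψ w).Exact) (U : X.Etale) (x : N.val.presheaf.obj (op U))
    (hx : sm ψ U x = 0) : ∃ y, sm φ U y = x := by
  have hm : Mono (cokernel.desc φ ψ w) := h.mono_cokernelDesc
  refine (ses_eval _ _ _ (shortExact_cokernel φ) U).2.1 x ?_
  apply sm_injective (cokernel.desc φ ψ w) U
  refine (sm_comp_apply _ _ _ _).symm.trans ?_
  rw [cokernel.π_desc, hx]
  exact (map_zero _).symm

theorem exact_shift {A : Type*} [Category* A] [Abelian A] {F K₀ K₁ K₂ : A} (ι : F ⟶ K₀)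
    (d₀ : K₀ ⟶ K₁) (d₁ : K₁ ⟶ K₂) (w₀ : ι ≫ d₀ = 0) (w₁ : d₀ ≫ d₁ = 0)
    (w' : cokernel.desc ι d₀ w₀ ≫ d₁ = 0)
    (h₁ : (ShortComplex.mk _ _ w₁).Exact) :
    (ShortComplex.mk (cokernel.desc ι d₀ w₀) d₁ w').Exact := by
  let φ : ShortComplex.mk _ _ w₁ ⟶ ShortComplex.mk (cokernel.desc ι d₀ w₀) d₁ w' :=
    { τ₁ := cokernel.π ι
      τ₂ := 𝟙 _
      τ₃ := 𝟙 _ }
  have : Epi φ.τ₁ := inferInstanceAs (Epi (cokernel.π ι))
  have : IsIso φ.τ₂ := inferInstanceAs (IsIso (𝟙 _))
  have : Mono φ.τ₃ := inferInstanceAs (Mono (𝟙 _))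
  exact (ShortComplex.exact_iff_of_epi_of_isIso_of_mono φ).1 h₁

/-- Exactness on affine sections of a resolution by Čech acyclic modules. -/
theorem exact_aff (i : ℕ) : ∀ (F : MEt X) (K : ℕ → MEt X) (d : ∀ n, K n ⟶ K (n + 1))
    (w : ∀ n, d n ≫ d (n + 1) = 0) (_ : ∀ n, (ShortComplex.mk _ _ (w n)).Exact) (ι : F ⟶ K 0)
    (_ : Mono ι) (w₀ : ι ≫ d 0 = 0) (_ : (ShortComplex.mk ι (d 0) w₀).Exact)
    (_ : ACyc F.val.presheaf) (_ : ∀ n, ACyc (K n).val.presheaf)
    (U : X.Etale) (_ : IsAffine U.left) (x : (K (i + 1)).val.presheaf.obj (op U))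
    (_ : sm (d (i + 1)) U x = 0), ∃ y, sm (d i) U y = x := by
  induction i with
  | zero =>
    intro F K d w hK ι hι w₀ h₀ hF hKa U hU x hx
    have w' : cokernel.desc ι (d 0) w₀ ≫ d 1 = 0 := by
      rw [← cancel_epi (cokernel.π ι), cokernel.π_desc_assoc, w 0, comp_zero]
    have hS : (ShortComplex.mk ι (cokernel.π ι) (cokernel.condition ι)).ShortExact :=
      { exact := ShortComplex.exact_cokernel ι }
    have hS' := hS.map_of_exact (ab X)
    have h := acyc_step ((ab X).map ι) ((ab X).map (cokernel.π ι)) _ hS' hF (hKa 0)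
    have hex := exact_shift ι (d 0) (d 1) w₀ (w 0) w' (hK 0)
    have hmono : Mono (cokernel.desc ι (d 0) w₀) := h₀.mono_cokernelDesc
    obtain ⟨y, hy⟩ := sm_exact _ _ w' hex U x hx
    obtain ⟨z, hz⟩ := h.1 U hU y
    refine ⟨z, ?_⟩
    have h5 : sm (d 0) U z = sm (cokernel.desc ι (d 0) w₀) U (sm (cokernel.π ι) U z) := by
      refine Eq.trans ?_ (sm_comp_apply (cokernel.π ι) (cokernel.desc ι (d 0) w₀) U z)
      rw [cokernel.π_desc]
    rw [h5]
    exact (congrArg _ hz).trans hy
  | succ i ih =>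
    intro F K d w hK ι hι w₀ h₀ hF hKa U hU x hx
    have w' : cokernel.desc ι (d 0) w₀ ≫ d 1 = 0 := by
      rw [← cancel_epi (cokernel.π ι), cokernel.π_desc_assoc, w 0, comp_zero]
    have hS : (ShortComplex.mk ι (cokernel.π ι) (cokernel.condition ι)).ShortExact :=
      { exact := ShortComplex.exact_cokernel ι }
    have hS' := hS.map_of_exact (ab X)
    have h := acyc_step ((ab X).map ι) ((ab X).map (cokernel.π ι)) _ hS' hF (hKa 0)
    exact ih (cokernel ι) (fun n => K (n + 1)) (fun n => d (n + 1)) (fun n => w (n + 1))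
      (fun n => hK (n + 1)) (cokernel.desc ι (d 0) w₀) h₀.mono_cokernelDesc w'
      (exact_shift ι (d 0) (d 1) w₀ (w 0) w' (hK 0)) h.2 (fun n => hKa (n + 1)) U hU x hx

/-- The underlying abelian group of the sections over `U`. -/
noncomputable abbrev evU (U : X.Etale) : PEt X ⥤ AddCommGrpCat.{u} :=
  PresheafOfModules.toPresheaf (O X).obj ⋙ (evaluation _ _).obj (op U)

instance (U : X.Etale) : PreservesFiniteLimits (evU (X := X) U) := inferInstance

instance (U : X.Etale) : PreservesFiniteColimits (evU (X := X) U) := inferInstance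

/-- Elementwise criterion for the vanishing of `H^{i+1}(I(U))`. -/
theorem subsingleton_of_exact (I : CochainComplex (MEt X) ℕ) (i : ℕ) (U : X.Etale)
    (h : ∀ x : (I.X (i + 1)).val.presheaf.obj (op U), sm (I.d (i + 1) (i + 2)) U x = 0 →
      ∃ y, sm (I.d i (i + 1)) U y = x) :
    Subsingleton ((cohPsh I (i + 1)).presheaf.obj (op U)) := by
  let K := ((SheafOfModules.forget (O X)).mapHomologicalComplex (ComplexShape.up ℕ)).obj I
  let L := ((evU U).mapHomologicalComplex (ComplexShape.up ℕ)).obj K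
  have e : (evU U).obj (K.homology (i + 1)) ≅ L.homology (i + 1) :=
    ((K.sc (i + 1)).mapHomologyIso (evU U)).symm
  have h0 : L.ExactAt (i + 1) := by
    rw [HomologicalComplex.exactAt_iff' L i (i + 1) (i + 2) (by simp) (by simp),
      ShortComplex.ab_exact_iff]
    exact h
  have h1 : IsZero ((evU U).obj (K.homology (i + 1))) :=
    IsZero.of_iso h0.isZero_homology e
  exact AddCommGrpCat.subsingleton_of_isZero h1

/-- Affine acyclicity of injective resolutions of quasi-coherent étale modules. -/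
theorem subsingleton_cohPsh (M : MEt X) (hM : IsQC M.val) (I : InjectiveResolution M)
    (i : ℕ) (U : X.Etale) (hU : IsAffine U.left) :
    Subsingleton ((cohPsh I.cocomplex (i + 1)).presheaf.obj (op U)) := by
  refine subsingleton_of_exact _ _ _ fun x hx => ?_
  have hI : ∀ n, Injective (I.cocomplex.X n) := I.injective
  have hm : Mono (I.ι.f 0) := mono_of_isLimit_fork I.isLimitKernelFork
  refine exact_aff i M (fun n => I.cocomplex.X n) (fun n => I.cocomplex.d n (n + 1))
    (fun n => I.cocomplex.d_comp_d _ _ _) (fun n => ?_) (I.ι.f 0) hm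
    (I.ι_f_zero_comp_complex_d) I.exact₀ (acyc_of_isQC _ hM) (fun n => ?_) U hU x hx
  · exact I.exact_succ n
  · exact acyc_of_injective _

end Groth.Agent.Desc.EtModAff
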