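import Groth.Agent.Desc.EtModAcyc
import Groth.Agent.Desc.EtModDefs
import Mathlib.Algebra.Category.ModuleCat.Presheaf.Generator
import Mathlib.CategoryTheory.Abelian.GrothendieckAxioms.Basic
import Mathlib.CategoryTheory.Abelian.GrothendieckAxioms.FunctorCategory
import Mathlib.CategoryTheory.Abelian.GrothendieckCategory.Basic
import Mathlib.CategoryTheory.Abelian.GrothendieckCategory.EnoughInjectives

/-!
# Enough injective étale modules

* `isGrothendieckAbelian X : IsGrothendieckAbelian.{u} (MEt X)`.
* `enoughInjectives X : EnoughInjectives (MEt X)`.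
* `map_surjective` : sections of injective étale modules extend along monomorphisms.
-/

set_option autoImplicit false

universe u

open CategoryTheory CategoryTheory.Limits AlgebraicGeometry Opposite

namespace Groth.Agent.Desc.EtModInj

open Groth.Agent.Desc.EtMod Groth.Agent.Desc.EtModFun Groth.Agent.Desc.EtModCech

variable (X : Scheme.{u})

instance ab5_presheaf : AB5OfSize.{u, u} (PresheafOfModules.{u} (O X).obj) where
  ofShape K _ _ := by
    have : HasExactColimitsOfShape K (X.Etaleᵒᵖ ⥤ AddCommGrpCat.{u}) := inferInstance
    have : ReflectsFiniteLimits (PresheafOfModules.toPresheaf.{u} (O X).obj) := ⟨fun J _ _ =>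
      reflectsLimitsOfShape_of_reflectsIsomorphisms⟩
    exact HasExactColimitsOfShape.domain_of_functor K (PresheafOfModules.toPresheaf.{u} (O X).obj)

instance ab5_sheaf : AB5OfSize.{u, u} (MEt X) where
  ofShape K _ _ := (PresheafOfModules.sheafificationAdjunction (𝟙 (O X).obj)).hasExactColimitsOfShape K

/-- A small family of affine objects. -/
noncomputable def aff (i : SmallModel.{u} X.AffineEtale) : X.Etale :=
  (Scheme.AffineEtale.Spec X).obj ((equivSmallModel.{u} X.AffineEtale).inverse.obj i)

/-- The small family of generators. -/
noncomputable def genFam (i : SmallModel.{u} X.AffineEtale) : MEt X :=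
  (PresheafOfModules.sheafification (𝟙 (O X).obj)).obj (fy (O X).obj (aff X i))

variable {X}

/-- Morphisms of étale modules are determined by their values on the small family of affine objects. -/
theorem hom_ext_aff {F G : MEt X} {f g : F ⟶ G}
    (h : ∀ (i : SmallModel.{u} X.AffineEtale) (x : F.val.obj (op (aff X i))),
      f.val.app _ x = g.val.app _ x) : f = g := by
  have h1 : ∀ (U : X.AffineEtale) (x : F.val.presheaf.obj (op ((Scheme.AffineEtale.Spec X).obj U))),
      ((ab X).map f).hom.app _ x = ((ab X).map g).hom.app _ x := by
    intro U x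
    let e : aff X ((equivSmallModel.{u} X.AffineEtale).functor.obj U) ≅
      (Scheme.AffineEtale.Spec X).obj U :=
      (Scheme.AffineEtale.Spec X).mapIso ((equivSmallModel.{u} X.AffineEtale).unitIso.symm.app U)
    have h2 := h _ (F.val.presheaf.map e.hom.op x)
    have h3 : ∀ (k : F ⟶ G), ((ab X).map k).hom.app _ (F.val.presheaf.map e.hom.op x) =
        G.val.presheaf.map e.hom.op (((ab X).map k).hom.app _ x) := fun k =>
      ConcreteCategory.congr_hom (((ab X).map k).hom.naturality e.hom.op) x
    have h4 : G.val.presheaf.map e.hom.op (((ab X).map f).hom.app _ x) =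
        G.val.presheaf.map e.hom.op (((ab X).map g).hom.app _ x) := by
      rw [← h3, ← h3]
      exact h2
    have h5 : Function.Injective (G.val.presheaf.map e.hom.op) := by
      have : IsIso (G.val.presheaf.map e.hom.op) := inferInstance
      exact (ConcreteCategory.bijective_of_isIso _).1
    exact h5 h4
  apply (ab X).map_injective
  apply (sheafToPresheaf _ _).map_injective
  ext W x
  obtain ⟨W⟩ := W
  refine Etbase.SieveCartan.section_ext
    (Functor.IsCoverDense.is_cover (G := Scheme.AffineEtale.Spec X) (K := X.smallEtaleTopology) W)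
    ((ab X).obj G) _ _ ?_
  rintro V k ⟨⟨U, a, b, hab⟩⟩
  have h3 : ∀ (φ : F ⟶ G), ((ab X).obj G).obj.map k.op (((ab X).map φ).hom.app (op W) x) =
      ((ab X).obj G).obj.map a.op (((ab X).map φ).hom.app _ (F.val.presheaf.map b.op x)) := by
    intro φ
    have h4 := ConcreteCategory.congr_hom (((ab X).map φ).hom.naturality b.op) x
    have h5 : ((ab X).obj G).obj.map k.op (((ab X).map φ).hom.app (op W) x) =
        ((ab X).obj G).obj.map a.op (((ab X).obj G).obj.map b.op
          (((ab X).map φ).hom.app (op W) x)) := by
      rw [← hab, op_comp, Functor.map_comp]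
      rfl
    rw [h5]
    exact congrArg _ h4.symm
  exact (h3 f).trans ((congrArg _ (h1 U _)).trans (h3 g).symm)

variable (X)

theorem isSeparating : ObjectProperty.IsSeparating (.ofObj (genFam X)) := by
  intro F G f g hfg
  refine hom_ext_aff fun i x => ?_
  obtain ⟨φ, rfl⟩ := (PresheafOfModules.freeYonedaEquiv (M := F.val)).surjective x
  refine (PresheafOfModules.freeYonedaEquiv_comp φ f.val).symm.trans
    (Eq.trans ?_ (PresheafOfModules.freeYonedaEquiv_comp φ g.val))
  congr 1
  have adj := PresheafOfModules.sheafificationAdjunction (𝟙 (O X).obj)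
  apply ((PresheafOfModules.sheafificationAdjunction (𝟙 (O X).obj)).homEquiv _ _).symm.injective
  exact ((PresheafOfModules.sheafificationAdjunction (𝟙 (O X).obj)).homEquiv_naturality_right_symm φ f).trans
    ((hfg _ (ObjectProperty.ofObj_apply _ i) _).trans
      ((PresheafOfModules.sheafificationAdjunction (𝟙 (O X).obj)).homEquiv_naturality_right_symm φ g).symm)

instance hasSeparator : HasSeparator (MEt X) :=
  ⟨⟨_, (isSeparating X).isSeparator_coproduct⟩⟩

instance locallySmall : LocallySmall.{u} (MEt X) where
  hom_small F G := by
    let φ : (F ⟶ G) → ∀ i : SmallModel.{u} X.AffineEtale,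
      F.val.obj (op (aff X i)) → G.val.obj (op (aff X i)) := fun f i x => f.val.app _ x
    exact small_of_injective (f := φ) fun f g h => hom_ext_aff fun i x => congrFun (congrFun h i) x

theorem isGrothendieckAbelian : IsGrothendieckAbelian.{u} (MEt X) := {}

theorem enoughInjectives : EnoughInjectives (MEt X) :=
  have := isGrothendieckAbelian X
  inferInstance

variable {X}

/-- Sections of an injective étale module extend along monomorphisms. -/
theorem map_surjective (I : MEt X) [Injective I] {V U : X.Etale} (j : V ⟶ U) [Mono j] :
    Function.Surjective (I.val.presheaf.map j.op) := by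
  intro x
  have hI := injective_val I
  have hmono : Mono ((PresheafOfModules.free (O X).obj).map (yoneda.map j)) := by
    apply PresheafOfModules.mono_of_injective
    intro W
    have : Function.Injective ((yoneda.map j).app W) := by
      intro (a : W.unop ⟶ V) (b : W.unop ⟶ V) (hab : a ≫ j = b ≫ j)
      exact (cancel_mono j).mp hab
    exact Finsupp.mapDomain_injective this
  let f : fy (O X).obj V ⟶ I.val := PresheafOfModules.freeYonedaEquiv.symm x
  obtain ⟨g, hg⟩ := Injective.factors f ((PresheafOfModules.free (O X).obj).map (yoneda.map j))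
  refine ⟨PresheafOfModules.freeYonedaEquiv g, ?_⟩
  have h1 : PresheafOfModules.freeYonedaEquiv f = x := Equiv.apply_symm_apply _ _
  have h2 : I.val.map j.op (PresheafOfModules.freeYonedaEquiv g) =
      PresheafOfModules.freeYonedaEquiv f := by
    rw [← app_gen, ← hg, equiv_eq]
    change _ = g.app _ (((PresheafOfModules.free (O X).obj).map (yoneda.map j)).app _ _)
    rw [freeMap_gen, Category.id_comp]
  exact h2.trans h1

theorem flq_of_injective (I : MEt X) [Injective I] : EtModDefs.Flq I.val :=
  fun g _ => map_surjective I g

end Groth.Agent.Desc.EtModInj
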