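import Groth.Agent.Desc.EtModDefs
import Groth.Agent.Ega3B.RpushAbCmp
import Groth.Agent.CohtopA.ModExt

/-!
# Higher direct images of étale `O`-modules

* `up X`, `ab X`, `toAbEt X` are exact.
* `pushIso` : `pushM f ⋙ toAbEt S ≅ toAbEt T ⋙ EtCoh.push f`.
* `nonempty_Rpush_iso` : `R^i f_* (M^ab)` is the abelian sheaf underlying `H^i (f_* I)` for an injective
  resolution `I` of the étale `O`-module `M`.
-/

set_option autoImplicit false
universe u

open CategoryTheory CategoryTheory.Limits AlgebraicGeometry Opposite TopologicalSpace

namespace Groth.Agent.Desc.EtModPush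

open EtMod EtModFun EtModDefs

variable {X T S : Scheme.{u}}

section up

instance additive_up (X : Scheme.{u}) : (up X).Additive where
  map_add := rfl

noncomputable instance preservesFiniteLimits_up (X : Scheme.{u}) : PreservesFiniteLimits (up X) where
  preservesFiniteLimits K _ _ := by
    have : PreservesLimitsOfShape K
        (up X ⋙ sheafToPresheaf X.smallEtaleTopology AddCommGrpCat.{u + 1}) :=
      show PreservesLimitsOfShape K (sheafToPresheaf X.smallEtaleTopology AddCommGrpCat.{u} ⋙
        (Functor.whiskeringRight X.Etaleᵒᵖ _ _).obj AddCommGrpCat.uliftFunctor.{u + 1, u}) from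
        inferInstance
    exact preservesLimitsOfShape_of_reflects_of_preserves _
      (sheafToPresheaf X.smallEtaleTopology _)

/-- whiskering with the universe lift preserves local surjectivity -/
lemma locSurj {P Q : X.Etaleᵒᵖ ⥤ AddCommGrpCat.{u}} (f : P ⟶ Q)
    [Presheaf.IsLocallySurjective X.smallEtaleTopology f] :
    Presheaf.IsLocallySurjective X.smallEtaleTopology
      (Functor.whiskerRight f AddCommGrpCat.uliftFunctor.{u + 1, u}) where
  imageSieve_mem {U} s := by
    refine X.smallEtaleTopology.superset_covering ?_
      (Presheaf.imageSieve_mem X.smallEtaleTopology f (U := op U) (ULift.down s))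
    rintro V g ⟨t, ht⟩
    exact ⟨ULift.up t, congrArg ULift.up ht⟩

instance epi_up (F G : Sheaf X.smallEtaleTopology AddCommGrpCat.{u}) (f : F ⟶ G) [Epi f] :
    Epi ((up X).map f) := by
  have : Sheaf.IsLocallySurjective f :=
    (Sheaf.isLocallySurjective_iff_epi' AddCommGrpCat.{u} f).2 inferInstance
  have : Sheaf.IsLocallySurjective ((up X).map f) := locSurj f.hom
  infer_instance

instance preservesEpimorphisms_up (X : Scheme.{u}) : (up X).PreservesEpimorphisms where
  preserves _ := inferInstance

noncomputable instance preservesFiniteColimits_up (X : Scheme.{u}) :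
    PreservesFiniteColimits (up X) := by
  have key : PreservesFiniteLimits (up X) ∧ PreservesFiniteColimits (up X) := by
    refine ((up X).exact_tfae.out 0 3).1 ?_
    intro S hS
    have := hS.mono_f
    have := hS.epi_g
    exact { exact := hS.exact.map_of_mono_of_preservesKernel (up X) inferInstance inferInstance
            mono_f := inferInstanceAs (Mono ((up X).map S.f))
            epi_g := inferInstanceAs (Epi ((up X).map S.g)) }
  exact key.2

end up

section ab

instance additive_ab (X : Scheme.{u}) : (ab X).Additive where
  map_add := rfl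

noncomputable instance preservesFiniteLimits_ab (X : Scheme.{u}) :
    PreservesFiniteLimits (ab X) :=
  inferInstanceAs (PreservesFiniteLimits (SheafOfModules.toSheaf (O X)))

noncomputable instance preservesFiniteColimits_ab (X : Scheme.{u}) :
    PreservesFiniteColimits (ab X) :=
  CohtopA.ModExt.toSheaf_preservesFiniteColimits (O X)

instance additive_toAbEt (X : Scheme.{u}) : (toAbEt X).Additive :=
  inferInstanceAs (ab X ⋙ up X).Additive

noncomputable instance preservesFiniteLimits_toAbEt (X : Scheme.{u}) :
    PreservesFiniteLimits (toAbEt X) :=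
  comp_preservesFiniteLimits (ab X) (up X)

noncomputable instance preservesFiniteColimits_toAbEt (X : Scheme.{u}) :
    PreservesFiniteColimits (toAbEt X) :=
  comp_preservesFiniteColimits (ab X) (up X)

end ab

section push

/-- Direct images of étale modules and of abelian étale sheaves agree. -/
noncomputable def pushIso (f : T ⟶ S) : pushM f ⋙ toAbEt S ≅ toAbEt T ⋙ EtCoh.push f :=
  NatIso.ofComponents (fun _ => Iso.refl _) (fun _ => by
    apply Sheaf.hom_ext
    rfl)

/-- The underlying presheaf of abelian groups. -/
noncomputable abbrev toPsh (X : Scheme.{u}) : MEt X ⥤ X.Etaleᵒᵖ ⥤ AddCommGrpCat.{u} :=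
  SheafOfModules.forget (O X) ⋙ PresheafOfModules.toPresheaf (O X).obj

noncomputable instance preservesFiniteLimits_pushM (f : T ⟶ S) :
    PreservesFiniteLimits (pushM f) where
  preservesFiniteLimits K _ _ := by
    have h : PreservesLimitsOfShape K (pushM f ⋙ toPsh S) :=
      show PreservesLimitsOfShape K (toPsh T ⋙
        (Functor.whiskeringLeft _ _ AddCommGrpCat.{u}).obj (EtCoh.bc f).op) from inferInstance
    have : ReflectsLimitsOfShape K (toPsh S) := reflectsLimitsOfShape_of_reflectsIsomorphisms
    exact preservesLimitsOfShape_of_reflects_of_preserves _ (toPsh S)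

/-- P3: `R^i f_*` of the abelian sheaf underlying an étale module. -/
theorem nonempty_Rpush_iso [EnoughInjectives (MEt T)] (f : T ⟶ S)
    (hacyc : ∀ (I : MEt T), Injective I → ∀ q : ℕ,
      Limits.IsZero ((EtCoh.Rpush f (q + 1)).obj ((toAbEt T).obj I)))
    (M : MEt T) (I : InjectiveResolution M) (i : ℕ) :
    Nonempty ((EtCoh.Rpush f i).obj ((toAbEt T).obj M) ≅
      (toAbEt S).obj ((mapK (pushM f) I.cocomplex).homology i)) := by
  have : PreservesFiniteLimits (EtCoh.push f) :=
    have : PreservesLimitsOfSize.{0, 0} (EtCoh.push f) :=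
      (EtCoh.pullPushAdj f).rightAdjoint_preservesLimits
    inferInstance
  obtain ⟨e⟩ := Ega3B.RpushAbCmp.nonempty_iso_of_acyc (pushM f) (EtCoh.push f) (toAbEt T)
    (toAbEt S) (pushIso f) hacyc i M
  exact ⟨e.symm ≪≫ (toAbEt S).mapIso (I.isoRightDerivedObj (pushM f) i)⟩

end push

end Groth.Agent.Desc.EtModPush
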