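import Groth.Agent.Desc.EtModP6a
import Groth.Agent.Desc.EtModInj
import Groth.Agent.Desc.EtModPush
import Groth.Agent.S0030
import Groth.Prelude.Def_EtAssoc2

/-!
# Assembly lemmas for higher direct images of étale modules

* `nonempty_iso_of_isAssoc` : two étale sheaves associated to the same module are isomorphic.
* `isAssoc_congr` : `IsAssoc` is invariant under isomorphisms of modules.
* `isQC_cohPsh_resolution` : the presheaf cohomology of an injective resolution of a quasi-coherent étale
  module is quasi-coherent.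
-/

set_option autoImplicit false

universe u

open CategoryTheory CategoryTheory.Limits AlgebraicGeometry Opposite TopologicalSpace

namespace Groth.Agent.Desc.EtModAsm

open Groth.Agent.Desc.EtMod Groth.Agent.Desc.EtModFun Groth.Agent.Desc.EtModDefs
open Groth.Agent.Desc.EtModAff Groth.Agent.Desc.EtModP6a
open Groth.Agent.CohqA.BaseChangeMod (IsBC)

variable {X T S : Scheme.{u}}

/-- Uniqueness of the associated étale sheaf. -/
theorem nonempty_iso_of_isAssoc {F : X.Modules} {G G' : EtCoh.Ab X} (h : EtAssoc.IsAssoc F G)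
    (h' : EtAssoc.IsAssoc F G') : Nonempty (G ≅ G') := by
  obtain ⟨e, he⟩ := h
  obtain ⟨e', he'⟩ := h'
  let a : ∀ U : X.Etaleᵒᵖ, G.obj.obj U ≅ G'.obj.obj U := fun U =>
    ((e U.unop).trans (e' U.unop).symm).toAddCommGrpIso
  have ha : ∀ {U V : X.Etaleᵒᵖ} (g : U ⟶ V), G.obj.map g ≫ (a V).hom = (a U).hom ≫ G'.obj.map g := by
    intro U V g
    ext s
    change (e' V.unop).symm (e V.unop (G.obj.map g s)) =
      G'.obj.map g ((e' U.unop).symm (e U.unop s))
    apply (e' V.unop).injective
    rw [AddEquiv.apply_symm_apply]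
    apply ULift.down_injective
    refine (he U.unop V.unop g.unop s).trans ?_
    refine Eq.trans ?_ (he' U.unop V.unop g.unop _).symm
    rw [AddEquiv.apply_symm_apply]
  exact ⟨(fullyFaithfulSheafToPresheaf _ _).preimageIso (NatIso.ofComponents a ha)⟩

open EtAssocPb in
/-- Naturality of the transport of sections in the module. -/
theorem tr_naturality {Y Z S : Scheme.{u}} {F F' : S.Modules} (φ : F ⟶ F') (f : Z ⟶ Y) (w : Y ⟶ S)
    (v : Z ⟶ S) (h : f ≫ w = v) :
    gs ((Scheme.Modules.pullback w).map φ) ≫ tr F' f w v h =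
      tr F f w v h ≫ gs ((Scheme.Modules.pullback v).map φ) := by
  subst h
  have h1 := pb_naturality f ((Scheme.Modules.pullback w).map φ)
  have h2 := congrArg gs ((Scheme.Modules.pullbackComp f w).hom.naturality φ)
  unfold tr
  rw [eqToHom_refl, eqToHom_refl, Category.comp_id, Category.comp_id]
  rw [← Category.assoc, h1, Category.assoc, Category.assoc]
  exact congrArg (fun k => pb f ((Scheme.Modules.pullback w).obj F) ≫ k) h2

/-- The isomorphism on sections of pullbacks induced by an isomorphism of modules. -/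
noncomputable def objEquiv {F F' : X.Modules} (i : F ≅ F') (U : X.Etale) :
    (EtAssoc.obj F U : Type u) ≃+ (EtAssoc.obj F' U : Type u) where
  toFun := EtAssocPb.gs ((Scheme.Modules.pullback U.hom).map i.hom)
  invFun := EtAssocPb.gs ((Scheme.Modules.pullback U.hom).map i.inv)
  map_add' := map_add _
  left_inv x := by
    have h := congrArg EtAssocPb.gs ((Scheme.Modules.pullback U.hom).mapIso i).hom_inv_id
    exact ConcreteCategory.congr_hom h x
  right_inv x := by
    have h := congrArg EtAssocPb.gs ((Scheme.Modules.pullback U.hom).mapIso i).inv_hom_id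
    exact ConcreteCategory.congr_hom h x

theorem objEquiv_resMap {F F' : X.Modules} (i : F ≅ F') {U U' : X.Etale} (g : U' ⟶ U)
    (x : EtAssoc.obj F U) :
    objEquiv i U' (EtAssoc.resMap F g x) = EtAssoc.resMap F' g (objEquiv i U x) := by
  rw [EtAssocPb.resMap_eq_tr, EtAssocPb.resMap_eq_tr]
  exact (ConcreteCategory.congr_hom (tr_naturality i.hom g.left U.hom U'.hom (Over.w g.hom)) x).symm

/-- `IsAssoc` is invariant under isomorphisms of modules. -/
theorem isAssoc_congr {F F' : X.Modules} (i : F ≅ F') {G : EtCoh.Ab X} (h : EtAssoc.IsAssoc F G) :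
    EtAssoc.IsAssoc F' G := by
  obtain ⟨e, he⟩ := h
  refine ⟨fun U => (e U).trans (AddEquiv.ulift.trans ((objEquiv i U).trans AddEquiv.ulift.symm)),
    fun U U' g s => ?_⟩
  change objEquiv i U' (e U' (G.obj.map g.op s)).down = _
  rw [he, objEquiv_resMap]
  rfl

/-- Presheaves of modules vanishing on affine objects are quasi-coherent. -/
theorem isQC_of_subsingleton (P : PEt X)
    (h : ∀ U : X.Etale, IsAffine U.left → Subsingleton (P.presheaf.obj (op U))) : IsQC P := by
  intro V U g hV hU
  have h1 := h U hU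
  have h2 := h V hV
  refine ⟨fun r x => Subsingleton.elim _ _, fun Q _ _ k hk => ⟨0, fun x => ?_, fun k' hk' => ?_⟩⟩
  · rw [Subsingleton.elim x 0]
    exact (map_zero k).symm
  · ext y
    rw [Subsingleton.elim y 0, map_zero, map_zero]

/-- The presheaf cohomology in degree zero of a resolution. -/
noncomputable def cohPshZeroIso (M : MEt X) (I : InjectiveResolution M) :
    M.val ≅ cohPsh I.cocomplex 0 :=
  let L := psh (O X) I.cocomplex
  IsLimit.conePointUniqueUpToIso
    (KernelFork.mapIsLimit _ I.isLimitKernelFork (SheafOfModules.forget (O X)))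
    (L.cyclesIsKernel 0 1 (by simp)) ≪≫ CochainComplex.isoHomologyπ₀ L

/-- The presheaf cohomology of an injective resolution of a quasi-coherent étale module is quasi-coherent. -/
theorem isQC_cohPsh_resolution (M : MEt X) (hM : IsQC M.val) (I : InjectiveResolution M) (i : ℕ) :
    IsQC (cohPsh I.cocomplex i) := by
  rcases i with _ | i
  · exact isQC_congr (cohPshZeroIso M I) hM
  · exact isQC_of_subsingleton _ fun U hU => subsingleton_cohPsh M hM I i U hU

/-- Assembly of the comparison of étale and Zariski higher direct images. -/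
theorem assembly (f : T ⟶ S) [QuasiCompact f] [QuasiSeparated f]
    [HasInjectiveResolutions T.Modules] (F : T.Modules) [F.IsQuasicoherent] (i : ℕ)
    (P0 : ∃ M : MEt T, IsQC M.val ∧
      Nonempty ((zar (EtCoh.top T)).obj M ≅ F) ∧ EtAssoc.IsAssoc F ((toAbEt T).obj M))
    (P4 : ∀ (M : MEt T) (I : InjectiveResolution M) (_ : ∀ n, Flq (I.cocomplex.X n).val)
      (_ : ∀ (i : ℕ) (U : T.Etale), IsAffine U.left →
        Subsingleton ((cohPsh I.cocomplex (i + 1)).presheaf.obj (op U))),
      Nonempty ((Coh.Rpush f i).obj ((zar (EtCoh.top T)).obj M) ≅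
        (mapK (zar (EtCoh.top S)) (mapK (pushM f) I.cocomplex)).homology i))
    (P6b : ∀ (H : MEt S) (_ : IsQC H.val)
      (_ : ((zar (EtCoh.top S)).obj H).IsQuasicoherent),
      EtAssoc.IsAssoc ((zar (EtCoh.top S)).obj H) ((toAbEt S).obj H))
    (G : EtCoh.Ab T) (hG : EtAssoc.IsAssoc F G) (G' : EtCoh.Ab S)
    (hG' : EtAssoc.IsAssoc ((Coh.Rpush f i).obj F) G') :
    Nonempty ((EtCoh.Rpush f i).obj G ≅ G') := by
  obtain ⟨M, hM, ⟨eM⟩, hMa⟩ := P0
  have := EtModInj.enoughInjectives T
  let I : InjectiveResolution M := Classical.choice (HasInjectiveResolution.out)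
  have hfl : ∀ n, Flq (I.cocomplex.X n).val := fun n =>
    have := I.injective n
    EtModInj.flq_of_injective _
  let H : MEt S := (mapK (pushM f) I.cocomplex).homology i
  have hcoh : IsQC (cohPsh (mapK (pushM f) I.cocomplex) i) :=
    EtModFBC.isQC_cohPsh_push f I.cocomplex hfl (isQC_cohPsh_resolution M hM I) i
  obtain ⟨hH, ⟨eH⟩⟩ := isQC_homology (mapK (pushM f) I.cocomplex) i hcoh
  obtain ⟨e4⟩ := P4 M I hfl (fun i U hU => subsingleton_cohPsh M hM I i U hU)
  let e5 : (zar (EtCoh.top S)).obj H ≅ (Coh.Rpush f i).obj F :=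
    eH ≪≫ e4.symm ≪≫ (Coh.Rpush f i).mapIso eM
  have hF : Coh.IsQCoh F := ‹_›
  have h30 : ((Coh.Rpush f i).obj F).IsQuasicoherent := Groth.Agent.S0030.result f F i
  have hq : ((zar (EtCoh.top S)).obj H).IsQuasicoherent := by
    exact (SheafOfModules.isQuasicoherent S.ringCatSheaf).prop_of_iso e5.symm h30
  have h6 := isAssoc_congr e5 (P6b H hH hq)
  obtain ⟨e3⟩ := EtModPush.nonempty_Rpush_iso f
    (fun I hI q => EtModAcyc.isZero_Rpush f I hI q) M I i
  obtain ⟨e1⟩ := nonempty_iso_of_isAssoc hG hMa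
  obtain ⟨e2⟩ := nonempty_iso_of_isAssoc h6 hG'
  exact ⟨(EtCoh.Rpush f i).mapIso e1 ≪≫ e3 ≪≫ e2⟩

end Groth.Agent.Desc.EtModAsm
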