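import Groth.Agent.Desc.EtMod
import Groth.Agent.Etbase.CechCartan
import Mathlib.Algebra.Category.ModuleCat.Presheaf.Generator
import Mathlib.CategoryTheory.Preadditive.Injective.Preserves

/-!
# Čech exactness of injective étale modules

* `exact_of_injective_presheaf` : an injective presheaf of modules is exact in positive degrees on
  contractible simplicial objects.
* `exact_of_injective` : the same for injective étale `O_X`-modules.
-/

set_option autoImplicit false

universe w v u

open CategoryTheory CategoryTheory.Limits AlgebraicGeometry Opposite Simplicial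

namespace Groth.Agent.Desc.EtModCech

open Groth.Agent.Etbase.CechCartan Groth.Agent.Desc.EtMod

section presheaf

variable {C : Type u} [Category.{v} C] {R : Cᵒᵖ ⥤ RingCat.{v}}

/-- The free presheaf of modules on a representable presheaf. -/
noncomputable abbrev fy (R : Cᵒᵖ ⥤ RingCat.{v}) (T : C) : PresheafOfModules.{v} R :=
  (PresheafOfModules.free R).obj (yoneda.obj T)

/-- The generator. -/
noncomputable def gen {T W : C} (g : W ⟶ T) : (fy R T).obj (op W) :=
  ModuleCat.freeMk (R := R.obj (op W)) (X := (yoneda.obj T).obj (op W)) g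

theorem fy_hom_ext {T : C} {M : PresheafOfModules.{v} R} {φ ψ : fy R T ⟶ M}
    (h : ∀ (W : C) (g : W ⟶ T), φ.app (op W) (gen g) = ψ.app (op W) (gen g)) : φ = ψ := by
  apply PresheafOfModules.hom_ext
  rintro ⟨W⟩
  apply ModuleCat.free_hom_ext
  intro g
  exact h W g

theorem lin_ext {T W : C} {N : Type*} [AddCommGroup N] [Module (R.obj (op W)) N]
    {φ ψ : (fy R T).obj (op W) →ₗ[R.obj (op W)] N} (h : ∀ g : W ⟶ T, φ (gen g) = ψ (gen g)) :
    φ = ψ := by
  apply Finsupp.lhom_ext'
  intro g
  apply LinearMap.ext_ring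
  exact h g

/-- Linear maps out of the sections of a free presheaf. -/
noncomputable def lin {T W : C} {N : Type*} [AddCommGroup N] [Module (R.obj (op W)) N]
    (f : (W ⟶ T) → N) : (fy R T).obj (op W) →ₗ[R.obj (op W)] N :=
  Finsupp.lift N (R.obj (op W)) (W ⟶ T) f

theorem lin_gen {T W : C} {N : Type*} [AddCommGroup N] [Module (R.obj (op W)) N]
    (f : (W ⟶ T) → N) (g : W ⟶ T) : lin (R := R) f (gen g) = f g := by
  refine (Finsupp.lift_apply _ _ _ _ _).trans ?_
  refine (Finsupp.sum_single_index ?_).trans ?_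
  · exact zero_smul _ _
  · exact one_smul _ _

theorem map_gen {T W W' : C} (k : W' ⟶ W) (g : W ⟶ T) :
    (fy R T).map k.op (gen g) = gen (R := R) (k ≫ g) :=
  ModuleCat.freeDesc_apply _ _

theorem freeMap_gen {T T' W : C} (k : T ⟶ T') (g : W ⟶ T) :
    ((PresheafOfModules.free R).map (yoneda.map k)).app (op W) (gen g) = gen (R := R) (g ≫ k) :=
  ModuleCat.free_map_apply _ _

/-- The differential on free presheaves. -/
noncomputable def dM (R : Cᵒᵖ ⥤ RingCat.{v}) (E : SimplicialObject C) (n : ℕ) :
    fy R (E _⦋n + 1⦌) ⟶ fy R (E _⦋n⦌) :=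
  ∑ i : Fin (n + 2), (-1 : ℤ) ^ (i : ℕ) • (PresheafOfModules.free R).map (yoneda.map (E.δ i))

/-- Evaluation of morphisms at an element, as an additive map. -/
noncomputable def evHom {M N : PresheafOfModules.{v} R} (W : C) (x : M.obj (op W)) :
    (M ⟶ N) →+ N.obj (op W) where
  toFun f := f.app (op W) x
  map_zero' := rfl
  map_add' _ _ := rfl

theorem app_sum {M N : PresheafOfModules.{v} R} {ι : Type*} (s : Finset ι) (f : ι → (M ⟶ N))
    (W : C) (x : M.obj (op W)) :
    (∑ i ∈ s, f i).app (op W) x = ∑ i ∈ s, (f i).app (op W) x :=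
  map_sum (evHom W x) f s

theorem app_zsmul {M N : PresheafOfModules.{v} R} (k : ℤ) (f : M ⟶ N)
    (W : C) (x : M.obj (op W)) : (k • f).app (op W) x = k • f.app (op W) x :=
  map_zsmul (evHom W x) k f

theorem dM_gen (E : SimplicialObject C) (n : ℕ) {W : C} (g : W ⟶ E _⦋n + 1⦌) :
    (dM R E n).app (op W) (gen g) =
      ∑ i : Fin (n + 2), (-1 : ℤ) ^ (i : ℕ) • gen (R := R) (g ≫ E.δ i) := by
  rw [dM, app_sum]
  refine Finset.sum_congr rfl fun i _ => ?_
  rw [app_zsmul, freeMap_gen]

/-- The section corresponding to a morphism from a free presheaf. -/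
theorem equiv_eq {T : C} {M : PresheafOfModules.{v} R} (φ : fy R T ⟶ M) :
    PresheafOfModules.freeYonedaEquiv φ = φ.app (op T) (gen (𝟙 T)) := rfl

theorem app_gen {T W : C} {M : PresheafOfModules.{v} R} (φ : fy R T ⟶ M) (g : W ⟶ T) :
    φ.app (op W) (gen g) = M.map g.op (PresheafOfModules.freeYonedaEquiv φ) := by
  rw [equiv_eq, ← PresheafOfModules.naturality_apply, map_gen, Category.comp_id]

theorem equiv_dM {M : PresheafOfModules.{v} R} (E : SimplicialObject C) (n : ℕ)
    (φ : fy R (E _⦋n⦌) ⟶ M) :
    PresheafOfModules.freeYonedaEquiv (dM R E n ≫ φ) =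
      dC M.presheaf E n (PresheafOfModules.freeYonedaEquiv φ) := by
  refine Eq.trans ?_ (dC_apply M.presheaf E n (PresheafOfModules.freeYonedaEquiv φ)).symm
  rw [equiv_eq, PresheafOfModules.comp_app]
  change φ.app _ ((dM R E n).app _ _) = _
  rw [dM_gen, map_sum]
  refine Finset.sum_congr rfl fun i _ => ?_
  rw [map_zsmul, Category.id_comp, app_gen]
  rfl

/-- Contracting homotopy on free modules. -/
theorem exists_of_dM_eq_zero {E : SimplicialObject C} (hE : Contractible E) (n : ℕ) (W : C)
    (z : (fy R (E _⦋n + 1⦌)).obj (op W)) (hz : (dM R E n).app (op W) z = 0) :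
    ∃ z', (dM R E (n + 1)).app (op W) z' = z := by
  obtain ⟨h, h0, hs⟩ := hE W
  let H : ∀ n : ℕ, (fy R (E _⦋n⦌)).obj (op W) →ₗ[R.obj (op W)] (fy R (E _⦋n + 1⦌)).obj (op W) :=
    fun n => lin (fun g => gen (h n g))
  have key : ((dM R E (n + 1)).app (op W)).hom.comp (H (n + 1)) + (H n).comp
      ((dM R E n).app (op W)).hom = LinearMap.id := by
    apply lin_ext
    intro g
    change (dM R E (n + 1)).app (op W) (H (n + 1) (gen g)) +
      H n ((dM R E n).app (op W) (gen g)) = gen g
    rw [lin_gen, dM_gen, dM_gen, Fin.sum_univ_succ, map_sum]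
    have h1 : ∀ i : Fin (n + 2), (-1 : ℤ) ^ ((i.succ : Fin (n + 3)) : ℕ) •
        gen (R := R) (h (n + 1) g ≫ E.δ i.succ) =
        - ((-1 : ℤ) ^ (i : ℕ) • gen (R := R) (h n (g ≫ E.δ i))) := by
      intro i
      rw [hs, Fin.val_succ, pow_succ]
      simp
    have h2 : ∀ i : Fin (n + 2), H n ((-1 : ℤ) ^ (i : ℕ) • gen (R := R) (g ≫ E.δ i)) =
        ((-1 : ℤ) ^ (i : ℕ) • gen (R := R) (h n (g ≫ E.δ i))) := by
      intro i
      rw [map_zsmul, lin_gen]
    rw [Finset.sum_congr rfl (fun i _ => h1 i), Finset.sum_congr rfl (fun i _ => h2 i), h0,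
      Finset.sum_neg_distrib]
    simp
  refine ⟨H (n + 1) z, ?_⟩
  have := LinearMap.congr_fun key z
  change (dM R E (n + 1)).app (op W) (H (n + 1) z) + H n ((dM R E n).app (op W) z) = z at this
  rwa [hz, map_zero, add_zero] at this

/-- Injective presheaves of modules are exact in positive degrees on contractible simplicial
objects. -/
theorem exact_of_injective_presheaf {E : SimplicialObject C} (hE : Contractible E)
    (I : PresheafOfModules.{v} R) [Injective I] : Exact' I.presheaf E := by
  intro n x hx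
  let φ : fy R (E _⦋n + 1⦌) ⟶ I := PresheafOfModules.freeYonedaEquiv.symm x
  have hφ : PresheafOfModules.freeYonedaEquiv φ = x := Equiv.apply_symm_apply _ _
  have h0 : dM R E (n + 1) ≫ φ = 0 := by
    apply PresheafOfModules.freeYonedaEquiv.injective
    rw [equiv_dM, hφ, hx]
    rfl
  have h1 : kernel.ι (dM R E n) ≫ φ = 0 := by
    apply PresheafOfModules.hom_ext
    rintro ⟨W⟩
    ext z
    have h2 : (dM R E n).app (op W) ((kernel.ι (dM R E n)).app (op W) z) = 0 :=
      congrArg (fun k => PresheafOfModules.Hom.app k (op W) z) (kernel.condition (dM R E n))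
    obtain ⟨z', hz'⟩ := exists_of_dM_eq_zero hE n W _ h2
    change φ.app (op W) ((kernel.ι (dM R E n)).app (op W) z) = 0
    rw [← hz']
    exact congrArg (fun k => PresheafOfModules.Hom.app k (op W) z') h0
  let y : fy R (E _⦋n⦌) ⟶ I :=
    Injective.factorThru (cokernel.desc _ _ h1 : Abelian.coimage (dM R E n) ⟶ I)
      (Abelian.factorThruCoimage (dM R E n))
  have hy : dM R E n ≫ y = φ := by
    rw [← Abelian.coimage.fac (dM R E n), Category.assoc, Injective.comp_factorThru]
    exact cokernel.π_desc _ _ _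
  refine ⟨PresheafOfModules.freeYonedaEquiv y, ?_⟩
  rw [← equiv_dM, hy, hφ]

end presheaf

section sheaf

variable {C : Type u} [Category.{v} C] {J : GrothendieckTopology C}
  [HasSheafify J AddCommGrpCat.{v}] [J.WEqualsLocallyBijective AddCommGrpCat.{v}]

/-- The presheaf of modules underlying an injective sheaf of modules is injective. -/
theorem injective_val_site (O : Sheaf J RingCat.{v}) (I : SheafOfModules.{v} O) [Injective I] :
    Injective I.val := by
  have adj := PresheafOfModules.sheafificationAdjunction.{v} (𝟙 O.obj)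
  have : (PresheafOfModules.sheafification.{v} (𝟙 O.obj)).PreservesMonomorphisms :=
    inferInstance
  exact Adjunction.map_injective adj I ‹_›

theorem exact_of_injective_site (O : Sheaf J RingCat.{v}) (I : SheafOfModules.{v} O) [Injective I]
    {E : SimplicialObject C} (hE : Contractible E) : Exact' I.val.presheaf E :=
  have := injective_val_site O I
  exact_of_injective_presheaf hE I.val

end sheaf

variable {X : Scheme.{u}}

theorem injective_val (I : MEt X) [Injective I] : Injective I.val :=
  injective_val_site (O X) I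

theorem exact_of_injective (I : MEt X) [Injective I] (E : SimplicialObject X.Etale)
    (hE : Contractible E) : Exact' I.val.presheaf E :=
  exact_of_injective_site (O X) I hE

end Groth.Agent.Desc.EtModCech
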