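import Groth.Agent.Desc.EtModDefs
import Groth.Agent.Desc.EtFBCKer

/-!
# Flat base change for the presheaf cohomology of complexes of flasque étale `O`-modules
-/

set_option autoImplicit false
set_option backward.isDefEq.respectTransparency false
set_option backward.isDefEq.respectTransparency.types false
universe u

open CategoryTheory CategoryTheory.Limits AlgebraicGeometry Opposite TopologicalSpace

namespace Groth.Agent.Desc.EtModFBC

open EtMod EtModFun EtModDefs EtSheafCrit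
open Groth.Agent.CohqA Groth.Agent.CohqA.FBCSquare
open Groth.Agent.CohqA.BaseChangeMod (IsBC)

variable {X T S : Scheme.{u}}

section Abstract

theorem isIso_app_homology_iff {C D : Type*} [Category C] [Category D] [Abelian C] [Abelian D]
    {P Q : C ⥤ D} [P.Additive] [Q.Additive] [PreservesFiniteLimits P]
    [PreservesFiniteColimits P] [PreservesFiniteLimits Q] [PreservesFiniteColimits Q] (τ : P ⟶ Q)
    (K : CochainComplex C ℕ) (n : ℕ) :
    QuasiIsoAt ((NatTrans.mapHomologicalComplex τ (ComplexShape.up ℕ)).app K) n ↔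
      IsIso (τ.app (K.homology n)) := by
  refine ⟨EtFBCKer.isIso_app_homology τ K n, fun h => ?_⟩
  have h1 := ShortComplex.homologyMap_mapNatTrans (K.sc n) τ
  have h2 : IsIso (τ.app (K.sc n).homology) := h
  have h3 : IsIso (ShortComplex.homologyMap ((K.sc n).mapNatTrans τ)) := by
    rw [h1]
    infer_instance
  rw [quasiIsoAt_iff_isIso_homologyMap]
  exact h3

variable {C D E : Type*} [Category C] [Category D] [Category E] {F : C ⥤ D} {G : D ⥤ C}
  (adj : F ⊣ G)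

/-- Transposition of natural transformations. -/
def transp {P : E ⥤ C} {Q : E ⥤ D} (ψ : P ⟶ Q ⋙ G) : P ⋙ F ⟶ Q where
  app X := (adj.homEquiv (P.obj X) (Q.obj X)).symm (ψ.app X)
  naturality X Y f := by
    have h1 := adj.homEquiv_naturality_left_symm (P.map f) (ψ.app Y)
    have h2 := adj.homEquiv_naturality_right_symm (ψ.app X) (Q.map f)
    have h3 : P.map f ≫ ψ.app Y = ψ.app X ≫ G.map (Q.map f) := ψ.naturality f
    rw [h3, h2] at h1
    exact h1.symm

theorem transp_comm {P P₂ : E ⥤ C} {Q Q₂ : E ⥤ D} (ψ : P ⟶ Q ⋙ G) (ψ₂ : P₂ ⟶ Q₂ ⋙ G)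
    (a : P ⟶ P₂) (b : Q ⟶ Q₂) (w : ∀ X, a.app X ≫ ψ₂.app X = ψ.app X ≫ G.map (b.app X)) :
    Functor.whiskerRight a F ≫ transp adj ψ₂ = transp adj ψ ≫ b := by
  ext X
  have h1 := adj.homEquiv_naturality_left_symm (a.app X) (ψ₂.app X)
  have h2 := adj.homEquiv_naturality_right_symm (ψ.app X) (b.app X)
  rw [w X, h2] at h1
  exact h1.symm

end Abstract

section Ev

variable {A B : Type u} [CommRing A] [CommRing B]

/-- Sections over `Z`, as an `A`-module. -/
noncomputable def ev {Z : T.Etale} (ρ : A →+* Γ(Z.left, ⊤)) : PEt T ⥤ ModuleCat.{u} A :=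
  PresheafOfModules.evaluation (O T).obj (op Z) ⋙ ModuleCat.restrictScalars ρ

instance additive_ev {Z : T.Etale} (ρ : A →+* Γ(Z.left, ⊤)) : (ev ρ).Additive where
  map_add {M N φ ψ} := by
    ext x
    rfl

instance preservesFiniteLimits_ev {Z : T.Etale} (ρ : A →+* Γ(Z.left, ⊤)) :
    PreservesFiniteLimits (ev ρ) := by
  have h2 : PreservesFiniteLimits (ModuleCat.restrictScalars.{u} ρ) := inferInstance
  exact comp_preservesFiniteLimits _ _

instance preservesFiniteColimits_restrictScalars {R S : Type u} [CommRing R] [CommRing S]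
    (f : R →+* S) : PreservesFiniteColimits (ModuleCat.restrictScalars.{u} f) := by
  infer_instance

instance preservesFiniteColimits_ev {Z : T.Etale} (ρ : A →+* Γ(Z.left, ⊤)) :
    PreservesFiniteColimits (ev ρ) := by
  have h2 : PreservesFiniteColimits (ModuleCat.restrictScalars.{u} ρ) := inferInstance
  exact comp_preservesFiniteColimits _ _

theorem ev_smul {Z : T.Etale} (ρ : A →+* Γ(Z.left, ⊤)) (P : PEt T) (a : A) (x : (ev ρ).obj P) :
    a • x = (ρ a • (show P.presheaf.obj (op Z) from x) : P.presheaf.obj (op Z)) := rfl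

/-- Restriction of sections, linear over `A`. -/
noncomputable def resN {Z Z' : T.Etale} (m : Z' ⟶ Z) (ρ : A →+* Γ(Z.left, ⊤))
    (ρ' : A →+* Γ(Z'.left, ⊤)) (h : ∀ a, m.left.appTop.hom (ρ a) = ρ' a) : ev ρ ⟶ ev ρ' where
  app P := ModuleCat.ofHom (X := (ev ρ).obj P) (Y := (ev ρ').obj P)
    { toFun := fun x => P.presheaf.map m.op x
      map_add' := fun x y => map_add (P.presheaf.map m.op).hom x y
      map_smul' := fun a x => (presheaf_map_smul P m (ρ a) x).trans
        (congrArg (fun r : Γ(Z'.left, ⊤) => r • (P.presheaf.map m.op x)) (h a)) }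
  naturality P Q φ := by
    ext x
    exact (ConcreteCategory.congr_hom
      (((PresheafOfModules.toPresheaf _).map φ).naturality m.op) x).symm

theorem resN_apply {Z Z' : T.Etale} (m : Z' ⟶ Z) (ρ : A →+* Γ(Z.left, ⊤))
    (ρ' : A →+* Γ(Z'.left, ⊤)) (h : ∀ a, m.left.appTop.hom (ρ a) = ρ' a) (P : PEt T)
    (x : (ev ρ).obj P) : (resN m ρ ρ' h).app P x = P.presheaf.map m.op x := rfl

variable (α : A →+* B)

/-- Restriction of sections, semilinear. -/
noncomputable def psiN {Z Z' : T.Etale} (m : Z' ⟶ Z) (ρ : A →+* Γ(Z.left, ⊤))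
    (ρ' : B →+* Γ(Z'.left, ⊤)) (h : ∀ a, m.left.appTop.hom (ρ a) = ρ' (α a)) :
    ev ρ ⟶ ev ρ' ⋙ ModuleCat.restrictScalars.{u} α where
  app P := FBCRes.homOf α (M := (ev ρ).obj P) (N := (ev ρ').obj P) (P.presheaf.map m.op).hom
    (fun a x => (presheaf_map_smul P m (ρ a) x).trans
        (congrArg (fun r : Γ(Z'.left, ⊤) => r • (P.presheaf.map m.op x)) (h a)))
  naturality P Q φ := by
    ext x
    exact (ConcreteCategory.congr_hom
      (((PresheafOfModules.toPresheaf _).map φ).naturality m.op) x).symm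

theorem psiN_apply {Z Z' : T.Etale} (m : Z' ⟶ Z) (ρ : A →+* Γ(Z.left, ⊤))
    (ρ' : B →+* Γ(Z'.left, ⊤)) (h : ∀ a, m.left.appTop.hom (ρ a) = ρ' (α a)) (P : PEt T)
    (x : (ev ρ).obj P) : (psiN α m ρ ρ' h).app P x = P.presheaf.map m.op x := rfl

/-- The natural transformation `B ⊗ P(Z) ⟶ P(Z')`. -/
noncomputable def phiN {Z Z' : T.Etale} (m : Z' ⟶ Z) (ρ : A →+* Γ(Z.left, ⊤))
    (ρ' : B →+* Γ(Z'.left, ⊤)) (h : ∀ a, m.left.appTop.hom (ρ a) = ρ' (α a)) :
    ev ρ ⋙ ModuleCat.extendScalars.{u, u, u} α ⟶ ev ρ' :=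
  transp (ModuleCat.extendRestrictScalarsAdj.{u, u, u} α) (psiN α m ρ ρ' h)

/-- Compatibility of `phiN` with restrictions. -/
theorem phiN_naturality {Z Z' : T.Etale} (m : Z' ⟶ Z) (ρ : A →+* Γ(Z.left, ⊤))
    (ρ' : B →+* Γ(Z'.left, ⊤)) (h : ∀ a, m.left.appTop.hom (ρ a) = ρ' (α a))
    {Y Y' : T.Etale} (m₂ : Y' ⟶ Y) (ρ₂ : A →+* Γ(Y.left, ⊤))
    (ρ₂' : B →+* Γ(Y'.left, ⊤)) (h₂ : ∀ a, m₂.left.appTop.hom (ρ₂ a) = ρ₂' (α a))
    (j : Y ⟶ Z) (hj : ∀ a, j.left.appTop.hom (ρ a) = ρ₂ a)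
    (j' : Y' ⟶ Z') (hj' : ∀ b, j'.left.appTop.hom (ρ' b) = ρ₂' b) (w : m₂ ≫ j = j' ≫ m) :
    Functor.whiskerRight (resN j ρ ρ₂ hj) (ModuleCat.extendScalars.{u, u, u} α) ≫
      phiN α m₂ ρ₂ ρ₂' h₂ = phiN α m ρ ρ' h ≫ resN j' ρ' ρ₂' hj' := by
  refine transp_comm _ _ _ _ _ fun P => ?_
  ext x
  have e2 := congrArg (fun k => P.presheaf.map (Quiver.Hom.op k)) w
  have e3 : P.presheaf.map j.op ≫ P.presheaf.map m₂.op =
      P.presheaf.map m.op ≫ P.presheaf.map j'.op :=
    (P.presheaf.map_comp _ _).symm.trans (e2.trans (P.presheaf.map_comp _ _))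
  exact ConcreteCategory.congr_hom e3 x

/-- `phiN` on complexes. -/
noncomputable abbrev phiK {Z Z' : T.Etale} (m : Z' ⟶ Z) (ρ : A →+* Γ(Z.left, ⊤))
    (ρ' : B →+* Γ(Z'.left, ⊤)) (h : ∀ a, m.left.appTop.hom (ρ a) = ρ' (α a))
    (K : CochainComplex (PEt T) ℕ) :=
  (NatTrans.mapHomologicalComplex (phiN α m ρ ρ' h) (ComplexShape.up ℕ)).app K

theorem quasiIso_phiK_iff (hα : α.Flat) {Z Z' : T.Etale} (m : Z' ⟶ Z) (ρ : A →+* Γ(Z.left, ⊤))
    (ρ' : B →+* Γ(Z'.left, ⊤)) (h : ∀ a, m.left.appTop.hom (ρ a) = ρ' (α a))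
    (K : CochainComplex (PEt T) ℕ) :
    QuasiIso (phiK α m ρ ρ' h K) ↔
      ∀ i, IsBC (M := (ev ρ).obj (K.homology i)) (N := (ev ρ').obj (K.homology i)) α
        ((K.homology i).presheaf.map m.op).hom := by
  have h1 := ModuleCat.preservesFiniteLimits_extendScalars_of_flat hα
  have h2 : PreservesFiniteColimits (ModuleCat.extendScalars.{u, u, u} α) :=
    have := (ModuleCat.extendRestrictScalarsAdj.{u, u, u} α).leftAdjoint_preservesColimits
    inferInstance
  have h3 : PreservesFiniteLimits (ev ρ ⋙ ModuleCat.extendScalars.{u, u, u} α) :=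
    comp_preservesFiniteLimits _ _
  have h4 : PreservesFiniteColimits (ev ρ ⋙ ModuleCat.extendScalars.{u, u, u} α) :=
    comp_preservesFiniteColimits _ _
  rw [quasiIso_iff]
  refine forall_congr' fun i => ?_
  refine Iff.trans ?_ (FBCRes.isIso_extend_iff α
    (ModuleCat.extendRestrictScalarsAdj.{u, u, u} α) ((psiN α m ρ ρ' h).app (K.homology i)))
  exact isIso_app_homology_iff (phiN α m ρ ρ' h) K i

end Ev

section MV

variable {A : Type u} [CommRing A]

/-- The structure map on opens. -/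
noncomputable def rhoW (Z : T.Etale) (ρ : A →+* Γ(Z.left, ⊤)) (W : Z.left.Opens) :
    A →+* Γ((opn Z W).left, ⊤) :=
  (inc Z W).left.appTop.hom.comp ρ

/-- The inclusion of opens of an object of the small étale site. -/
noncomputable def incl (Z : T.Etale) {W W' : Z.left.Opens} (h : W' ≤ W) : opn Z W' ⟶ opn Z W :=
  (opnF Z).map (homOfLE h)

theorem incl_inc (Z : T.Etale) {W W' : Z.left.Opens} (h : W' ≤ W) :
    incl Z h ≫ inc Z W = inc Z W' := opnF_map_inc Z (homOfLE h)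

instance mono_incl (Z : T.Etale) {W W' : Z.left.Opens} (h : W' ≤ W) : Mono (incl Z h) := by
  have := mono_inc Z W'
  exact mono_of_mono_fac (incl_inc Z h)

theorem rhoW_incl (Z : T.Etale) (ρ : A →+* Γ(Z.left, ⊤)) {W W' : Z.left.Opens} (h : W' ≤ W)
    (a : A) : (incl Z h).left.appTop.hom (rhoW Z ρ W a) = rhoW Z ρ W' a := by
  have h1 := congrArg (fun k => (k.left.appTop).hom (ρ a)) (incl_inc Z h)
  exact h1

theorem mvSq_resN (Z : T.Etale) (ρ : A →+* Γ(Z.left, ⊤)) (W W' : Z.left.Opens)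
    (M : MEt T) (hM : Flq M.val) :
    MVSq ((resN (incl Z (le_sup_left : W ≤ W ⊔ W')) _ _ (rhoW_incl Z ρ _)).app M.val)
      ((resN (incl Z (le_sup_right : W' ≤ W ⊔ W')) _ _ (rhoW_incl Z ρ _)).app M.val)
      ((resN (incl Z (inf_le_left : W ⊓ W' ≤ W)) _ _ (rhoW_incl Z ρ _)).app M.val)
      ((resN (incl Z (inf_le_right : W ⊓ W' ≤ W')) _ _ (rhoW_incl Z ρ _)).app M.val) where
  isPullback := by
    have h1 := FBCSec.isPullback_presheaf ((zar Z).obj M) W W'
    refine IsPullback.of_map (forget₂ (ModuleCat.{u} A) AddCommGrpCat.{u}) ?_ h1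
    ext x
    exact ConcreteCategory.congr_hom h1.w x
  epi := by
    rw [ModuleCat.epi_iff_surjective]
    exact hM (incl Z (inf_le_left : W ⊓ W' ≤ W)) inferInstance

/-- The complex of sections. -/
noncomputable abbrev evK {Z : T.Etale} (ρ : A →+* Γ(Z.left, ⊤)) (K : CochainComplex (PEt T) ℕ) :
    CochainComplex (ModuleCat.{u} A) ℕ :=
  mapK (ev ρ) K

/-- Restriction for complexes of sections. -/
noncomputable abbrev resK {Z Z' : T.Etale} (m : Z' ⟶ Z) (ρ : A →+* Γ(Z.left, ⊤))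
    (ρ' : A →+* Γ(Z'.left, ⊤)) (h : ∀ a, m.left.appTop.hom (ρ a) = ρ' a)
    (K : CochainComplex (PEt T) ℕ) : evK ρ K ⟶ evK ρ' K :=
  (NatTrans.mapHomologicalComplex (resN m ρ ρ' h) (ComplexShape.up ℕ)).app K

/-- The underlying complex of presheaves of modules. -/
noncomputable abbrev psh (I : CochainComplex (MEt T) ℕ) : CochainComplex (PEt T) ℕ :=
  mapK (SheafOfModules.forget (O T)) I

theorem mvSq_resK (Z : T.Etale) (ρ : A →+* Γ(Z.left, ⊤)) {W W' V V' : Z.left.Opens}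
    (hV : V = W ⊔ W') (hV' : V' = W ⊓ W') (h₁ : W ≤ V) (h₂ : W' ≤ V) (h₃ : V' ≤ W) (h₄ : V' ≤ W')
    (I : CochainComplex (MEt T) ℕ) (hI : ∀ n, Flq (I.X n).val) :
    MVSq (resK (incl Z h₁) _ _ (rhoW_incl Z ρ _) (psh I))
      (resK (incl Z h₂) _ _ (rhoW_incl Z ρ _) (psh I))
      (resK (incl Z h₃) _ _ (rhoW_incl Z ρ _) (psh I))
      (resK (incl Z h₄) _ _ (rhoW_incl Z ρ _) (psh I)) := by
  subst hV hV'
  exact MVSq.of_degreewise fun n => mvSq_resN Z ρ W W' (I.X n) (hI n)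

end MV

section Step

variable {A B : Type u} [CommRing A] [CommRing B] (α : A →+* B)

theorem mvSq_map_extend (hα : α.Flat) {X₁ X₂ X₃ X₄ : CochainComplex (ModuleCat.{u} A) ℕ}
    {a : X₁ ⟶ X₂} {b : X₁ ⟶ X₃} {c : X₂ ⟶ X₄} {d : X₃ ⟶ X₄} (h : MVSq a b c d) :
    MVSq (((ModuleCat.extendScalars.{u, u, u} α).mapHomologicalComplex _).map a)
      (((ModuleCat.extendScalars.{u, u, u} α).mapHomologicalComplex _).map b)
      (((ModuleCat.extendScalars.{u, u, u} α).mapHomologicalComplex _).map c)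
      (((ModuleCat.extendScalars.{u, u, u} α).mapHomologicalComplex _).map d) :=
  FBCCx.MVSq.map_extend α hα h

/-- The map `opn Z' (m⁻¹ W) ⟶ opn Z W`. -/
noncomputable def mW {Z Z' : T.Etale} (m : Z' ⟶ Z) (W : Z.left.Opens) :
    opn Z' (m.left ⁻¹ᵁ W) ⟶ opn Z W :=
  MorphismProperty.Over.homMk (m.left ∣_ W) (by
    change (m.left ∣_ W) ≫ W.ι ≫ Z.hom = (m.left ⁻¹ᵁ W).ι ≫ Z'.hom
    rw [morphismRestrict_ι_assoc]
    congr 1
    exact Over.w m.hom)

theorem mW_inc {Z Z' : T.Etale} (m : Z' ⟶ Z) (W : Z.left.Opens) :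
    mW m W ≫ inc Z W = inc Z' (m.left ⁻¹ᵁ W) ≫ m :=
  MorphismProperty.Over.Hom.ext (morphismRestrict_ι m.left W)

theorem mW_incl {Z Z' : T.Etale} (m : Z' ⟶ Z) {W V : Z.left.Opens} (h : W ≤ V)
    (h' : m.left ⁻¹ᵁ W ≤ m.left ⁻¹ᵁ V) :
    mW m W ≫ incl Z h = incl Z' h' ≫ mW m V := by
  refine (mono_inc Z V).right_cancellation _ _ ?_
  rw [Category.assoc, Category.assoc, incl_inc, mW_inc, mW_inc, ← Category.assoc, incl_inc]

variable {Z Z' : T.Etale} (m : Z' ⟶ Z) (ρ : A →+* Γ(Z.left, ⊤)) (ρ' : B →+* Γ(Z'.left, ⊤))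
  (h : ∀ a, m.left.appTop.hom (ρ a) = ρ' (α a))

include h in
theorem compat_mW (W : Z.left.Opens) (a : A) :
    (mW m W).left.appTop.hom (rhoW Z ρ W a) = rhoW Z' ρ' (m.left ⁻¹ᵁ W) (α a) := by
  have h1 : (mW m W).left.appTop.hom (rhoW Z ρ W a) =
      (inc Z' (m.left ⁻¹ᵁ W)).left.appTop.hom (m.left.appTop.hom (ρ a)) :=
    congrArg (fun k => (k.left.appTop).hom (ρ a)) (mW_inc m W)
  rw [h1, h]
  rfl

/-- The comparison map over an open `W` of `Z`. -/
noncomputable abbrev phiW (K : CochainComplex (PEt T) ℕ) (W : Z.left.Opens) :=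
  phiK α (mW m W) (rhoW Z ρ W) (rhoW Z' ρ' (m.left ⁻¹ᵁ W)) (compat_mW α m ρ ρ' h W) K

theorem phiW_comm (K : CochainComplex (PEt T) ℕ) {W V : Z.left.Opens} (hWV : W ≤ V)
    (hWV' : m.left ⁻¹ᵁ W ≤ m.left ⁻¹ᵁ V) :
    ((ModuleCat.extendScalars.{u, u, u} α).mapHomologicalComplex _).map
        (resK (incl Z hWV) _ _ (rhoW_incl Z ρ _) K) ≫ phiW α m ρ ρ' h K W =
      phiW α m ρ ρ' h K V ≫ resK (incl Z' hWV') _ _ (rhoW_incl Z' ρ' _) K := by
  have h1 := phiN_naturality α (mW m V) (rhoW Z ρ V) (rhoW Z' ρ' (m.left ⁻¹ᵁ V))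
    (compat_mW α m ρ ρ' h V) (mW m W) (rhoW Z ρ W) (rhoW Z' ρ' (m.left ⁻¹ᵁ W))
    (compat_mW α m ρ ρ' h W) (incl Z hWV) (rhoW_incl Z ρ _) (incl Z' hWV') (rhoW_incl Z' ρ' _)
    (mW_incl m hWV hWV')
  ext n : 1
  exact congrArg (fun t => t.app (K.X n)) h1

theorem quasiIso_phiW_sup (hα : α.Flat) (I : CochainComplex (MEt T) ℕ)
    (hI : ∀ n, Flq (I.X n).val) (W W' : Z.left.Opens)
    (h₁ : QuasiIso (phiW α m ρ ρ' h (psh I) W)) (h₂ : QuasiIso (phiW α m ρ ρ' h (psh I) W'))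
    (h₃ : QuasiIso (phiW α m ρ ρ' h (psh I) (W ⊓ W'))) :
    QuasiIso (phiW α m ρ ρ' h (psh I) (W ⊔ W')) := by
  have e₁ : m.left ⁻¹ᵁ (W ⊔ W') = m.left ⁻¹ᵁ W ⊔ m.left ⁻¹ᵁ W' := m.left.preimage_sup
  have e₂ : m.left ⁻¹ᵁ (W ⊓ W') = m.left ⁻¹ᵁ W ⊓ m.left ⁻¹ᵁ W' := m.left.preimage_inf
  exact quasiIso_of_mvSq
    (mvSq_map_extend α hα (mvSq_resK Z ρ rfl rfl le_sup_left le_sup_right inf_le_left
      inf_le_right I hI))
    (mvSq_resK Z' ρ' e₁ e₂ (Scheme.Hom.preimage_mono _ le_sup_left)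
      (Scheme.Hom.preimage_mono _ le_sup_right) (Scheme.Hom.preimage_mono _ inf_le_left)
      (Scheme.Hom.preimage_mono _ inf_le_right) I hI)
    _ _ _ _
    (phiW_comm α m ρ ρ' h (psh I) _ _) (phiW_comm α m ρ ρ' h (psh I) _ _)
    (phiW_comm α m ρ ρ' h (psh I) _ _) (phiW_comm α m ρ ρ' h (psh I) _ _) h₁ h₂ h₃

theorem quasiIso_phiW (hα : α.Flat) (I : CochainComplex (MEt T) ℕ)
    (hI : ∀ n, Flq (I.X n).val) (hqs : IsQuasiSeparated (Set.univ : Set Z.left))
    (haff : ∀ W : Z.left.Opens, IsAffineOpen W → QuasiIso (phiW α m ρ ρ' h (psh I) W))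
    (W : Z.left.Opens) (hW : IsCompact (W : Set Z.left)) :
    QuasiIso (phiW α m ρ ρ' h (psh I) W) :=
  FBCCx.induction_le ⊤ hqs (fun W => QuasiIso (phiW α m ρ ρ' h (psh I) W))
    (fun U _ hU => haff U hU) (fun U V _ _ h₁ h₂ h₃ => quasiIso_phiW_sup α m ρ ρ' h hα I hI U V
      h₁ h₂ h₃) W le_top hW

end Step

section Push

theorem isIso_of_left {Z Z' : T.Etale} (m : Z' ⟶ Z) (h : IsIso m.left) : IsIso m := by
  have h1 : IsIso ((Scheme.Etale.forget T ⋙ Over.forget T).map m) := h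
  exact isIso_of_reflects_iso m (Scheme.Etale.forget T ⋙ Over.forget T)

instance isIso_inc_top (Z : T.Etale) : IsIso (inc Z ⊤) :=
  isIso_of_left _ (by
    change IsIso (⊤ : Z.left.Opens).ι
    rw [← Scheme.topIso_hom]
    infer_instance)

theorem bijective_map_of_isIso (P : PEt T) {Z Z' : T.Etale} (m : Z' ⟶ Z) [IsIso m] :
    Function.Bijective (P.presheaf.map m.op) :=
  ConcreteCategory.bijective_of_isIso (P.presheaf.map m.op)

/-- The structure map of the base change. -/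
noncomputable def rhoU (f : T ⟶ S) (U : S.Etale) : Γ(U.left, ⊤) →+* Γ(((EtCoh.bc f).obj U).left, ⊤) :=
  (pullback.fst U.hom f).appTop.hom

theorem compat_rhoU (f : T ⟶ S) {U V : S.Etale} (g : V ⟶ U) (a : Γ(U.left, ⊤)) :
    ((EtCoh.bc f).map g).left.appTop.hom (rhoU f U a) = rhoU f V (g.left.appTop.hom a) := by
  have h := (EtCoh.isPullback_bc_map f g).w
  exact congrArg (fun k => (Scheme.Hom.appTop k).hom a) h

theorem isBC_affine (f : T ⟶ S) {U V : S.Etale} (g : V ⟶ U) (hV : IsAffine V.left)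
    (hU : IsAffine U.left) (P : PEt T) (hP : IsQC P) (W : ((EtCoh.bc f).obj U).left.Opens)
    (hW : IsAffineOpen W) :
    IsBC (M := (ev (rhoW _ (rhoU f U) W)).obj P)
      (N := (ev (rhoW _ (rhoU f V) (((EtCoh.bc f).map g).left ⁻¹ᵁ W))).obj P)
      g.left.appTop.hom (P.presheaf.map (mW ((EtCoh.bc f).map g) W).op).hom := by
  have : IsAffine (W : Scheme.{u}) := hW
  have : IsAffine ((𝟭 Scheme.{u}).obj V.left) := hV
  have : IsAffine ((𝟭 Scheme.{u}).obj U.left) := hU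
  have sq : IsPullback (((EtCoh.bc f).map g).left ∣_ W)
      ((((EtCoh.bc f).map g).left ⁻¹ᵁ W).ι ≫ pullback.fst V.hom f)
      (W.ι ≫ pullback.fst U.hom f) g.left :=
    (isPullback_morphismRestrict ((EtCoh.bc f).map g).left W).paste_vert
      (EtCoh.isPullback_bc_map f g)
  have hW' : IsAffine ((((EtCoh.bc f).map g).left ⁻¹ᵁ W : Scheme.Opens _) : Scheme.{u}) :=
    .of_isPullback sq.flip
  have sq2 := isPushout_appTop_of_isPullback sq.flip
  have h := hP (mW ((EtCoh.bc f).map g) W) hW' hW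
  let : Module Γ(U.left, ⊤) (P.presheaf.obj (op (opn ((EtCoh.bc f).obj U) W))) :=
    ((ev (rhoW _ (rhoU f U) W)).obj P).isModule
  let : Module Γ((W : Scheme.{u}), ⊤) (P.presheaf.obj (op (opn ((EtCoh.bc f).obj U) W))) :=
    (P.obj (op (opn ((EtCoh.bc f).obj U) W))).isModule
  let : Module Γ(((((EtCoh.bc f).map g).left ⁻¹ᵁ W : Scheme.Opens _) : Scheme.{u}), ⊤)
      (P.presheaf.obj (op (opn ((EtCoh.bc f).obj V) (((EtCoh.bc f).map g).left ⁻¹ᵁ W)))) :=
    (P.obj (op (opn ((EtCoh.bc f).obj V) (((EtCoh.bc f).map g).left ⁻¹ᵁ W)))).isModule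
  let : Module Γ(V.left, ⊤) (P.presheaf.obj (op (opn ((EtCoh.bc f).obj V)
      (((EtCoh.bc f).map g).left ⁻¹ᵁ W)))) :=
    ((ev (rhoW _ (rhoU f V) (((EtCoh.bc f).map g).left ⁻¹ᵁ W))).obj P).isModule
  exact BaseChangePushout.isBC_of_isPushout (R := Γ(U.left, ⊤)) (S := Γ(V.left, ⊤))
    (A := Γ((W : Scheme.{u}), ⊤))
    (B := Γ(((((EtCoh.bc f).map g).left ⁻¹ᵁ W : Scheme.Opens _) : Scheme.{u}), ⊤))
    (M := P.presheaf.obj (op (opn ((EtCoh.bc f).obj U) W)))
    (M' := P.presheaf.obj (op (opn ((EtCoh.bc f).obj V) (((EtCoh.bc f).map g).left ⁻¹ᵁ W))))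
    sq2 (fun r x => rfl) (fun r x => rfl) h

end Push

section Push2

theorem isBC_bc (f : T ⟶ S) [QuasiCompact f] [QuasiSeparated f] (I : CochainComplex (MEt T) ℕ)
    (hI : ∀ n, Flq (I.X n).val) (haff : ∀ i, IsQC (cohPsh I i)) {U V : S.Etale} (g : V ⟶ U)
    (hV : IsAffine V.left) (hU : IsAffine U.left) (i : ℕ) :
    IsBC (M := (ev (rhoU f U)).obj (cohPsh I i)) (N := (ev (rhoU f V)).obj (cohPsh I i))
      g.left.appTop.hom ((cohPsh I i).presheaf.map ((EtCoh.bc f).map g).op).hom := by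
  have hα : g.left.appTop.hom.Flat := by
    have h1 : Etale g.left := Etbase.EtSite.etale_left g
    have h2 : Flat g.left := inferInstance
    have : IsAffine ((𝟭 Scheme.{u}).obj V.left) := hV
    have : IsAffine ((𝟭 Scheme.{u}).obj U.left) := hU
    exact HasRingHomProperty.appTop (P := @Flat) _ h2
  have key : ∀ W : ((EtCoh.bc f).obj U).left.Opens, IsCompact (W : Set ((EtCoh.bc f).obj U).left) →
      QuasiIso (phiW g.left.appTop.hom ((EtCoh.bc f).map g) (rhoU f U) (rhoU f V)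
        (compat_rhoU f g) (psh I) W) := by
    refine quasiIso_phiW _ _ _ _ _ hα I hI ?_ ?_
    · have h1 := (pullback.fst U.hom f).isQuasiSeparated_preimage
        (isAffineOpen_top U.left).isQuasiSeparated
      exact h1
    · intro W hW
      exact (quasiIso_phiK_iff _ hα _ _ _ _ _).2 fun i => isBC_affine f g hV hU _ (haff i) W hW
  have h2 := (quasiIso_phiK_iff _ hα _ _ _ _ _).1
    (key ⊤ ((pullback.fst U.hom f).isCompact_preimage (isAffineOpen_top U.left).isCompact)) i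
  refine (PullbackSections.isBC_congr_of_bijective (A := Γ(U.left, ⊤)) (B := Γ(V.left, ⊤))
    (A' := Γ(U.left, ⊤)) (B' := Γ(V.left, ⊤)) (φ := g.left.appTop.hom) (φ' := g.left.appTop.hom)
    (M := (ev (rhoU f U)).obj (cohPsh I i)) (N := (ev (rhoU f V)).obj (cohPsh I i))
    (M' := (ev (rhoW _ (rhoU f U) ⊤)).obj (cohPsh I i))
    (N' := (ev (rhoW _ (rhoU f V) (((EtCoh.bc f).map g).left ⁻¹ᵁ ⊤))).obj (cohPsh I i))
    (RingHom.id _) Function.bijective_id
    (RingHom.id _) Function.bijective_id ((cohPsh I i).presheaf.map (inc _ ⊤).op).hom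
    (bijective_map_of_isIso _ _) (fun a x => presheaf_map_smul _ _ _ x)
    ((cohPsh I i).presheaf.map (inc _ ⊤).op).hom (bijective_map_of_isIso _ _)
    (fun a x => presheaf_map_smul _ _ _ x) rfl ?_).2 h2
  have h3 := congrArg (fun k => (cohPsh I i).presheaf.map (Quiver.Hom.op k))
    (mW_inc ((EtCoh.bc f).map g) ⊤)
  have h4 : (cohPsh I i).presheaf.map (inc ((EtCoh.bc f).obj U) ⊤).op ≫
      (cohPsh I i).presheaf.map (mW ((EtCoh.bc f).map g) ⊤).op =
      (cohPsh I i).presheaf.map ((EtCoh.bc f).map g).op ≫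
        (cohPsh I i).presheaf.map (inc _ ⊤).op :=
    ((cohPsh I i).presheaf.map_comp _ _).symm.trans
      (h3.trans ((cohPsh I i).presheaf.map_comp _ _))
  exact congrArg AddCommGrpCat.Hom.hom h4.symm

/-- Direct image of presheaves of modules. -/
noncomputable def pushP (f : T ⟶ S) : PEt T ⥤ PEt S :=
  PresheafOfModules.pushforward.{u} (F := EtCoh.bc f) (R := (O T).obj) (bcR f).hom

instance preservesFiniteLimits_pushP (f : T ⟶ S) : PreservesFiniteLimits (pushP f) := by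
  have h1 : PreservesFiniteLimits (pushP f ⋙ PresheafOfModules.toPresheaf.{u} (O S).obj) := by
    refine preservesFiniteLimits_of_natIso (F := PresheafOfModules.toPresheaf.{u} (O T).obj ⋙
      (Functor.whiskeringLeft _ _ _).obj (EtCoh.bc f).op) ?_
    exact (PresheafOfModules.pushforwardCompToPresheaf.{u} (bcR f).hom).symm
  exact preservesFiniteLimits_of_reflects_of_preserves _ (PresheafOfModules.toPresheaf.{u} (O S).obj)

instance preservesFiniteColimits_pushP (f : T ⟶ S) : PreservesFiniteColimits (pushP f) := by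
  have h1 : PreservesFiniteColimits (pushP f ⋙ PresheafOfModules.toPresheaf.{u} (O S).obj) := by
    refine preservesFiniteColimits_of_natIso (F := PresheafOfModules.toPresheaf.{u} (O T).obj ⋙
      (Functor.whiskeringLeft _ _ _).obj (EtCoh.bc f).op) ?_
    exact (PresheafOfModules.pushforwardCompToPresheaf.{u} (bcR f).hom).symm
  exact preservesFiniteColimits_of_reflects_of_preserves _ (PresheafOfModules.toPresheaf.{u} (O S).obj)

instance additive_pushP (f : T ⟶ S) : (pushP f).Additive where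
  map_add := rfl

end Push2

section Final

theorem isBC_congr_iso {U V : S.Etale} {P Q : PEt S} (e : P ≅ Q) (g : V ⟶ U)
    (h : IsBC g.left.appTop.hom (P.presheaf.map g.op).hom) :
    IsBC g.left.appTop.hom (Q.presheaf.map g.op).hom := by
  have hb : ∀ W : S.Etale, Function.Bijective
      (((PresheafOfModules.toPresheaf _).map e.hom).app (op W)) := fun W =>
    ConcreteCategory.bijective_of_isIso
      (((PresheafOfModules.toPresheaf _).map e.hom).app (op W))
  refine (PullbackSections.isBC_congr_of_bijective (A := Γ(U.left, ⊤)) (B := Γ(V.left, ⊤))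
    (A' := Γ(U.left, ⊤)) (B' := Γ(V.left, ⊤)) (φ := g.left.appTop.hom) (φ' := g.left.appTop.hom)
    (M := P.presheaf.obj (op U)) (N := P.presheaf.obj (op V))
    (M' := Q.presheaf.obj (op U)) (N' := Q.presheaf.obj (op V))
    (RingHom.id _) Function.bijective_id
    (RingHom.id _) Function.bijective_id
    (((PresheafOfModules.toPresheaf _).map e.hom).app (op U)).hom
    (hb U) (fun a x => (e.hom.app (op U)).hom.map_smul a x)
    (((PresheafOfModules.toPresheaf _).map e.hom).app (op V)).hom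
    (hb V) (fun a x => (e.hom.app (op V)).hom.map_smul a x) rfl ?_).1 h
  exact congrArg AddCommGrpCat.Hom.hom
    (((PresheafOfModules.toPresheaf _).map e.hom).naturality g.op)

/-- The presheaf cohomology of the direct image. -/
noncomputable def cohPshPushIso (f : T ⟶ S) (I : CochainComplex (MEt T) ℕ) (i : ℕ) :
    cohPsh (mapK (pushM f) I) i ≅
      (pushP f).obj (cohPsh I i) :=
  ((psh I).sc i).mapHomologyIso (pushP f)

/-- Flat base change: the presheaf cohomology of the direct image of a complex of flasque étale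
`O`-modules with quasi-coherent presheaf cohomology is quasi-coherent. -/
theorem isQC_cohPsh_push (f : T ⟶ S) [QuasiCompact f] [QuasiSeparated f]
    (I : CochainComplex (MEt T) ℕ)
    (hI : ∀ n, Flq (I.X n).val) (haff : ∀ i, IsQC (cohPsh I i)) (i : ℕ) :
    IsQC (cohPsh (mapK (pushM f) I) i) := by
  intro V U g hV hU
  refine isBC_congr_iso (cohPshPushIso f I i).symm g ?_
  exact isBC_bc f I hI haff g hV hU i

end Final

end Groth.Agent.Desc.EtModFBC

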