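import Groth.Agent.Desc.EtModDefs
import Groth.Agent.Desc.EtAssocSt
import Groth.Agent.CohqA.PullbackQCoh
import Groth.Agent.Fdesc.LocGen

/-!
# Quasi-coherent étale `O`-modules are associated to their Zariski restriction
-/

set_option autoImplicit false

universe u

open CategoryTheory CategoryTheory.Limits AlgebraicGeometry TopologicalSpace Opposite

namespace Groth.Agent.Desc.EtModIsAssoc

open EtMod EtModFun EtModDefs EtSheafCrit EtAssocPb EtAssocPbU EtAssocSt
open Groth.Agent.CohqA.BaseChangeMod (IsBC)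
open Groth.Agent.CohqA.PullbackUniv (IsUniv)
open Groth.Agent.CohqA.PullbackAffine (secMap)
open Groth.Agent.CohqA.PullbackSections (pbUnit isUniv_pbUnit)
open Groth.Agent.CohqA.PullbackQCoh (pbSec isBC_pbSec)
open Groth.Agent.Fdesc.LocGen (res mkHom)

variable {S : Scheme.{u}}

/-- The morphism between open subobjects induced by `g`. -/
noncomputable def opnMap {U U' : S.Etale} (g : U ⟶ U') (V : U.left.Opens) (W : U'.left.Opens)
    (e : V ≤ g.left ⁻¹ᵁ W) : opn U V ⟶ opn U' W :=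
  MorphismProperty.Over.homMk (g.left.resLE W V e) (by
    change g.left.resLE W V e ≫ W.ι ≫ U'.hom = V.ι ≫ U.hom
    rw [Scheme.Hom.resLE_comp_ι_assoc]
    exact congrArg (fun k => V.ι ≫ k) (Over.w g.hom))

theorem opnMap_left {U U' : S.Etale} (g : U ⟶ U') (V : U.left.Opens) (W : U'.left.Opens)
    (e : V ≤ g.left ⁻¹ᵁ W) : (opnMap g V W e).left = g.left.resLE W V e := rfl

theorem opnMap_inc {U U' : S.Etale} (g : U ⟶ U') (V : U.left.Opens) (W : U'.left.Opens)
    (e : V ≤ g.left ⁻¹ᵁ W) : opnMap g V W e ≫ inc U' W = inc U V ≫ g :=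
  MorphismProperty.Over.Hom.ext (Scheme.Hom.resLE_comp_ι g.left e)

theorem hom_opn_ext {Z U : S.Etale} {W : U.left.Opens} {a b : Z ⟶ opn U W}
    (h : a ≫ inc U W = b ≫ inc U W) : a = b :=
  (mono_inc U W).right_cancellation _ _ h

variable (H : MEt S)

/-- Restriction of sections along `g`. -/
noncomputable def rs {U U' : S.Etale} (g : U ⟶ U') (V : U.left.Opens) (W : U'.left.Opens)
    (e : V ≤ g.left ⁻¹ᵁ W) : Γ((zar U').obj H, W) →+ Γ((zar U).obj H, V) :=
  (H.val.presheaf.map (opnMap g V W e).op).hom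

theorem resLE_topIso {X Y : Scheme.{u}} (f : X ⟶ Y) (W : Y.Opens) (V : X.Opens)
    (e : V ≤ f ⁻¹ᵁ W) : f.appLE W V e ≫ (Scheme.Opens.topIso V).inv =
      (Scheme.Opens.topIso W).inv ≫ (f.resLE W V e).appTop := by
  have h4 : (f.resLE W V e).appTop = W.topIso.hom ≫ f.appLE W V e ≫ V.topIso.inv :=
    f.resLE_app_top (U := W) (V := V) e
  rw [h4, Iso.inv_hom_id_assoc]

theorem rs_smul {U U' : S.Etale} (g : U ⟶ U') (V : U.left.Opens) (W : U'.left.Opens)
    (e : V ≤ g.left ⁻¹ᵁ W) (a : Γ(U'.left, W)) (x : Γ((zar U').obj H, W)) :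
    rs H g V W e (a • x) = g.left.appLE W V e a • rs H g V W e x := by
  have h1 := presheaf_map_smul H.val (opnMap g V W e) ((Scheme.Opens.topIso W).inv a) x
  have h2 : (opnMap g V W e).left.appTop ((Scheme.Opens.topIso W).inv a) =
      (Scheme.Opens.topIso V).inv (g.left.appLE W V e a) :=
    (congrArg (fun k => k.hom a) (resLE_topIso g.left W V e)).symm
  exact h1.trans (congrArg (fun t => t • H.val.presheaf.map (opnMap g V W e).op x) h2)

theorem rs_comp {U U' U'' : S.Etale} (g : U ⟶ U') (g' : U' ⟶ U'') (V : U.left.Opens)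
    (W : U'.left.Opens) (Z : U''.left.Opens) (e : V ≤ g.left ⁻¹ᵁ W) (e' : W ≤ g'.left ⁻¹ᵁ Z)
    (e'' : V ≤ (g ≫ g').left ⁻¹ᵁ Z) (x : Γ((zar U'').obj H, Z)) :
    rs H g V W e (rs H g' W Z e' x) = rs H (g ≫ g') V Z e'' x := by
  have h : opnMap g V W e ≫ opnMap g' W Z e' = opnMap (g ≫ g') V Z e'' := by
    apply hom_opn_ext
    rw [opnMap_inc]
    refine (Category.assoc _ _ _).trans ?_
    refine (congrArg (fun k => opnMap g V W e ≫ k) (opnMap_inc g' W Z e')).trans ?_
    refine (Category.assoc _ _ _).symm.trans ?_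
    refine (congrArg (fun k => k ≫ g') (opnMap_inc g V W e)).trans ?_
    exact Category.assoc _ _ _
  have h2 : H.val.presheaf.map (opnMap g' W Z e').op ≫ H.val.presheaf.map (opnMap g V W e).op =
      H.val.presheaf.map (opnMap (g ≫ g') V Z e'').op := by
    rw [← Functor.map_comp, ← op_comp, h]
  exact ConcreteCategory.congr_hom h2 x

theorem opnF_map_eq {U : S.Etale} {V W : U.left.Opens} (e : V ≤ W) :
    (opnF U).map (homOfLE e) = opnMap (𝟙 U) V W e := by
  apply hom_opn_ext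
  exact (opnF_map_inc U (homOfLE e)).trans
    ((opnMap_inc (𝟙 U) V W e).trans (Category.comp_id _)).symm

theorem zar_res {U : S.Etale} {V W : U.left.Opens} (e : V ≤ W) :
    (res ((zar U).obj H) e : Γ((zar U).obj H, W) →+ Γ((zar U).obj H, V)) =
      (H.val.presheaf.map ((opnF U).map (homOfLE e)).op).hom := rfl

theorem res_eq_rs {U : S.Etale} {V W : U.left.Opens} (e : V ≤ W) :
    (res ((zar U).obj H) e : Γ((zar U).obj H, W) →+ Γ((zar U).obj H, V)) = rs H (𝟙 U) V W e := by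
  refine (zar_res H e).trans ?_
  exact congrArg (fun k => (H.val.presheaf.map (Quiver.Hom.op k)).hom) (opnF_map_eq e)

theorem rs_congr {U U' : S.Etale} {g g' : U ⟶ U'} (h : g = g') (V : U.left.Opens)
    (W : U'.left.Opens) (e : V ≤ g.left ⁻¹ᵁ W) (e' : V ≤ g'.left ⁻¹ᵁ W)
    (x : Γ((zar U').obj H, W)) : rs H g V W e x = rs H g' V W e' x := by
  subst h
  rfl

theorem res_rs {U U' : S.Etale} (g : U ⟶ U') {V V' : U.left.Opens} (h : V' ≤ V)
    (W : U'.left.Opens) (e : V ≤ g.left ⁻¹ᵁ W) (x : Γ((zar U').obj H, W)) :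
    res ((zar U).obj H) h (rs H g V W e x) = rs H g V' W (h.trans e) x := by
  refine (DFunLike.congr_fun (res_eq_rs H h) (rs H g V W e x)).trans ?_
  refine (rs_comp H (𝟙 U) g V' V W h e (by rw [Category.id_comp]; exact h.trans e) x).trans ?_
  exact rs_congr H (Category.id_comp g) _ _ _ _ x

theorem rs_res {U U' : S.Etale} (g : U ⟶ U') {V : U.left.Opens}
    {W W' : U'.left.Opens} (h : W' ≤ W) (e : V ≤ g.left ⁻¹ᵁ W') (x : Γ((zar U').obj H, W)) :
    rs H g V W' e (res ((zar U').obj H) h x) = rs H g V W (e.trans (g.left.preimage_mono h)) x := by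
  refine (congrArg (rs H g V W' e) (DFunLike.congr_fun (res_eq_rs H h) x)).trans ?_
  refine (rs_comp H g (𝟙 U') V W' W e h
    (by rw [Category.comp_id]; exact e.trans (g.left.preimage_mono h)) x).trans ?_
  exact rs_congr H (Category.comp_id g) _ _ _ _ x

/-- The comparison morphism `H|_{U'} ⟶ g_* (H|_U)`. -/
noncomputable def bG {U U' : S.Etale} (g : U ⟶ U') :
    (zar U').obj H ⟶ (Scheme.Modules.pushforward g.left).obj ((zar U).obj H) :=
  mkHom (fun W => rs H g (g.left ⁻¹ᵁ W) W le_rfl)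
    (fun W a x => by
      refine (rs_smul H g (g.left ⁻¹ᵁ W) W le_rfl a x).trans ?_
      rw [Scheme.Hom.appLE_eq_app]
      rfl)
    (fun W W' h x => by
      refine (rs_res H g h le_rfl x).trans ?_
      exact (res_rs H g (g.left.preimage_mono h) W le_rfl x).symm)

theorem bG_app {U U' : S.Etale} (g : U ⟶ U') (W : U'.left.Opens) (x : Γ((zar U').obj H, W)) :
    (bG H g).app W x = rs H g (g.left ⁻¹ᵁ W) W le_rfl x := rfl

theorem secMap_bG {U U' : S.Etale} (g : U ⟶ U') (W : U'.left.Opens) (V : U.left.Opens)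
    (e : V ≤ g.left ⁻¹ᵁ W) (x : Γ((zar U').obj H, W)) :
    secMap g.left (bG H g) W V e x = rs H g V W e x :=
  res_rs H g e W le_rfl x

/-- The morphism to the final object. -/
noncomputable def toTop (U : S.Etale) : U ⟶ EtCoh.top S :=
  MorphismProperty.Over.homMk U.hom (Category.comp_id _)

theorem toTop_left (U : S.Etale) : (toTop U).left = U.hom := rfl

theorem toTop_comp {U U' : S.Etale} (g : U' ⟶ U) : g ≫ toTop U = toTop U' :=
  MorphismProperty.Over.Hom.ext (Over.w g.hom)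

/-- `H|_S ⟶ u_* (H|_U)`. -/
noncomputable def aU (U : S.Etale) : (zar (EtCoh.top S)).obj H ⟶
    (Scheme.Modules.pushforward U.hom).obj ((zar U).obj H) := bG H (toTop U)

theorem secMap_aU (U : S.Etale) (W : S.Opens) (V : U.left.Opens)
    (e : V ≤ U.hom ⁻¹ᵁ W) (x : Γ((zar (EtCoh.top S)).obj H, W)) :
    secMap U.hom (aU H U) W V e x = rs H (toTop U) V W e x :=
  res_rs H (toTop U) e W le_rfl x

theorem isBC_rs (hH : IsQC H.val) {U U' : S.Etale} (g : U ⟶ U') (V : U.left.Opens)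
    (W : U'.left.Opens) (e : V ≤ g.left ⁻¹ᵁ W) (hV : IsAffineOpen V) (hW : IsAffineOpen W) :
    IsBC (g.left.appLE W V e).hom (rs H g V W e) := by
  have h2 := hH (opnMap g V W e) hV hW
  let m : Γ((zar U').obj H, W) →+ H.val.presheaf.obj (op (opn U' W)) := AddMonoidHom.id _
  let n : Γ((zar U).obj H, V) →+ H.val.presheaf.obj (op (opn U V)) := AddMonoidHom.id _
  let α : Γ(U'.left, W) →+* Γ((opn U' W).left, ⊤) := W.topIso.inv.hom
  let β : Γ(U.left, V) →+* Γ((opn U V).left, ⊤) := V.topIso.inv.hom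
  refine (Groth.Agent.CohqA.PullbackSections.isBC_congr_of_bijective
    α (ConcreteCategory.bijective_of_isIso W.topIso.inv)
    β (ConcreteCategory.bijective_of_isIso V.topIso.inv)
    m Function.bijective_id (fun r x => rfl)
    n Function.bijective_id (fun r x => rfl)
    ?_ ?_).2 h2
  · ext x
    exact congr($(resLE_topIso g.left W V e) x)
  · rfl

section basis

variable {X Y : Scheme.{u}}

/-- The opens `V ⊂ X` which are affine and map into an affine open of `Y` form a basis. -/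
theorem isBasis_affine (f : X ⟶ Y) :
    Opens.IsBasis (Set.range (Subtype.val : { V : X.Opens //
      IsAffineOpen V ∧ ∃ W : Y.Opens, IsAffineOpen W ∧ V ≤ f ⁻¹ᵁ W } → X.Opens)) := by
  rw [Subtype.range_coe_subtype, Opens.isBasis_iff_nbhd]
  intro V x hx
  obtain ⟨_, ⟨W, hW, rfl⟩, hyW, -⟩ := Y.isBasis_affineOpens.exists_subset_of_mem_open
    (Set.mem_univ (f x)) isOpen_univ
  obtain ⟨_, ⟨V', hV', rfl⟩, hyV, hVU⟩ := X.isBasis_affineOpens.exists_subset_of_mem_open
    (show x ∈ (V ⊓ f ⁻¹ᵁ W : Set X) from ⟨hx, hyW⟩) (V ⊓ f ⁻¹ᵁ W).isOpen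
  exact ⟨V', ⟨hV', W, hW, fun y hy => (hVU hy).2⟩, hyV, fun y hy => (hVU hy).1⟩

end basis

theorem exists_theta (hH : IsQC H.val) (hN : ((zar (EtCoh.top S)).obj H).IsQuasicoherent)
    (U : S.Etale) :
    ∃ θ : (Scheme.Modules.pullback U.hom).obj ((zar (EtCoh.top S)).obj H) ⟶ (zar U).obj H,
      IsIso θ ∧ ∀ (W : S.Opens) (V : U.left.Opens) (e : V ≤ U.hom ⁻¹ᵁ W)
        (x : Γ((zar (EtCoh.top S)).obj H, W)),
        θ.app V (st ((zar (EtCoh.top S)).obj H) U.hom W V e x) = rs H (toTop U) V W e x := by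
  obtain ⟨θ, hθ⟩ := (isUniv_pbUnit U.hom ((zar (EtCoh.top S)).obj H) ((zar U).obj H)).2 (aU H U)
  dsimp only at hθ
  have key : ∀ (W : S.Opens) (V : U.left.Opens) (e : V ≤ U.hom ⁻¹ᵁ W)
        (x : Γ((zar (EtCoh.top S)).obj H, W)),
        θ.app V (st ((zar (EtCoh.top S)).obj H) U.hom W V e x) = rs H (toTop U) V W e x := by
    intro W V e x
    rw [← secMap_aU, ← hθ]
    exact (Groth.Agent.CohqA.PullbackQCoh.secMap_comp U.hom _ θ W V e x).symm
  refine ⟨θ, ?_, key⟩
  refine Groth.Agent.CohqA.PullbackQCoh.isIso_of_bijective_basis θ Subtype.val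
    (isBasis_affine U.hom) ?_
  rintro ⟨V, hV, W, hW, e⟩
  have h1 := @isBC_pbSec _ _ U.hom ((zar (EtCoh.top S)).obj H) hN W hW V hV e
  exact h1.bijective_of_isBC
    (isBC_rs H hH (toTop U) V W e hV hW)
    { (θ.app V).hom with map_smul' := fun r x => Scheme.Modules.Hom.app_smul θ r x } (key W V e)

theorem rs_toTop {U U' : S.Etale} (g : U' ⟶ U) (V' : U'.left.Opens) (V : U.left.Opens)
    (W : S.Opens) (e : V' ≤ g.left ⁻¹ᵁ V) (e' : V ≤ U.hom ⁻¹ᵁ W) (e'' : V' ≤ U'.hom ⁻¹ᵁ W)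
    (x : Γ((zar (EtCoh.top S)).obj H, W)) :
    rs H g V' V e (rs H (toTop U) V W e' x) = rs H (toTop U') V' W e'' x := by
  have h := toTop_comp g
  refine (rs_comp H g (toTop U) V' V W e e' (by rw [h]; exact e'') x).trans ?_
  exact rs_congr H h _ _ _ _ x

/-- The comparison maps are natural. -/
theorem theta_natural (N : S.Modules) (U U' : S.Etale) (g : U' ⟶ U)
    (s : ∀ W : S.Opens, Γ(N, W) →+ Γ((zar (EtCoh.top S)).obj H, W))
    (θ : (Scheme.Modules.pullback U.hom).obj N ⟶ (zar U).obj H)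
    (hθ : ∀ (W : S.Opens) (V : U.left.Opens) (e : V ≤ U.hom ⁻¹ᵁ W) (x : Γ(N, W)),
        θ.app V (st N U.hom W V e x) = rs H (toTop U) V W e (s W x))
    (θ' : (Scheme.Modules.pullback U'.hom).obj N ⟶ (zar U').obj H)
    (hθ' : ∀ (W : S.Opens) (V : U'.left.Opens) (e : V ≤ U'.hom ⁻¹ᵁ W) (x : Γ(N, W)),
        θ'.app V (st N U'.hom W V e x) = rs H (toTop U') V W e (s W x))
    (V : U.left.Opens) (V' : U'.left.Opens) (e : V' ≤ g.left ⁻¹ᵁ V)
    (y : Γ((Scheme.Modules.pullback U.hom).obj N, V)) :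
    rs H g V' V e (θ.app V y) =
      θ'.app V' (trLE N g.left U.hom U'.hom (Over.w g.hom) V V' e y) := by
  let ψ₁ : (Scheme.Modules.pullback U.hom).obj N ⟶
      (Scheme.Modules.pushforward g.left).obj ((zar U').obj H) := θ ≫ bG H g
  let α : (Scheme.Modules.pullback g.left).obj ((Scheme.Modules.pullback U.hom).obj N) ⟶
      (zar U').obj H :=
    ((Scheme.Modules.pullbackComp g.left U.hom).hom.app N ≫
      eqToHom (congrArg (fun w => (Scheme.Modules.pullback w).obj N) (Over.w g.hom))) ≫ θ'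
  let ψ₂ : (Scheme.Modules.pullback U.hom).obj N ⟶
      (Scheme.Modules.pushforward g.left).obj ((zar U').obj H) :=
    pbUnit g.left ((Scheme.Modules.pullback U.hom).obj N) ≫
      (Scheme.Modules.pushforward g.left).map α
  have h₁ : ∀ (V : U.left.Opens) (V' : U'.left.Opens) (e : V' ≤ g.left ⁻¹ᵁ V)
      (y : Γ((Scheme.Modules.pullback U.hom).obj N, V)),
      secMap g.left ψ₁ V V' e y = rs H g V' V e (θ.app V y) := by
    intro V V' e y
    exact res_rs H g e V le_rfl (θ.app V y)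
  have h₂ : ∀ (V : U.left.Opens) (V' : U'.left.Opens) (e : V' ≤ g.left ⁻¹ᵁ V)
      (y : Γ((Scheme.Modules.pullback U.hom).obj N, V)),
      secMap g.left ψ₂ V V' e y =
        θ'.app V' (trLE N g.left U.hom U'.hom (Over.w g.hom) V V' e y) := by
    intro V V' e y
    let β := (Scheme.Modules.pullbackComp g.left U.hom).hom.app N ≫
      eqToHom (congrArg (fun w => (Scheme.Modules.pullback w).obj N) (Over.w g.hom))
    have e1 : secMap g.left ψ₂ V V' e y =
        α.app V' (secMap g.left (pbUnit g.left ((Scheme.Modules.pullback U.hom).obj N))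
          V V' e y) :=
      Groth.Agent.CohqA.PullbackQCoh.secMap_comp g.left _ α V V' e y
    refine e1.trans ?_
    change θ'.app V' (β.app V' (res _ e (pbU g.left _ V y))) = θ'.app V' (res _ e (β.app _
      (pbU g.left _ V y)))
    rw [Groth.Agent.Fdesc.LocGen.app_res]
  have h : ψ₁ = ψ₂ := by
    apply (isUniv_pbUnit U.hom N ((Scheme.Modules.pushforward g.left).obj ((zar U').obj H))).1
    refine Scheme.Modules.hom_ext _ _ fun W => ?_
    ext x
    have hp : st N U.hom W (U.hom ⁻¹ᵁ W) le_rfl x = pbU U.hom N W x :=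
      Groth.Agent.CohqA.PullbackSections.map_self' _ _ _
    have he : g.left ⁻¹ᵁ (U.hom ⁻¹ᵁ W) ≤ U'.hom ⁻¹ᵁ W := by
      have := Over.w g.hom
      exact le_of_eq (congrArg (fun k : U'.left ⟶ S => k ⁻¹ᵁ W) this)
    have c₁ : secMap g.left ψ₁ (U.hom ⁻¹ᵁ W) (g.left ⁻¹ᵁ (U.hom ⁻¹ᵁ W)) le_rfl
        (pbU U.hom N W x) = secMap g.left ψ₂ (U.hom ⁻¹ᵁ W) (g.left ⁻¹ᵁ (U.hom ⁻¹ᵁ W)) le_rfl
        (pbU U.hom N W x) := by
      rw [h₁, h₂, ← hp, st_trLE_apply N g.left U.hom U'.hom (Over.w g.hom) W _ _ le_rfl le_rfl he,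
        hθ, hθ', rs_toTop H g _ _ _ _ _ he]
    have c₂ : ∀ ψ : (Scheme.Modules.pullback U.hom).obj N ⟶
        (Scheme.Modules.pushforward g.left).obj ((zar U').obj H),
        secMap g.left ψ (U.hom ⁻¹ᵁ W) (g.left ⁻¹ᵁ (U.hom ⁻¹ᵁ W)) le_rfl (pbU U.hom N W x) =
          ψ.app (U.hom ⁻¹ᵁ W) (pbU U.hom N W x) := fun ψ =>
      Groth.Agent.CohqA.PullbackSections.map_self' ((zar U').obj H) le_rfl
        (ψ.app (U.hom ⁻¹ᵁ W) (pbU U.hom N W x))
    rw [c₂, c₂] at c₁
    exact c₁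
  rw [← h₁, ← h₂, h]

theorem isIso_inc_top (U : S.Etale) : IsIso (inc U ⊤) := by
  obtain ⟨k, hk⟩ := exists_lift_opn ⊤ (𝟙 U) (fun _ => trivial)
  refine ⟨k, ?_, hk⟩
  apply hom_opn_ext
  refine (Category.assoc _ _ _).trans ?_
  refine (congrArg (fun l => inc U ⊤ ≫ l) hk).trans ?_
  exact (Category.comp_id _).trans (Category.id_comp _).symm

/-- A quasi-coherent étale `O`-module is the étale sheaf associated to its Zariski restriction. -/
theorem isAssoc (hH : IsQC H.val) (hN : ((zar (EtCoh.top S)).obj H).IsQuasicoherent) :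
    EtAssoc.IsAssoc ((zar (EtCoh.top S)).obj H) ((toAbEt S).obj H) := by
  choose θ hθ hθ' using exists_theta H hH hN
  have bij : ∀ U : S.Etale, Function.Bijective ((θ U).app ⊤) := fun U =>
    ConcreteCategory.bijective_of_isIso ((θ U).app ⊤)
  have hinc : ∀ U : S.Etale, Function.Bijective (H.val.presheaf.map (inc U ⊤).op) := by
    intro U
    have := isIso_inc_top U
    exact ConcreteCategory.bijective_of_isIso (H.val.presheaf.map (inc U ⊤).op)
  let e₁ : ∀ U : S.Etale, EtAssoc.obj ((zar (EtCoh.top S)).obj H) U ≃+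
      H.val.presheaf.obj (op (opn U ⊤)) := fun U =>
    AddEquiv.ofBijective ((θ U).app ⊤).hom (bij U)
  let e₂ : ∀ U : S.Etale, H.val.presheaf.obj (op U) ≃+ H.val.presheaf.obj (op (opn U ⊤)) :=
    fun U => AddEquiv.ofBijective (H.val.presheaf.map (inc U ⊤).op).hom (hinc U)
  have nat : ∀ (U U' : S.Etale) (g : U' ⟶ U) (y : EtAssoc.obj ((zar (EtCoh.top S)).obj H) U),
      rs H g ⊤ ⊤ le_rfl (e₁ U y) = e₁ U' (EtAssoc.resMap _ g y) := by
    intro U U' g y
    rw [resMap_eq_trLE]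
    exact theta_natural H ((zar (EtCoh.top S)).obj H) U U' g (fun W => AddMonoidHom.id _)
      (θ U) (hθ' U) (θ U') (hθ' U') ⊤ ⊤ le_rfl y
  have nat₂ : ∀ (U U' : S.Etale) (g : U' ⟶ U) (x : H.val.presheaf.obj (op U)),
      rs H g ⊤ ⊤ le_rfl (e₂ U x) = e₂ U' (H.val.presheaf.map g.op x) := by
    intro U U' g x
    have h := opnMap_inc g ⊤ ⊤ le_rfl
    have h2 : H.val.presheaf.map (inc U ⊤).op ≫ H.val.presheaf.map (opnMap g ⊤ ⊤ le_rfl).op =
        H.val.presheaf.map g.op ≫ H.val.presheaf.map (inc U' ⊤).op := by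
      rw [← Functor.map_comp, ← op_comp, h, op_comp, Functor.map_comp]
    exact ConcreteCategory.congr_hom h2 x
  have main : ∀ (U U' : S.Etale) (g : U' ⟶ U) (x : H.val.presheaf.obj (op U)),
      (e₁ U').symm (e₂ U' (H.val.presheaf.map g.op x)) =
        EtAssoc.resMap ((zar (EtCoh.top S)).obj H) g ((e₁ U).symm (e₂ U x)) := by
    intro U U' g x
    rw [AddEquiv.symm_apply_eq, ← nat₂]
    refine Eq.trans ?_ (nat U U' g ((e₁ U).symm (e₂ U x)))
    exact congrArg (rs H g ⊤ ⊤ le_rfl) ((e₁ U).apply_symm_apply _).symm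
  exact ⟨fun U => AddEquiv.ulift.trans (((e₂ U).trans (e₁ U).symm).trans AddEquiv.ulift.symm),
    fun U U' g s => main U U' g s.down⟩

end Groth.Agent.Desc.EtModIsAssoc
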