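import Groth.Agent.Desc.EtModIsAssoc
import Groth.Agent.Desc.EtAssocSheaf

/-!
# The étale `O`-module associated to a quasi-coherent module
-/

set_option autoImplicit false

universe u

open CategoryTheory CategoryTheory.Limits AlgebraicGeometry TopologicalSpace Opposite

namespace Groth.Agent.Desc.EtModP0v2

open EtMod EtModFun EtModDefs EtSheafCrit EtAssocPb EtAssocPbU EtAssocSt EtAssocBC
open Groth.Agent.CohqA.BaseChangeMod (IsBC)
open Groth.Agent.Fdesc.LocGen (res mkHom)

variable {S : Scheme.{u}} (F : S.Modules)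

theorem tr_smul {X Y : Scheme.{u}} (f : X ⟶ Y) (u : Y ⟶ S) (v : X ⟶ S) (h : f ≫ u = v)
    (a : Γ(Y, ⊤)) (x : ((Scheme.Modules.pullback u).obj F).presheaf.obj (op ⊤)) :
    tr F f u v h (a • x) = f.appTop a • tr F f u v h x := by
  have h1 : pb f ((Scheme.Modules.pullback u).obj F) (a • x) =
      f.appTop a • pb f ((Scheme.Modules.pullback u).obj F) x :=
    Scheme.Modules.Hom.app_smul
      ((Scheme.Modules.pullbackPushforwardAdjunction f).unit.app
        ((Scheme.Modules.pullback u).obj F)) a x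
  refine (congrArg (gs ((Scheme.Modules.pullbackComp f u).hom.app F ≫
      eqToHom (congrArg (fun w => (Scheme.Modules.pullback w).obj F) h))) h1).trans ?_
  exact Scheme.Modules.Hom.app_smul _ _ _

theorem resMap_smul {U U' : S.Etale} (g : U' ⟶ U) (a : Γ(U.left, ⊤)) (x : EtAssoc.obj F U) :
    EtAssoc.resMap F g (a • x) = g.left.appTop a • EtAssoc.resMap F g x := by
  rw [resMap_eq_tr]
  exact tr_smul F g.left U.hom U'.hom _ a x

noncomputable instance modInst (U : S.Etaleᵒᵖ) :
    Module ((O S).obj.obj U) ((assocPresheaf F).obj U) :=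
  inferInstanceAs (Module Γ(U.unop.left, ⊤) (EtAssoc.obj F U.unop))

/-- The presheaf of modules `U ↦ Γ(U, u^* F)`. -/
noncomputable def val : PEt S :=
  PresheafOfModules.ofPresheaf (R := (O S).obj) (assocPresheaf F)
    (fun _ _ f r m => resMap_smul F f.unop r m)

variable [F.IsQuasicoherent]

/-- The étale `O`-module associated to `F`. -/
noncomputable def mod : MEt S := ⟨val F, EtAssocSheaf.isSheaf_assocPresheaf F⟩

theorem isQC_val : IsQC (mod F).val := by
  intro V U g hV hU
  exact isBC_map F g hV hU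

theorem isAssoc_mod : EtAssoc.IsAssoc F ((toAbEt S).obj (mod F)) :=
  ⟨fun _ => AddEquiv.refl _, fun _ _ _ _ => rfl⟩

/-- The structure morphism of the open subobject `W` of the final object. -/
noncomputable def vv (S : Scheme.{u}) (W : S.Opens) : (W : Scheme.{u}) ⟶ S :=
  (opn (EtCoh.top S) W).hom

theorem vv_eq (W : S.Opens) : vv S W = W.ι := Category.comp_id _

theorem vv_le (W : S.Opens) : (⊤ : (W : Scheme.{u}).Opens) ≤ vv S W ⁻¹ᵁ W := by
  rw [vv_eq]
  exact (Scheme.Opens.ι_preimage_self W).ge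

theorem vv_appLE (W : S.Opens) : (vv S W).appLE W ⊤ (vv_le W) = W.topIso.inv := by
  have h : ∀ (v : (W : Scheme.{u}) ⟶ S) (e : (⊤ : (W : Scheme.{u}).Opens) ≤ v ⁻¹ᵁ W) (_ : v = W.ι),
      v.appLE W ⊤ e = W.topIso.inv := by
    rintro v e rfl
    rw [Scheme.Opens.ι_appLE, Scheme.Opens.topIso_inv]
    rfl
  exact h _ _ (vv_eq W)

/-- The Zariski restriction. -/
noncomputable def zmod : S.Modules := (zar (EtCoh.top S)).obj (mod F)

/-- The comparison map on sections. -/
noncomputable def cmp (W : S.Opens) : Γ(F, W) →+ Γ(zmod F, W) :=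
  (st F (vv S W) W ⊤ (vv_le W)).hom

theorem cmp_smul (W : S.Opens) (a : Γ(S, W)) (x : Γ(F, W)) : cmp F W (a • x) = a • cmp F W x := by
  have h := st_smul F (vv S W) W ⊤ (vv_le W) a x
  rw [vv_appLE] at h
  exact h

theorem cmp_res {W W' : S.Opens} (h : W' ≤ W) (x : Γ(F, W)) :
    cmp F W' (res F h x) = res (zmod F) h (cmp F W x) := by
  have e : (⊤ : (W' : Scheme.{u}).Opens) ≤ vv S W' ⁻¹ᵁ W :=
    (vv_le W').trans ((vv S W').preimage_mono h)
  have h1 : cmp F W' (res F h x) = st F (vv S W') W ⊤ e x :=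
    res_st_apply F (vv S W') h ⊤ (vv_le W') x
  have h2 := resMap_eq_trLE F ((opnF (EtCoh.top S)).map (homOfLE h))
  have h3 := st_trLE_apply F ((opnF (EtCoh.top S)).map (homOfLE h)).left (vv S W) (vv S W')
    (Over.w ((opnF (EtCoh.top S)).map (homOfLE h)).hom) W ⊤ ⊤ (vv_le W) le_rfl e x
  refine h1.trans (h3.symm.trans ?_)
  exact (congrArg (fun k => k (st F (vv S W) W ⊤ (vv_le W) x)) h2).symm

theorem cmp_bijective (W : S.Opens) : Function.Bijective (cmp F W) :=
  bijective_st F W (vv S W) (vv_eq W) (vv_le W)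

/-- The comparison `F ⟶ F_et|_S`. -/
noncomputable def cmpHom : F ⟶ zmod F :=
  mkHom (cmp F) (cmp_smul F) (fun _ _ h x => cmp_res F h x)

theorem isIso_cmpHom : IsIso (cmpHom F) := by
  refine Groth.Agent.CohqA.PullbackQCoh.isIso_of_bijective_basis (ι := S.Opens) (cmpHom F) id ?_
    (fun W => cmp_bijective F W)
  rw [Set.range_id]
  exact Opens.isBasis_iff_nbhd.2 fun {U x} hx => ⟨U, trivial, hx, le_rfl⟩

/-- P0: the associated étale `O`-module exists. -/
theorem exists_assoc : ∃ M : MEt S, IsQC M.val ∧ Nonempty ((zar (EtCoh.top S)).obj M ≅ F) ∧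
    EtAssoc.IsAssoc F ((toAbEt S).obj M) := by
  have := isIso_cmpHom F
  exact ⟨mod F, isQC_val F, ⟨(asIso (cmpHom F)).symm⟩, isAssoc_mod F⟩

end Groth.Agent.Desc.EtModP0v2
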