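import Groth.Agent.Desc.EtModShf
import Groth.Agent.Desc.EtModFBC
import Groth.Agent.Ega2.TensHom

/-!
# Cohomology of a complex of étale modules whose presheaf cohomology is quasi-coherent

* `isQC_homology` : if the presheaf cohomology `U ↦ H^i(K(U))` is quasi-coherent, so is `H^i(K)`, and the
  restriction to the Zariski site commutes with taking `H^i`.
-/

set_option autoImplicit false

universe u v u₁

open CategoryTheory CategoryTheory.Limits AlgebraicGeometry Opposite TopologicalSpace

namespace Groth.Agent.Desc.EtModP6a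

open Groth.Agent.Desc.EtMod Groth.Agent.Desc.EtModFun Groth.Agent.Desc.EtModDefs
open Groth.Agent.Desc.EtModShf
open Groth.Agent.CohqA.BaseChangeMod (IsBC)
open Groth.Agent.CohqA

section General

variable {C : Type u₁} [Category.{v} C] {J : GrothendieckTopology C}
  [HasSheafify J AddCommGrpCat.{u}] [J.WEqualsLocallyBijective AddCommGrpCat.{u}]
  (R : Sheaf J RingCat.{u})

/-- Sheafification of presheaves of modules. -/
noncomputable abbrev shf : PresheafOfModules.{u} R.obj ⥤ SheafOfModules.{u} R :=
  PresheafOfModules.sheafification.{u} (𝟙 R.obj)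

/-- Sheafification of the presheaf underlying a sheaf of modules. -/
noncomputable def shfForget : SheafOfModules.forget R ⋙ shf R ≅ 𝟭 (SheafOfModules.{u} R) :=
  (asIso (PresheafOfModules.sheafificationAdjunction.{u} (𝟙 R.obj)).counit : _)

/-- Presheaf cohomology. -/
noncomputable abbrev psh (K : CochainComplex (SheafOfModules.{u} R) ℕ) :
    CochainComplex (PresheafOfModules.{u} R.obj) ℕ :=
  ((SheafOfModules.forget R).mapHomologicalComplex (ComplexShape.up ℕ)).obj K

instance : (shf R).Additive := by
  have : PreservesFiniteLimits (shf R) := inferInstance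
  exact Functor.additive_of_preserves_binary_products _

/-- The cohomology of a complex of sheaves of modules is the sheafification of its presheaf cohomology. -/
noncomputable def homologyIso (K : CochainComplex (SheafOfModules.{u} R) ℕ) (i : ℕ) :
    K.homology i ≅ (shf R).obj ((psh R K).homology i) := by
  let e1 : ((shf R).mapHomologicalComplex (ComplexShape.up ℕ)).obj (psh R K) ≅ K :=
    HomologicalComplex.Hom.isoOfComponents (fun n => (shfForget R).app (K.X n))
      (fun i j _ => ((shfForget R).hom.naturality (K.d i j)).symm)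
  exact (HomologicalComplex.homologyMapIso e1 i).symm ≪≫
    ((psh R K).sc i).mapHomologyIso (shf R)

end General

variable {X S : Scheme.{u}}

/-- The unit of the sheafification. -/
noncomputable def unitE (P : PEt X) : P ⟶ ((shf (O X)).obj P).val :=
  PresheafOfModules.sheafificationHomEquiv (𝟙 (O X).obj) (𝟙 _)

theorem toPresheaf_unitE (P : PEt X) : (PresheafOfModules.toPresheaf _).map (unitE P) =
    toSheafify X.smallEtaleTopology P.presheaf := by
  have h := PresheafOfModules.toPresheaf_map_sheafificationHomEquiv_def (𝟙 (O X).obj)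
    (𝟙 ((shf (O X)).obj P))
  refine h.trans ?_
  exact (congrArg (fun k => toSheafify X.smallEtaleTopology P.presheaf ≫ k)
    ((PresheafOfModules.toPresheaf _).map_id _)).trans (Category.comp_id _)

theorem bijective_unitE {P : PEt X} (hP : IsQC P) (U : X.Etale) (hU : IsAffine U.left) :
    Function.Bijective (((PresheafOfModules.toPresheaf _).map (unitE P)).app (op U)) := by
  rw [toPresheaf_unitE]
  exact bijective_of_isQC hP ((presheafToSheaf X.smallEtaleTopology AddCommGrpCat.{u}).obj P.presheaf)
    (toSheafify X.smallEtaleTopology P.presheaf) U hU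

theorem isQC_of_bijective {P Q : PEt X} (φ : P ⟶ Q) (hP : IsQC P)
    (hφ : ∀ U : X.Etale, IsAffine U.left →
      Function.Bijective (((PresheafOfModules.toPresheaf _).map φ).app (op U))) : IsQC Q := by
  intro V U g hV hU
  refine (PullbackSections.isBC_congr_of_bijective (A := Γ(U.left, ⊤)) (B := Γ(V.left, ⊤))
    (A' := Γ(U.left, ⊤)) (B' := Γ(V.left, ⊤)) (φ := g.left.appTop.hom) (φ' := g.left.appTop.hom)
    (M := P.presheaf.obj (op U)) (N := P.presheaf.obj (op V))
    (M' := Q.presheaf.obj (op U)) (N' := Q.presheaf.obj (op V))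
    (RingHom.id _) Function.bijective_id
    (RingHom.id _) Function.bijective_id
    (((PresheafOfModules.toPresheaf _).map φ).app (op U)).hom
    (hφ U hU) (fun a x => (φ.app (op U)).hom.map_smul a x)
    (((PresheafOfModules.toPresheaf _).map φ).app (op V)).hom
    (hφ V hV) (fun a x => (φ.app (op V)).hom.map_smul a x) rfl ?_).1 (hP g hV hU)
  exact congrArg AddCommGrpCat.Hom.hom
    (((PresheafOfModules.toPresheaf _).map φ).naturality g.op)

theorem isQC_shf {P : PEt X} (hP : IsQC P) : IsQC ((shf (O X)).obj P).val :=
  isQC_of_bijective (unitE P) hP fun U hU => bijective_unitE hP U hU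

theorem isQC_congr {P Q : PEt X} (e : P ≅ Q) (hP : IsQC P) : IsQC Q :=
  isQC_of_bijective e.hom hP fun U _ => ConcreteCategory.bijective_of_isIso
      (((PresheafOfModules.toPresheaf _).map e.hom).app (op U))

theorem isQC_homology_val (K : CochainComplex (MEt X) ℕ) (i : ℕ) (hK : IsQC (cohPsh K i)) :
    IsQC (K.homology i).val :=
  isQC_congr ((SheafOfModules.forget (O X)).mapIso (homologyIso (O X) K i).symm) (isQC_shf hK)

section Zariski

theorem isLocallyInjective_of_affine {Y : Scheme.{u}} {P Q : Y.Opensᵒᵖ ⥤ AddCommGrpCat.{u}}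
    (φ : P ⟶ Q) (h : ∀ V : Y.Opens, IsAffineOpen V → Function.Injective (φ.app (op V))) :
    Presheaf.IsLocallyInjective (Opens.grothendieckTopology Y) φ where
  equalizerSieve_mem {W} x y hxy p hp := by
    obtain ⟨V, hV, hpV, hVW⟩ := exists_isAffineOpen_mem_and_subset (U := W.unop) hp
    refine ⟨V, homOfLE hVW, ?_, hpV⟩
    change P.map (homOfLE hVW).op x = P.map (homOfLE hVW).op y
    apply h V hV
    have hn := fun z => ConcreteCategory.congr_hom (φ.naturality
      (homOfLE hVW : V ⟶ W.unop).op) z
    exact (hn x).trans ((congrArg _ hxy).trans (hn y).symm)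

theorem isLocallySurjective_of_affine {Y : Scheme.{u}} {P Q : Y.Opensᵒᵖ ⥤ AddCommGrpCat.{u}}
    (φ : P ⟶ Q) (h : ∀ V : Y.Opens, IsAffineOpen V → Function.Surjective (φ.app (op V))) :
    Presheaf.IsLocallySurjective (Opens.grothendieckTopology Y) φ where
  imageSieve_mem {W} s p hp := by
    obtain ⟨V, hV, hpV, hVW⟩ := exists_isAffineOpen_mem_and_subset (U := W) hp
    exact ⟨V, homOfLE hVW, h V hV _, hpV⟩

/-- Restriction of presheaves of étale modules to the Zariski site. -/
noncomputable def zarP (U : X.Etale) : PEt X ⥤ PresheafOfModules.{u} U.left.ringCatSheaf.obj :=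
  PresheafOfModules.pushforward.{u} (F := opnF U) (R := (O X).obj) (opnR U).hom

instance preservesFiniteLimits_zarP (U : X.Etale) : PreservesFiniteLimits (zarP U) := by
  have h1 : PreservesFiniteLimits (zarP U ⋙
      PresheafOfModules.toPresheaf.{u} U.left.ringCatSheaf.obj) := by
    refine preservesFiniteLimits_of_natIso (F := PresheafOfModules.toPresheaf.{u} (O X).obj ⋙
      (Functor.whiskeringLeft _ _ _).obj (opnF U).op) ?_
    exact (PresheafOfModules.pushforwardCompToPresheaf.{u} (opnR U).hom).symm
  exact preservesFiniteLimits_of_reflects_of_preserves _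
    (PresheafOfModules.toPresheaf.{u} U.left.ringCatSheaf.obj)

instance preservesFiniteColimits_zarP (U : X.Etale) : PreservesFiniteColimits (zarP U) := by
  have h1 : PreservesFiniteColimits (zarP U ⋙
      PresheafOfModules.toPresheaf.{u} U.left.ringCatSheaf.obj) := by
    refine preservesFiniteColimits_of_natIso (F := PresheafOfModules.toPresheaf.{u} (O X).obj ⋙
      (Functor.whiskeringLeft _ _ _).obj (opnF U).op) ?_
    exact (PresheafOfModules.pushforwardCompToPresheaf.{u} (opnR U).hom).symm
  exact preservesFiniteColimits_of_reflects_of_preserves _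
    (PresheafOfModules.toPresheaf.{u} U.left.ringCatSheaf.obj)

instance additive_zarP (U : X.Etale) : (zarP U).Additive where
  map_add := rfl

/-- The sheafification of the restriction of a quasi-coherent presheaf is the restriction of its
sheafification. -/
theorem nonempty_shf_zarP {P : PEt X} (hP : IsQC P) (U : X.Etale) :
    Nonempty ((shf U.left.ringCatSheaf).obj ((zarP U).obj P) ≅ (zar U).obj ((shf (O X)).obj P)) := by
  let ψ : (zarP U).obj P ⟶ ((zar U).obj ((shf (O X)).obj P)).val := (zarP U).map (unitE P)
  have hb : ∀ V : U.left.Opens, IsAffineOpen V →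
      Function.Bijective (((PresheafOfModules.toPresheaf _).map ψ).app (op V)) := fun V hV =>
    bijective_unitE hP (EtSheafCrit.opn U V) hV
  have h := Ega2.TensHom.isIso_sheafificationHomEquiv_symm (J := Opens.grothendieckTopology U.left)
    (𝟙 U.left.ringCatSheaf.obj) (P := (zarP U).obj P) (F := (zar U).obj ((shf (O X)).obj P)) ψ
    (isLocallyInjective_of_affine _ fun V hV => (hb V hV).1)
    (isLocallySurjective_of_affine _ fun V hV => (hb V hV).2)
  exact ⟨asIso ((PresheafOfModules.sheafificationHomEquiv (𝟙 U.left.ringCatSheaf.obj)).symm ψ)⟩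

/-- Restriction to the Zariski site commutes with cohomology when the presheaf cohomology is quasi-coherent. -/
theorem nonempty_zar_homology (K : CochainComplex (MEt X) ℕ) (i : ℕ) (hK : IsQC (cohPsh K i))
    (U : X.Etale) : Nonempty ((zar U).obj (K.homology i) ≅ (mapK (zar U) K).homology i) := by
  obtain ⟨e⟩ := nonempty_shf_zarP hK U
  let Z : CochainComplex U.left.Modules ℕ := mapK (zar U) K
  let e1 : psh U.left.ringCatSheaf Z ≅
      ((zarP U).mapHomologicalComplex (ComplexShape.up ℕ)).obj (psh (O X) K) :=
    HomologicalComplex.Hom.isoOfComponents (fun n => Iso.refl _)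
      (fun i j _ => (Category.id_comp _).trans (Category.comp_id _).symm)
  exact ⟨(zar U).mapIso (homologyIso (O X) K i) ≪≫ e.symm ≪≫
    (shf U.left.ringCatSheaf).mapIso ((HomologicalComplex.homologyMapIso e1 i ≪≫
      ((psh (O X) K).sc i).mapHomologyIso (zarP U)).symm) ≪≫
    (homologyIso U.left.ringCatSheaf Z i).symm⟩

end Zariski

/-- P6a -/
theorem isQC_homology (K : CochainComplex (MEt S) ℕ) (i : ℕ) (hK : IsQC (cohPsh K i)) :
    IsQC (K.homology i).val ∧
      Nonempty ((zar (EtCoh.top S)).obj (K.homology i) ≅ (mapK (zar (EtCoh.top S)) K).homology i) :=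
  ⟨isQC_homology_val K i hK, nonempty_zar_homology K i hK _⟩

end Groth.Agent.Desc.EtModP6a
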