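import Groth.Agent.Desc.EtModDefs
import Mathlib.Algebra.Category.ModuleCat.Sheaf.PushforwardContinuous

/-!
# Restriction to the Zariski site commutes with direct images

`pushZarIso f : zar (top T) ⋙ Scheme.Modules.pushforward f ≅ pushM f ⋙ zar (top S)`.
-/

set_option autoImplicit false
universe u

open CategoryTheory CategoryTheory.Limits AlgebraicGeometry Opposite TopologicalSpace

namespace Groth.Agent.Desc.EtModPushZar

open EtMod EtModFun EtModDefs EtSheafCrit

variable {T S : Scheme.{u}}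

/-- Morphisms to an object which is mono over the base are unique. -/
theorem subsingleton_hom {A B : T.Etale} (h : Mono B.hom) : Subsingleton (A ⟶ B) := by
  refine ⟨fun g k => ?_⟩
  apply MorphismProperty.Over.Hom.ext
  apply (cancel_mono B.hom).1
  have e1 : g.left ≫ B.hom = A.hom := Over.w g.hom
  have e2 : k.left ≫ B.hom = A.hom := Over.w k.hom
  exact e1.trans e2.symm

section scheme

variable (f : T ⟶ S) (V : S.Opens)

/-- `V ×_S T`. -/
noncomputable abbrev P : Scheme.{u} := pullback (V.ι ≫ 𝟙 S) f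

theorem condition : pullback.fst (V.ι ≫ 𝟙 S) f ≫ V.ι = pullback.snd (V.ι ≫ 𝟙 S) f ≫ f := by
  have h := pullback.condition (f := V.ι ≫ 𝟙 S) (g := f)
  rwa [Category.comp_id] at h

theorem range_snd_le : Set.range (pullback.snd (V.ι ≫ 𝟙 S) f) ⊆ Set.range (f ⁻¹ᵁ V).ι := by
  rintro _ ⟨z, rfl⟩
  refine (Scheme.Opens.range_ι (f ⁻¹ᵁ V)).ge ?_
  have h1 : f (pullback.snd (V.ι ≫ 𝟙 S) f z) = V.ι (pullback.fst (V.ι ≫ 𝟙 S) f z) := by
    rw [← Scheme.Hom.comp_apply, ← Scheme.Hom.comp_apply, condition]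
  change f (pullback.snd (V.ι ≫ 𝟙 S) f z) ∈ V
  rw [h1]
  exact (pullback.fst (V.ι ≫ 𝟙 S) f z).2

/-- `V ×_S T ⟶ f⁻¹ V`. -/
noncomputable def aS : P f V ⟶ (f ⁻¹ᵁ V : Scheme.{u}) :=
  IsOpenImmersion.lift (f ⁻¹ᵁ V).ι (pullback.snd (V.ι ≫ 𝟙 S) f) (range_snd_le f V)

theorem aS_ι : aS f V ≫ (f ⁻¹ᵁ V).ι = pullback.snd (V.ι ≫ 𝟙 S) f :=
  IsOpenImmersion.lift_fac _ _ _

theorem aS_restrict : aS f V ≫ (f ∣_ V) = pullback.fst (V.ι ≫ 𝟙 S) f := by
  rw [← cancel_mono V.ι, Category.assoc, morphismRestrict_ι, condition, ← aS_ι, Category.assoc]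

/-- `f⁻¹ V ⟶ V ×_S T`. -/
noncomputable def bS : (f ⁻¹ᵁ V : Scheme.{u}) ⟶ P f V :=
  pullback.lift (f := V.ι ≫ 𝟙 S) (g := f) (f ∣_ V) (f ⁻¹ᵁ V).ι (by
      rw [Category.comp_id, morphismRestrict_ι])

theorem bS_snd : bS f V ≫ pullback.snd (V.ι ≫ 𝟙 S) f = (f ⁻¹ᵁ V).ι :=
  pullback.lift_snd _ _ _

theorem mono_snd : Mono (pullback.snd (V.ι ≫ 𝟙 S) f) := by
  have : Mono (V.ι ≫ 𝟙 S) := by rw [Category.comp_id]; infer_instance
  infer_instance

theorem topIso_comm : f.app V ≫ (Scheme.Opens.topIso (f ⁻¹ᵁ V)).inv =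
    (Scheme.Opens.topIso V).inv ≫ (f ∣_ V).appTop := by
  rw [Scheme.Opens.topIso_inv, Scheme.Opens.topIso_inv, morphismRestrict_appTop]
  have key : ∀ (W : S.Opens) (h : W ≤ V) (W' : T.Opens) (h1 : W' ≤ f ⁻¹ᵁ W) (h2 : W' ≤ f ⁻¹ᵁ V),
      f.app V ≫ T.presheaf.map (homOfLE h2).op =
        S.presheaf.map (homOfLE h).op ≫ f.app W ≫ T.presheaf.map (homOfLE h1).op := by
    intro W h W' h1 h2
    rw [Scheme.Hom.naturality_assoc, ← Functor.map_comp]
    rfl
  exact key (V.ι ''ᵁ ⊤) V.ι_image_top.le ((f ⁻¹ᵁ V).ι ''ᵁ ⊤)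
    (image_morphismRestrict_preimage f V ⊤).le (f ⁻¹ᵁ V).ι_image_top.le

theorem ring_comm : f.app V ≫ (Scheme.Opens.topIso (f ⁻¹ᵁ V)).inv ≫ (aS f V).appTop =
    (Scheme.Opens.topIso V).inv ≫ (pullback.fst (V.ι ≫ 𝟙 S) f).appTop := by
  rw [← aS_restrict, Scheme.Hom.comp_appTop]
  rw [← Category.assoc, ← Category.assoc]
  congr 1
  exact topIso_comm f V

end scheme

variable (f : T ⟶ S)

theorem mono_opn (W : T.Opens) : Mono (opn (EtCoh.top T) W).hom := by
  change Mono (W.ι ≫ 𝟙 T)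
  rw [Category.comp_id]
  infer_instance

theorem mono_bc (V : S.Opens) : Mono ((EtCoh.bc f).obj (opn (EtCoh.top S) V)).hom :=
  mono_snd f V

/-- `V ×_S T ⟶ f⁻¹ V`. -/
noncomputable def alpha (V : S.Opens) :
    (EtCoh.bc f).obj (opn (EtCoh.top S) V) ⟶ opn (EtCoh.top T) (f ⁻¹ᵁ V) :=
  MorphismProperty.Over.homMk (aS f V) (by
    refine Eq.trans ?_ (aS_ι f V)
    exact congrArg (fun t => aS f V ≫ t) (Category.comp_id _))

/-- `f⁻¹ V ⟶ V ×_S T`. -/
noncomputable def beta (V : S.Opens) :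
    opn (EtCoh.top T) (f ⁻¹ᵁ V) ⟶ (EtCoh.bc f).obj (opn (EtCoh.top S) V) :=
  MorphismProperty.Over.homMk (bS f V) ((bS_snd f V).trans (Category.comp_id _).symm)

/-- Opens of `X` as objects of the small étale site. -/
noncomputable def opnT (X : Scheme.{u}) : X.Opens ⥤ X.Etale := opnF (EtCoh.top X)

instance isContinuous_opnT (X : Scheme.{u}) :
    (opnT X).IsContinuous (Opens.grothendieckTopology X) X.smallEtaleTopology :=
  isContinuous_opnF (EtCoh.top X)

/-- The isomorphism of sheaves of rings. -/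
noncomputable def opnRT (X : Scheme.{u}) : X.ringCatSheaf ⟶
    ((opnT X).sheafPushforwardContinuous RingCat.{u} (Opens.grothendieckTopology X)
      X.smallEtaleTopology).obj (O X) := opnR (EtCoh.top X)

/-- Restriction to the Zariski site. -/
noncomputable def zarT (X : Scheme.{u}) : MEt X ⥤ X.Modules :=
  SheafOfModules.pushforward (opnRT X)

theorem zarT_eq (X : Scheme.{u}) : zarT X = zar (EtCoh.top X) := rfl

/-- The comparison of the two functors on opens. -/
noncomputable def opnIso : opnT S ⋙ EtCoh.bc f ≅ Opens.map f.base ⋙ opnT T :=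
  NatIso.ofComponents (fun V => ⟨alpha f V, beta f V,
      (subsingleton_hom (mono_bc f V)).elim _ _, (subsingleton_hom (mono_opn (f ⁻¹ᵁ V))).elim _ _⟩)
    (fun _ => (subsingleton_hom (mono_opn _)).elim _ _)

instance isContinuous_comp₁ : (opnT S ⋙ EtCoh.bc f).IsContinuous
    (Opens.grothendieckTopology S) T.smallEtaleTopology :=
  Functor.isContinuous_comp _ _ _ S.smallEtaleTopology _

instance isContinuous_comp₂ : (Opens.map f.base ⋙ opnT T).IsContinuous
    (Opens.grothendieckTopology S) T.smallEtaleTopology :=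
  Functor.isContinuous_comp _ _ _ (Opens.grothendieckTopology T) _

theorem ring_he : (f.toRingCatSheafHom ≫
      ((Opens.map f.base).sheafPushforwardContinuous RingCat.{u} (Opens.grothendieckTopology S)
        (Opens.grothendieckTopology T)).map (opnRT T)) ≫
      (Functor.sheafPushforwardContinuousNatTrans (opnIso f).hom RingCat.{u}
        (Opens.grothendieckTopology S) T.smallEtaleTopology).app (O T) =
    opnRT S ≫ ((opnT S).sheafPushforwardContinuous RingCat.{u}
      (Opens.grothendieckTopology S) S.smallEtaleTopology).map (bcR f) := by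
  refine Sheaf.hom_ext (NatTrans.ext (funext fun V => ?_))
  refine RingCat.hom_ext (RingHom.ext fun r => ?_)
  exact ConcreteCategory.congr_hom (ring_comm f V.unop) r

/-- Restriction to the Zariski site commutes with direct images. -/
noncomputable def pushZarIsoT :
    zarT T ⋙ Scheme.Modules.pushforward f ≅ pushM f ⋙ zarT S :=
  SheafOfModules.pushforwardComp f.toRingCatSheafHom (opnRT T) ≪≫
    SheafOfModules.pushforwardCongr₂ _ (opnIso f) (ring_he f) ≪≫
    (SheafOfModules.pushforwardComp (opnRT S) (bcR f)).symm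

/-- Restriction to the Zariski site commutes with direct images. -/
noncomputable def pushZarIso :
    zar (EtCoh.top T) ⋙ Scheme.Modules.pushforward f ≅ pushM f ⋙ zar (EtCoh.top S) :=
  pushZarIsoT f

end Groth.Agent.Desc.EtModPushZar
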