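import Groth.Agent.Desc.EtModSec
import Groth.Agent.Desc.AcycRes
import Groth.Agent.PerfB.ModExact
import Groth.Agent.FormalA.RpushFlasque
import Mathlib.CategoryTheory.Abelian.Injective.Resolution

/-!
# Zariski higher direct images from an injective resolution by étale `O`-modules
-/

set_option autoImplicit false
universe u

open CategoryTheory CategoryTheory.Limits AlgebraicGeometry Opposite TopologicalSpace

namespace Groth.Agent.Desc.EtModRpushZar

open EtMod EtModFun EtModDefs EtModSec EtModPushZar EtSheafCrit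
open Groth.Agent.PerfB.ModExact

variable {T S : Scheme.{u}}

instance additive_zarT : (zarT T).Additive where
  map_add := rfl

/-- Sections over `U` on étale modules. -/
noncomputable abbrev evM (U : T.Etale) : MEt T ⥤ AddCommGrpCat.{u} :=
  SheafOfModules.forget (O T) ⋙ evU U

instance preservesFiniteLimits_evM (U : T.Etale) : PreservesFiniteLimits (evM U) :=
  comp_preservesFiniteLimits _ _

instance additive_evM (U : T.Etale) : (evM U).Additive where
  map_add := rfl

theorem isAffine_opnT {W : T.Opens} (hW : IsAffineOpen W) : IsAffine ((opnT T).obj W).left := hW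

/-- The restriction to the Zariski site is exact in positive degrees if the complex is exact on
affine objects. -/
theorem exactAt_zarT (I : CochainComplex (MEt T) ℕ)
    (hM : ∀ (i : ℕ) (U : T.Etale), IsAffine U.left →
      Subsingleton ((cohPsh I (i + 1)).presheaf.obj (op U))) (i : ℕ) :
    (mapK (zarT T) I).ExactAt (i + 1) := by
  rw [(mapK (zarT T) I).exactAt_iff' i (i + 1) (i + 2) (by simp) (by simp)]
  refine exact_of_locally_lifts _ fun V y hy x hx => ?_
  obtain ⟨W, hW, hxW, hWV⟩ := exists_isAffineOpen_mem_and_subset (x := x) (U := V) hx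
  have h1 := (subsingleton_cohPsh_iff I i ((opnT T).obj W)).1 (hM i _ (isAffine_opnT hW))
  obtain ⟨z, hz⟩ := h1 ((I.X (i + 1)).val.presheaf.map ((opnT T).map (homOfLE hWV)).op y) (by
    have h2 := NatTrans.naturality_apply ((PresheafOfModules.toPresheaf (O T).obj).map
      (I.d (i + 1) (i + 2)).val) ((opnT T).map (homOfLE hWV)).op y
    refine h2.trans ?_
    refine (congrArg _ (show _ = _ from hy)).trans (map_zero _))
  exact ⟨W, hWV, hxW, z, hz⟩

theorem mono_of_injective {M N : T.Modules} (φ : M ⟶ N)
    (h : ∀ U : T.Opens, Function.Injective (φ.app U)) : Mono φ := by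
  have h2 : Mono ((Scheme.Modules.toPresheaf T).map φ) := by
    have : ∀ U, Mono (((Scheme.Modules.toPresheaf T).map φ).app U) := fun U =>
      (AddCommGrpCat.mono_iff_injective _).2 (h U.unop)
    exact NatTrans.mono_of_mono_app _
  exact (Scheme.Modules.toPresheaf T).mono_of_mono_map h2

/-- The restriction to the Zariski site preserves kernels. -/
theorem exact_zarT (Sc : ShortComplex (MEt T)) (hS : Sc.Exact) (hm : Mono Sc.f) :
    (Sc.map (zarT T)).Exact ∧ Mono (Sc.map (zarT T)).f := by
  have hex : ∀ U : T.Etale, (Sc.map (evM U)).Exact := fun U =>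
    hS.map_of_mono_of_preservesKernel (evM U) hm inferInstance
  have hmo : ∀ U : T.Etale, Mono ((evM U).map Sc.f) := fun U => inferInstance
  constructor
  · refine exact_of_locally_lifts _ fun V y hy x hx => ?_
    obtain ⟨z, hz⟩ := (ShortComplex.ab_exact_iff _).1 (hex ((opnT T).obj V)) y hy
    refine ⟨V, le_refl V, hx, z, ?_⟩
    refine Eq.trans hz ?_
    have : (homOfLE (le_refl V)).op = 𝟙 (op V) := rfl
    rw [this, CategoryTheory.Functor.map_id]
    rfl
  · refine mono_of_injective _ fun U => ?_
    exact (AddCommGrpCat.mono_iff_injective _).1 (hmo ((opnT T).obj U))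

/-- The degree zero cycles of the restriction to the Zariski site of an injective resolution. -/
theorem nonempty_cycles_iso (M : MEt T) (I : InjectiveResolution M) :
    Nonempty ((zarT T).obj M ≅ (mapK (zarT T) I.cocomplex).cycles 0) := by
  let Sc : ShortComplex (MEt T) := ShortComplex.mk _ _ I.ι_f_zero_comp_complex_d
  have hS : Sc.Exact := I.exact₀
  have hm : Mono Sc.f := inferInstanceAs (Mono (I.ι.f 0))
  obtain ⟨h1, h2⟩ := exact_zarT Sc hS hm
  let K := mapK (zarT T) I.cocomplex
  have hk := K.cyclesIsKernel 0 1 (by simp)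
  have hk' : IsLimit (KernelFork.ofι (Sc.map (zarT T)).f (Sc.map (zarT T)).zero) := h1.fIsKernel
  exact ⟨hk'.conePointUniqueUpToIso hk⟩

theorem isFlasque_zarT (M : MEt T) (h : Flq M.val) :
    TopCat.Sheaf.IsFlasque (X := T.toTopCat) (Coh.toAb ((zarT T).obj M)) where
  epi {U V} i := by
    rw [AddCommGrpCat.epi_iff_surjective]
    refine h ((opnT T).map i.unop) ?_
    have h1 : Mono (((opnT T).map i.unop) ≫ inc (EtCoh.top T) U.unop) := by
      rw [show (opnT T).map i.unop ≫ inc (EtCoh.top T) U.unop = inc (EtCoh.top T) V.unop from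
        opnF_map_inc _ _]
      exact mono_inc _ _
    exact mono_of_mono _ (inc (EtCoh.top T) U.unop)

/-- Zariski higher direct images from an injective resolution by étale `O`-modules. -/
theorem nonempty_Rpush_zar (f : T ⟶ S) [HasInjectiveResolutions T.Modules] (M : MEt T)
    (I : InjectiveResolution M) (hfl : ∀ n, Flq (I.cocomplex.X n).val)
    (hM : ∀ (i : ℕ) (U : T.Etale), IsAffine U.left →
      Subsingleton ((cohPsh I.cocomplex (i + 1)).presheaf.obj (op U)))
    (i : ℕ) :
    Nonempty ((Coh.Rpush f i).obj ((zar (EtCoh.top T)).obj M) ≅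
      (mapK (zar (EtCoh.top S)) (mapK (pushM f) I.cocomplex)).homology i) := by
  obtain ⟨e1⟩ := nonempty_cycles_iso M I
  let K := mapK (zarT T) I.cocomplex
  have hlim : PreservesFiniteLimits (Scheme.Modules.pushforward f) := inferInstance
  obtain ⟨e2⟩ := AcycRes.nonempty_iso (Scheme.Modules.pushforward f) K (fun n q hq => by
      obtain ⟨q, rfl⟩ : ∃ r, q = r + 1 := ⟨q - 1, by omega⟩
      exact FormalA.RpushFlasque.isZero_rpush_of_isFlasque f q _ (isFlasque_zarT _ (hfl n)))
    (exactAt_zarT I.cocomplex hM) i
  let e3 : mapK (Scheme.Modules.pushforward f) K ≅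
      mapK (zarT S) (mapK (pushM f) I.cocomplex) :=
    (NatIso.mapHomologicalComplex (pushZarIsoT f) (ComplexShape.up ℕ)).app I.cocomplex
  exact ⟨(Coh.Rpush f i).mapIso e1 ≪≫ e2 ≪≫ (HomologicalComplex.homologyFunctor _ _ i).mapIso e3⟩

end Groth.Agent.Desc.EtModRpushZar
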