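import Groth.Agent.Desc.EtModPushZar
import Mathlib.Algebra.Homology.ShortComplex.PreservesHomology
import Mathlib.Algebra.Homology.ShortComplex.Ab
import Mathlib.Algebra.Homology.Additive

/-!
# Vanishing of the cohomology presheaves of a complex of étale `O`-modules, on sections

`subsingleton_cohPsh_iff`: `H^{n+1}(I(U)) = 0` iff every cocycle in `I^{n+1}(U)` is a coboundary.
-/

set_option autoImplicit false
universe u

open CategoryTheory CategoryTheory.Limits AlgebraicGeometry Opposite TopologicalSpace

namespace Groth.Agent.Desc.EtModSec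

open EtMod EtModFun EtModDefs

variable {X : Scheme.{u}}

theorem exactAt_succ_iff (K : CochainComplex AddCommGrpCat.{u} ℕ) (n : ℕ) :
    K.ExactAt (n + 1) ↔ ∀ z : K.X (n + 1), K.d (n + 1) (n + 2) z = 0 → ∃ y, K.d n (n + 1) y = z := by
  rw [K.exactAt_iff' n (n + 1) (n + 2) (by simp) (by simp), ShortComplex.ab_exact_iff]
  exact Iff.rfl

/-- Sections of a presheaf of modules over `U`. -/
noncomputable abbrev evU (U : X.Etale) : PEt X ⥤ AddCommGrpCat.{u} :=
  PresheafOfModules.toPresheaf (O X).obj ⋙ (evaluation _ _).obj (op U)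

instance additive_evU (U : X.Etale) : (evU U).Additive where
  map_add := rfl

instance preservesFiniteLimits_evU (U : X.Etale) : PreservesFiniteLimits (evU U) :=
  have : PreservesFiniteLimits ((evaluation X.Etaleᵒᵖ AddCommGrpCat.{u}).obj (op U)) :=
    ⟨fun _ _ _ => inferInstance⟩
  comp_preservesFiniteLimits _ _

instance preservesFiniteColimits_evU (U : X.Etale) : PreservesFiniteColimits (evU U) :=
  have : PreservesFiniteColimits ((evaluation X.Etaleᵒᵖ AddCommGrpCat.{u}).obj (op U)) :=
    ⟨fun _ _ _ => inferInstance⟩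
  comp_preservesFiniteColimits _ _

instance additive_forget : (SheafOfModules.forget (O X)).Additive where
  map_add := rfl

/-- `H^{n+1}(I(U)) = 0` in terms of sections. -/
theorem subsingleton_cohPsh_iff (I : CochainComplex (MEt X) ℕ) (n : ℕ) (U : X.Etale) :
    Subsingleton ((cohPsh I (n + 1)).presheaf.obj (op U)) ↔
      ∀ z : (I.X (n + 1)).val.presheaf.obj (op U), (I.d (n + 1) (n + 2)).val.app (op U) z = 0 →
        ∃ y : (I.X n).val.presheaf.obj (op U), (I.d n (n + 1)).val.app (op U) y = z := by
  let K' := ((SheafOfModules.forget (O X)).mapHomologicalComplex (ComplexShape.up ℕ)).obj I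
  let L : CochainComplex AddCommGrpCat.{u} ℕ :=
    ((evU U).mapHomologicalComplex (ComplexShape.up ℕ)).obj K'
  have e : L.homology (n + 1) ≅ (evU U).obj (K'.homology (n + 1)) :=
    (K'.sc (n + 1)).mapHomologyIso (evU U)
  have h1 : Subsingleton ((cohPsh I (n + 1)).presheaf.obj (op U)) ↔ L.ExactAt (n + 1) := by
    rw [L.exactAt_iff_isZero_homology, e.isZero_iff, AddCommGrpCat.isZero_iff_subsingleton]
    exact Iff.rfl
  rw [h1, exactAt_succ_iff]
  exact Iff.rfl

end Groth.Agent.Desc.EtModSec
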