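import Groth.Agent.Desc.EtModAff
import Groth.Agent.Desc.EtDescent

/-!
# Sheafification of quasi-coherent presheaves of étale modules

* `bijective_of_isQC` : let `P` be a quasi-coherent presheaf of étale modules, `G` a sheaf and
  `φ : P ⟶ G` locally bijective.  Then `φ` is bijective on affine objects.
-/

set_option autoImplicit false

universe w w' v u

open CategoryTheory CategoryTheory.Limits AlgebraicGeometry Opposite

namespace Groth.Agent.Desc.EtModShf

open Groth.Agent.Desc.EtMod Groth.Agent.Desc.EtModFun Groth.Agent.Desc.EtModCech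
open Groth.Agent.Desc.EtModAcyc Groth.Agent.Desc.EtModDefs Groth.Agent.Desc.EtModAff
open Groth.Agent.Etbase.EtAffCover

variable {X : Scheme.{u}}

/-- Comparison of the two notions of base change. -/
theorem isBC_of_isBC {A B M N : Type u} [CommRing A] [CommRing B]
    [AddCommGroup M] [AddCommGroup N] [Module A M] [Module B N]
    (φ : A →+* B) (f : M →+ N) (h : Groth.Agent.CohqA.BaseChangeMod.IsBC φ f) :
    Groth.Agent.Etbase.FFExact.IsBC φ f := by
  refine ⟨h.map_smul, ?_⟩
  let := φ.toAlgebra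
  let : Module A N := Module.compHom _ φ
  have : IsScalarTower A B N := ⟨fun a b m => by
      change (φ a * b) • m = φ a • b • m
      rw [mul_smul]⟩
  let g : M →ₗ[A] N := { f with map_smul' := h.map_smul }
  exact (Groth.Agent.CohqA.BaseChangeMod.isBC_iff_isBaseChange g).1 h

theorem isQC_iff_ff {P : PEt X} (hP : IsQC P) {V W : X.Etale} (g : V ⟶ W) (hV : IsAffine V.left)
    (hW : IsAffine W.left) :
    Groth.Agent.Etbase.FFExact.IsBC g.left.appTop.hom (P.presheaf.map g.op).hom :=
  isBC_of_isBC _ _ (hP g hV hW)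

theorem pmap_comp_apply (P : X.Etaleᵒᵖ ⥤ AddCommGrpCat.{w}) {U V W : X.Etale} (f : V ⟶ U)
    (g : W ⟶ V) (x : P.obj (op U)) : P.map (g ≫ f).op x = P.map g.op (P.map f.op x) := by
  rw [op_comp, P.map_comp]
  rfl

/-- Base change along a split surjection of rings. -/
theorem split_bc {A B M N : Type u} [CommRing A] [CommRing B]
    [AddCommGroup M] [AddCommGroup N] [Module A M] [Module B N]
    (φ : A →+* B) (f : M →+ N) (h : Groth.Agent.CohqA.BaseChangeMod.IsBC φ f)
    (s : B →+ A) (hs : ∀ a b, s (φ a * b) = a * s b) (hsφ : ∀ b, φ (s b) = b) :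
    Function.Surjective f ∧ ∀ x, f x = 0 → s 1 • x = 0 := by
  let := φ.toAlgebra
  let : Module A N := Module.compHom _ φ
  have : IsScalarTower A B N := ⟨fun a b m => by
      change (φ a * b) • m = φ a • b • m
      rw [mul_smul]⟩
  let g : M →ₗ[A] N := { f with map_smul' := h.map_smul }
  have hg : IsBaseChange B g := (Groth.Agent.CohqA.BaseChangeMod.isBC_iff_isBaseChange g).1 h
  constructor
  · intro y
    refine hg.inductionOn (motive := fun y => ∃ x, f x = y) y ⟨0, map_zero f⟩
      (fun m => ⟨m, rfl⟩) ?_ ?_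
    · rintro b n ⟨m, rfl⟩
      refine ⟨s b • m, ?_⟩
      rw [h.map_smul, hsφ]
    · rintro n₁ n₂ ⟨m₁, rfl⟩ ⟨m₂, rfl⟩
      exact ⟨m₁ + m₂, map_add f _ _⟩
  · intro x hx
    let sl : B →ₗ[A] A :=
      { toFun := s
        map_add' := map_add s
        map_smul' := fun a b => hs a b }
    have h1 : (1 : B) ⊗ₜ[A] x = 0 := by
      apply hg.equiv.injective
      rw [hg.equiv_tmul, one_smul, map_zero]
      exact hx
    have h2 := congrArg (fun z => TensorProduct.lid A M (LinearMap.rTensor M sl z)) h1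
    rw [LinearMap.rTensor_tmul, TensorProduct.lid_tmul, map_zero, map_zero] at h2
    exact h2

/-- Functions on a disjoint union. -/
theorem exists_fun {ι : Type u} (Y : ι → X.Etale) (a : ∀ i, Γ((Y i).left, ⊤)) :
    ∃ t : Γ((sigma Y).left, ⊤), ∀ i, (sι Y i).left.appTop t = a i := by
  obtain ⟨⟨t⟩, ht⟩ := glue_sigma (EtCoh.Ga X) Y
    (fun i => (ULift.up (a i) : ULift.{u + 1} Γ((Y i).left, ⊤)))
  exact ⟨t, fun i => congrArg ULift.down (ht i)⟩

theorem fun_ext {ι : Type u} (Y : ι → X.Etale) {s t : Γ((sigma Y).left, ⊤)}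
    (h : ∀ i, (sι Y i).left.appTop s = (sι Y i).left.appTop t) : s = t := by
  have := ext_sigma (EtCoh.Ga X) Y (ULift.up s : ULift.{u + 1} Γ((sigma Y).left, ⊤))
    (ULift.up t : ULift.{u + 1} Γ((sigma Y).left, ⊤)) (fun i => congrArg ULift.up (h i))
  exact congrArg ULift.down this

/-- The splitting of the restriction of functions to a component. -/
theorem exists_split {ι : Type u} (Y : ι → X.Etale) (i : ι) :
    ∃ s : Γ((Y i).left, ⊤) →+ Γ((sigma Y).left, ⊤),
      (∀ a b, s ((sι Y i).left.appTop a * b) = a * s b) ∧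
      (∀ b, (sι Y i).left.appTop (s b) = b) ∧
      ∀ j, j ≠ i → ∀ b, (sι Y j).left.appTop (s b) = 0 := by
  classical
  choose t ht using fun b : Γ((Y i).left, ⊤) => exists_fun Y
    (fun j => if h : j = i then (by subst h; exact b) else 0)
  have h1 : ∀ b, (sι Y i).left.appTop (t b) = b := fun b => by
    rw [ht]
    simp
  have h2 : ∀ b j, j ≠ i → (sι Y j).left.appTop (t b) = 0 := fun b j hj => by
    rw [ht]
    simp [hj]
  have h3 : ∀ (b : Γ((Y i).left, ⊤)) (c : Γ((sigma Y).left, ⊤)),
      (sι Y i).left.appTop c = b → (∀ j, j ≠ i → (sι Y j).left.appTop c = 0) → t b = c := by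
    intro b c hc hc'
    refine fun_ext Y fun j => ?_
    by_cases hj : j = i
    · subst hj
      rw [h1, hc]
    · rw [h2 b j hj, hc' j hj]
  refine ⟨AddMonoidHom.mk' t fun b c => ?_, fun a b => ?_, h1, fun j hj b => h2 b j hj⟩
  · refine h3 _ _ ?_ fun j hj => ?_
    · rw [map_add, h1, h1]
    · rw [map_add, h2 _ _ hj, h2 _ _ hj, add_zero]
  · refine h3 _ _ ?_ fun j hj => ?_
    · rw [map_mul]
      exact congrArg _ (h1 b)
    · rw [map_mul]
      exact (congrArg _ (h2 b j hj)).trans (mul_zero _)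

theorem isAffine_sigma {ι : Type u} [Finite ι] (Y : ι → X.Etale) (hY : ∀ i, IsAffine (Y i).left) :
    IsAffine (sigma Y).left := by
  change IsAffine (∐ fun i => (Y i).left)
  infer_instance

section sigma

variable {P : PEt X} (hP : IsQC P) {ι : Type u} [Finite ι] (Y : ι → X.Etale)
  (hY : ∀ i, IsAffine (Y i).left)

include hP hY

theorem sigma_ext (x : P.presheaf.obj (op (sigma Y)))
    (hx : ∀ i, P.presheaf.map (sι Y i).op x = 0) : x = 0 := by
  classical
  have := Fintype.ofFinite ι
  choose s hs1 hs2 hs3 using exists_split Y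
  have h1 : ∀ i, s i 1 • x = 0 := fun i =>
    (split_bc _ _ (hP (sι Y i) (hY i) (isAffine_sigma Y hY)) (s i) (hs1 i) (hs2 i)).2 x (hx i)
  have h2 : (1 : Γ((sigma Y).left, ⊤)) = ∑ i, s i 1 := by
    refine fun_ext Y fun j => ?_
    rw [map_one, map_sum, Finset.sum_eq_single j (fun i _ hij => hs3 i j hij.symm 1)
      (fun h => (h (Finset.mem_univ _)).elim), hs2]
  rw [← one_smul Γ((sigma Y).left, ⊤) x, h2, Finset.sum_smul]
  exact Finset.sum_eq_zero fun i _ => h1 i

theorem sigma_glue (t : ∀ i, P.presheaf.obj (op (Y i))) :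
    ∃ x : P.presheaf.obj (op (sigma Y)), ∀ i, P.presheaf.map (sι Y i).op x = t i := by
  classical
  have := Fintype.ofFinite ι
  choose s hs1 hs2 hs3 using exists_split Y
  choose x hx using fun i => (split_bc _ _ (hP (sι Y i) (hY i) (isAffine_sigma Y hY)) (s i)
    (hs1 i) (hs2 i)).1 (t i)
  refine ⟨∑ i, s i 1 • x i, fun j => ?_⟩
  rw [map_sum, Finset.sum_eq_single j]
  · rw [presheaf_map_smul, hs2, one_smul]
    exact hx j
  · intro i _ hij
    rw [presheaf_map_smul, hs3 i j hij.symm, zero_smul]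
  · exact fun h => (h (Finset.mem_univ _)).elim

end sigma

/-- Covering sieves of affine objects are refined by finite disjoint unions of affine objects. -/
theorem exists_sigma {U : X.Etale} (hU : IsAffine U.left) {R : Sieve U}
    (hR : R ∈ X.smallEtaleTopology U) :
    ∃ (ι : Type u) (_ : Finite ι) (Y : ι → X.Etale) (g : ∀ i, Y i ⟶ U),
      (∀ i, IsAffine (Y i).left) ∧ (∀ i, R (g i)) ∧ Surjective (sdesc Y g).left := by
  choose Y g y hg hY hy using fun x => exists_affine_of_mem hR x
  have hopen : ∀ x, IsOpen (Set.range (g x).left) := by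
    intro x
    have : Etale (g x).left := inferInstance
    exact (g x).left.isOpenMap.isOpen_range
  have hcov : (⋃ x : U.left, Set.range (g x).left) = Set.univ := by
    ext x
    simp only [Set.mem_iUnion, Set.mem_univ, iff_true]
    exact ⟨x, y x, hy x⟩
  obtain ⟨T, hT⟩ := isCompact_univ.elim_finite_subcover (fun x : U.left => Set.range (g x).left)
    hopen hcov.ge
  refine ⟨ULift.{u} T, inferInstance, fun x => Y x.down, fun x => g x.down, fun i => hY _,
    fun i => hg _, ⟨fun x => ?_⟩⟩
  obtain ⟨x', hx', z, hz⟩ : ∃ x' ∈ T, x ∈ Set.range (g x').left := by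
    have := hT (Set.mem_univ x)
    simpa using this
  refine ⟨(sι (fun x : ULift.{u} T => Y x.down) ⟨⟨x', hx'⟩⟩).left z, ?_⟩
  rw [← hz, ← Scheme.Hom.comp_apply]
  change (sι (fun x : ULift.{u} T => Y x.down) ⟨⟨x', hx'⟩⟩ ≫ _).left z = _
  rw [sι_sdesc]

section main

variable {P : PEt X} (hP : IsQC P) (G : Sheaf X.smallEtaleTopology AddCommGrpCat.{u})
  (φ : P.presheaf ⟶ G.obj)

/-- Sections of sheaves over disjoint unions (level `u`). -/
theorem sheaf_sigma_ext {ι : Type u} (Y : ι → X.Etale) (s t : G.obj.obj (op (sigma Y)))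
    (h : ∀ i, G.obj.map (sι Y i).op s = G.obj.map (sι Y i).op t) : s = t := by
  have := ext_sigma ((up X).obj G) Y (ULift.up s : ULift.{u + 1} (G.obj.obj (op (sigma Y))))
    (ULift.up t : ULift.{u + 1} (G.obj.obj (op (sigma Y)))) (fun i => congrArg ULift.up (h i))
  exact congrArg ULift.down this

theorem sheaf_ext {U V : X.Etale} (f : V ⟶ U) (hf : Surjective f.left) (s t : G.obj.obj (op U))
    (h : G.obj.map f.op s = G.obj.map f.op t) : s = t := by
  refine Etbase.SieveCartan.section_ext
    (Etbase.EtCartan.generateSingleton_mem f hf.surj) G s t ?_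
  rintro W g ⟨v, rfl⟩
  rw [pmap_comp_apply, pmap_comp_apply, h]

include hP

theorem injective_of_isQC [Presheaf.IsLocallyInjective X.smallEtaleTopology φ] (U : X.Etale)
    (hU : IsAffine U.left) : Function.Injective (φ.app (op U)) := by
  rw [injective_iff_map_eq_zero]
  intro x hx
  have hR := Presheaf.equalizerSieve_mem X.smallEtaleTopology φ x 0 (by rw [hx, map_zero])
  obtain ⟨ι, hι, Y, g, hY, hg, hs⟩ := exists_sigma hU hR
  refine EtDescent.injective (P := P.presheaf) (fun g hV hW => isQC_iff_ff hP g hV hW)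
    (sdesc Y g) (isAffine_sigma Y hY) hU hs ?_
  rw [map_zero]
  refine sigma_ext hP Y hY _ fun i => ?_
  rw [← pmap_comp_apply, sι_sdesc]
  exact (hg i).trans (map_zero _)

theorem surjective_of_isQC [Presheaf.IsLocallyInjective X.smallEtaleTopology φ]
    [Presheaf.IsLocallySurjective X.smallEtaleTopology φ] (U : X.Etale)
    (hU : IsAffine U.left) : Function.Surjective (φ.app (op U)) := by
  intro y
  have hR := Presheaf.imageSieve_mem X.smallEtaleTopology φ (U := op U) y
  obtain ⟨ι, hι, Y, g, hY, hg, hs⟩ := exists_sigma hU hR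
  choose t ht using hg
  obtain ⟨s, hs'⟩ := sigma_glue hP Y hY t
  have hnat : ∀ {V W : X.Etale} (k : V ⟶ W) (x : P.presheaf.obj (op W)),
      φ.app (op V) (P.presheaf.map k.op x) = G.obj.map k.op (φ.app (op W) x) :=
    fun k x => ConcreteCategory.congr_hom (φ.naturality k.op) x
  have h1 : φ.app _ s = G.obj.map (sdesc Y g).op y := by
    refine sheaf_sigma_ext G Y _ _ fun i => ?_
    rw [← hnat, hs', ← pmap_comp_apply, sι_sdesc]
    exact ht i
  obtain ⟨x, hx⟩ := EtDescent.exists_glue (P := P.presheaf)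
    (fun g hV hW => isQC_iff_ff hP g hV hW) (sdesc Y g) (isAffine_sigma Y hY) hU hs s
    (fun Z a b hZ hab => by
      apply injective_of_isQC hP G φ Z hZ
      rw [hnat, hnat, h1, ← pmap_comp_apply, ← pmap_comp_apply, hab])
  refine ⟨x, sheaf_ext G (sdesc Y g) hs _ _ ?_⟩
  rw [← hnat, hx, h1]

theorem bijective_of_isQC [Presheaf.IsLocallyInjective X.smallEtaleTopology φ]
    [Presheaf.IsLocallySurjective X.smallEtaleTopology φ] (U : X.Etale)
    (hU : IsAffine U.left) : Function.Bijective (φ.app (op U)) :=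
  ⟨injective_of_isQC hP G φ U hU, surjective_of_isQC hP G φ U hU⟩

end main

end Groth.Agent.Desc.EtModShf
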