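import Groth.Agent.Desc.SecPresheaf
import Groth.Agent.Sga4A.IntLift2

/-!
# Étale-local sections of étale descent data along integral morphisms

* `exists_open_eq`: two morphisms into an unramified scheme which agree over `t` agree over a
  neighbourhood (on the base of a closed morphism).
* `exists_shrink_section`: a lift over `U ×_S X` extending a section `a` over `T₀` of the descent datum
  gives a section over a neighbourhood `W` of `T₀ ⟶ U`.
* `exists_etale_section`: a section of `secFunctor D` over a field-valued point extends to an étale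
  neighbourhood.
-/

set_option autoImplicit false
set_option backward.isDefEq.respectTransparency false
set_option backward.isDefEq.respectTransparency.types false
open CategoryTheory CategoryTheory.Limits AlgebraicGeometry Opposite
universe u
open _root_.Desc Groth.Agent.Desc.SecFunctor Groth.Agent.Desc.SecPresheaf Groth.Agent.Sga4A.IntLift

namespace Groth.Agent.Desc.EtSection

/-- Two morphisms into an unramified scheme which agree over `t` agree over a neighbourhood. -/
theorem exists_open_eq {Y V X S' T₀ Yt : Scheme.{u}} (f : V ⟶ X) [LocallyOfFiniteType f]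
    [FormallyUnramified f] (v₀ v₁ : Y ⟶ V) (h : v₀ ≫ f = v₁ ≫ f) (g : Y ⟶ S')
    (hg : IsClosedMap g) (t : T₀ ⟶ S') {yt : Yt ⟶ Y} {yτ : Yt ⟶ T₀} (hY : IsPullback yt yτ g t)
    (e : yt ≫ v₀ = yt ≫ v₁) :
    ∃ U : S'.Opens, Set.range t ⊆ U ∧ (g ⁻¹ᵁ U).ι ≫ v₀ = (g ⁻¹ᵁ U).ι ≫ v₁ := by
  let Δ := pullback.diagonal f
  let l : Y ⟶ pullback f f := pullback.lift v₀ v₁ h
  let G : Y.Opens := l ⁻¹ᵁ Δ.opensRange
  have hG : Set.range yt ⊆ G := by
    have h1 : yt ≫ l = (yt ≫ v₀) ≫ Δ := by
      apply pullback.hom_ext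
      · simp [l, Δ]
      · simp [l, Δ, e]
    rintro _ ⟨y, rfl⟩
    change l (yt y) ∈ Set.range Δ
    rw [← Scheme.Hom.comp_apply, h1, Scheme.Hom.comp_apply]
    exact ⟨_, rfl⟩
  let U : S'.Opens := ⟨(g '' (G : Set Y)ᶜ)ᶜ, (hg _ G.isOpen.isClosed_compl).isOpen_compl⟩
  refine ⟨U, ?_, ?_⟩
  · rintro _ ⟨y, rfl⟩ ⟨x, hx, hxy⟩
    obtain ⟨z, hz1, -⟩ := Scheme.Pullback.exists_preimage_pullback x y hxy
    refine hx (hG ⟨hY.isoPullback.inv z, ?_⟩)
    rw [← Scheme.Hom.comp_apply, hY.isoPullback_inv_fst, hz1]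
  · have hr : Set.range ((g ⁻¹ᵁ U).ι ≫ l) ⊆ Set.range Δ := by
      rintro _ ⟨y, rfl⟩
      rw [Scheme.Hom.comp_apply]
      by_contra hy
      have h1 : g ((g ⁻¹ᵁ U).ι y) ∈ U := y.2
      exact h1 ⟨_, hy, rfl⟩
    let k := IsOpenImmersion.lift Δ ((g ⁻¹ᵁ U).ι ≫ l) hr
    have hk : k ≫ Δ = (g ⁻¹ᵁ U).ι ≫ l := IsOpenImmersion.lift_fac _ _ _
    have e1 : k = (g ⁻¹ᵁ U).ι ≫ v₀ := by
      have := congrArg (· ≫ pullback.fst f f) hk
      simpa [Δ, l] using this
    have e2 : k = (g ⁻¹ᵁ U).ι ≫ v₁ := by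
      have := congrArg (· ≫ pullback.snd f f) hk
      simpa [Δ, l] using this
    rw [← e1, ← e2]

/-- Two elements of `secFunctor D` over `T` agree if their values at one point `x : T.left ⟶ X` agree. -/
theorem eq_of_secPoint {X S : Scheme.{u}} {p : X ⟶ S} {D : SchDD p} {T : Over S} (x : T.left ⟶ X)
    (hx : x ≫ p = T.hom) {a b : (secFunctor D).obj (op T)}
    (h : (secPoint D x hx a).1 = (secPoint D x hx b).1) : a = b :=
  (secPoint D x hx).injective (Subtype.ext h)

theorem map_map {S : Scheme.{u}} {F : (Over S)ᵒᵖ ⥤ Type u} {T T' T'' : Over S} (g : T'' ⟶ T') (f : T' ⟶ T)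
    (a : F.obj (op T)) : F.map g.op (F.map f.op a) = F.map (g ≫ f).op a := by
  rw [op_comp, F.map_comp]
  rfl

theorem exists_shrink_section {X S U T₀ : Scheme.{u}} (p : X ⟶ S) [IsIntegralHom p] (D : SchDD p)
    [Etale D.obj.hom] (g : U ⟶ S) (s : T₀ ⟶ S) (x' : T₀ ⟶ U) (hx' : x' ≫ g = s)
    (a : (secFunctor D).obj (op (Over.mk s))) (τ : pullback g p ⟶ D.obj.left)
    (hτ : τ ≫ D.obj.hom = pullback.snd g p)
    (hτa : fibMap p hx' ≫ τ =
      (ev a (T := Over.mk s) (pullback.fst s p) (pullback.snd s p) pullback.condition.symm).1) :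
    ∃ (W : U.Opens) (tW : T₀ ⟶ W) (htW : tW ≫ W.ι = x')
      (σ : (secFunctor D).obj (op (Over.mk (W.ι ≫ g)))),
      (secFunctor D).map (Over.homMk tW (by
        change tW ≫ W.ι ≫ g = s
        rw [reassoc_of% htW, hx']) : Over.mk s ⟶ Over.mk (W.ι ≫ g)).op σ = a := by
  let PS : Over S := Over.mk (pullback.fst g p ≫ g)
  have hPS : pullback.snd g p ≫ p = PS.hom := pullback.condition.symm
  let aP : (secFunctor D).obj (op PS) := (secPoint D (T := PS) (pullback.snd g p) hPS).symm ⟨τ, hτ⟩
  have haP : (secPoint D (T := PS) (pullback.snd g p) hPS aP).1 = τ := by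
    simp [aP]
  let PT : Over S := Over.mk (pullback.fst s p ≫ s)
  have hPT : pullback.snd s p ≫ p = PT.hom := pullback.condition.symm
  let k : PT ⟶ PS := Over.homMk (fibMap p hx') (by
    change fibMap p hx' ≫ pullback.fst g p ≫ g = pullback.fst s p ≫ s
    rw [← Category.assoc, fibMap_fst, Category.assoc, hx'])
  let π : PT ⟶ Over.mk s := Over.homMk (pullback.fst s p) rfl
  have hk : (secFunctor D).map k.op aP = (secFunctor D).map π.op a := by
    apply eq_of_secPoint (T := PT) (pullback.snd s p) hPT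
    rw [secPoint_map D k (pullback.snd g p) hPS aP (x' := pullback.snd s p) (fibMap_snd p hx').symm hPT,
      haP]
    refine hτa.trans ?_
    rw [secPoint_apply, ev_map π a (𝟙 _) (pullback.snd s p) _ (by
      change _ = (𝟙 _ ≫ pullback.fst s p) ≫ s
      rw [Category.id_comp]; exact pullback.condition.symm)]
    exact ev_congr a (Category.id_comp _).symm rfl _ _
  -- the compatibility locus
  let Y : Scheme.{u} := pullback (pullback.fst g p) (pullback.fst g p)
  let gY : Y ⟶ U := pullback.fst (pullback.fst g p) (pullback.fst g p) ≫ pullback.fst g p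
  have hgY : gY = pullback.snd (pullback.fst g p) (pullback.fst g p) ≫ pullback.fst g p :=
    pullback.condition
  have hgYc : IsClosedMap gY := gY.isClosedMap
  let YS : Over S := Over.mk (gY ≫ g)
  let y₀ : YS ⟶ PS := Over.homMk (pullback.fst (pullback.fst g p) (pullback.fst g p)) (by
    simp [YS, PS, gY])
  let y₁ : YS ⟶ PS := Over.homMk (pullback.snd (pullback.fst g p) (pullback.fst g p)) (by
    simp [YS, PS, hgY])
  let xY : YS.left ⟶ X := pullback.fst (pullback.fst g p) (pullback.fst g p) ≫ pullback.snd g p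
  have hxY : xY ≫ p = YS.hom := by
    change (pullback.fst (pullback.fst g p) (pullback.fst g p) ≫ pullback.snd g p) ≫ p =
      (pullback.fst (pullback.fst g p) (pullback.fst g p) ≫ pullback.fst g p) ≫ g
    rw [Category.assoc, Category.assoc]
    exact congrArg (_ ≫ ·) pullback.condition.symm
  let v₀ := secPoint D xY hxY ((secFunctor D).map y₀.op aP)
  let v₁ := secPoint D xY hxY ((secFunctor D).map y₁.op aP)
  let Yt : Scheme.{u} := pullback gY x'
  let YtS : Over S := Over.mk (pullback.fst gY x' ≫ gY ≫ g)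
  let iY : YtS ⟶ YS := Over.homMk (pullback.fst gY x') rfl
  have hYt : (pullback.snd gY x') ≫ s = pullback.fst gY x' ≫ gY ≫ g := by
    rw [← hx', ← Category.assoc, ← pullback.condition, Category.assoc]
  have hcompat : ∀ (y : YS ⟶ PS) (hy : y.left ≫ pullback.fst g p = gY),
      (secFunctor D).map iY.op ((secFunctor D).map y.op aP) =
        (secFunctor D).map (Over.homMk (pullback.snd gY x') hYt : YtS ⟶ Over.mk s).op a := by
    intro y hy
    let w : YtS ⟶ PT := Over.homMk (pullback.lift (pullback.snd gY x')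
      (pullback.fst gY x' ≫ y.left ≫ pullback.snd g p) (by
        refine hYt.trans ?_
        have h3 : (y.left ≫ pullback.snd g p) ≫ p = gY ≫ g := by
          rw [← hy, Category.assoc, Category.assoc]
          exact congrArg (_ ≫ ·) pullback.condition.symm
        rw [← h3, Category.assoc, Category.assoc, Category.assoc])) (by
        change pullback.lift _ _ _ ≫ pullback.fst s p ≫ s = _
        rw [pullback.lift_fst_assoc]
        exact hYt)
    have hw : w ≫ k = iY ≫ y := by
      apply Over.OverMorphism.ext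
      change pullback.lift _ _ _ ≫ fibMap p hx' = pullback.fst gY x' ≫ y.left
      apply pullback.hom_ext
      · rw [Category.assoc, fibMap_fst, pullback.lift_fst_assoc, Category.assoc]
        rw [hy, pullback.condition]
      · rw [Category.assoc, fibMap_snd, pullback.lift_snd, Category.assoc]
    have hwπ : w ≫ π = (Over.homMk (pullback.snd gY x') hYt : YtS ⟶ Over.mk s) := by
      apply Over.OverMorphism.ext
      exact pullback.lift_fst _ _ _
    rw [map_map, ← hw, ← map_map, hk, map_map, hwπ]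
  have hvt : pullback.fst gY x' ≫ v₀.1 = pullback.fst gY x' ≫ v₁.1 := by
    have h0 := secPoint_map D iY xY hxY ((secFunctor D).map y₀.op aP)
      (x' := pullback.fst gY x' ≫ xY) rfl (by rw [Category.assoc, hxY]; rfl)
    have h1 := secPoint_map D iY xY hxY ((secFunctor D).map y₁.op aP)
      (x' := pullback.fst gY x' ≫ xY) rfl (by rw [Category.assoc, hxY]; rfl)
    rw [hcompat y₀ rfl] at h0
    rw [hcompat y₁ hgY.symm] at h1
    exact h0.symm.trans h1
  obtain ⟨W, hW, hWv⟩ := exists_open_eq D.obj.hom v₀.1 v₁.1 (v₀.2.trans v₁.2.symm) gY hgYc x'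
    (IsPullback.of_hasPullback gY x') hvt
  let tW : T₀ ⟶ W := IsOpenImmersion.lift W.ι x' (by rw [Scheme.Opens.range_ι]; exact hW)
  have htW : tW ≫ W.ι = x' := IsOpenImmersion.lift_fac _ _ _
  let WS : Over S := Over.mk (W.ι ≫ g)
  let XW : Over S := Over.mk (pullback.snd p WS.hom ≫ WS.hom)
  let r : XW ⟶ PS := Over.homMk (pullback.lift (pullback.snd p WS.hom ≫ W.ι) (pullback.fst p WS.hom) (by
    rw [pullback.condition, Category.assoc]; rfl)) (by
    change pullback.lift _ _ _ ≫ pullback.fst g p ≫ g = _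
    rw [pullback.lift_fst_assoc, Category.assoc]; rfl)
  have hr : r.left ≫ pullback.fst g p = pullback.snd p WS.hom ≫ W.ι := pullback.lift_fst _ _ _
  obtain ⟨σ, hσ⟩ := (isPSheaf_secFunctor D WS).glue ((secFunctor D).map r.op aP) (by
    intro Z z₀ z₁ hz
    rw [map_map, map_map]
    have hz' : z₀.left ≫ pullback.snd p WS.hom = z₁.left ≫ pullback.snd p WS.hom :=
      congrArg (fun f => f.left) hz
    let zy : Z.left ⟶ Y := pullback.lift (z₀ ≫ r).left (z₁ ≫ r).left (by
      rw [Over.comp_left, Over.comp_left, Category.assoc, Category.assoc, hr, reassoc_of% hz'])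
    have hzy : zy ≫ gY = (z₀.left ≫ pullback.snd p WS.hom) ≫ W.ι := by
      change pullback.lift _ _ _ ≫ pullback.fst _ _ ≫ _ = _
      rw [pullback.lift_fst_assoc, Over.comp_left, Category.assoc, hr, Category.assoc]
    have hzyr : Set.range zy ⊆ Set.range (gY ⁻¹ᵁ W).ι := by
      rw [Scheme.Opens.range_ι]
      rintro _ ⟨y, rfl⟩
      change gY (zy y) ∈ W
      rw [← Scheme.Hom.comp_apply, hzy, Scheme.Hom.comp_apply]
      exact Subtype.property _
    let zy' := IsOpenImmersion.lift (gY ⁻¹ᵁ W).ι zy hzyr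
    have hzy' : zy' ≫ (gY ⁻¹ᵁ W).ι = zy := IsOpenImmersion.lift_fac _ _ _
    have hZ : zy ≫ YS.hom = Z.hom := by
      change zy ≫ gY ≫ g = Z.hom
      rw [← Category.assoc, hzy, Category.assoc, Category.assoc]
      exact Over.w z₀
    let zS : Z ⟶ YS := Over.homMk zy hZ
    have e0 : z₀ ≫ r = zS ≫ y₀ := by
      apply Over.OverMorphism.ext
      exact (pullback.lift_fst _ _ _).symm
    have e1 : z₁ ≫ r = zS ≫ y₁ := by
      apply Over.OverMorphism.ext
      exact (pullback.lift_snd _ _ _).symm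
    rw [e0, e1, ← map_map, ← map_map]
    have hxZ : (zy ≫ xY) ≫ p = Z.hom := by rw [Category.assoc, hxY]; exact hZ
    apply eq_of_secPoint (T := Z) (zy ≫ xY) hxZ
    rw [secPoint_map D zS xY hxY _ (x' := zy ≫ xY) rfl hxZ,
      secPoint_map D zS xY hxY _ (x' := zy ≫ xY) rfl hxZ]
    change zy ≫ v₀.1 = zy ≫ v₁.1
    rw [← hzy', Category.assoc, Category.assoc, hWv])
  refine ⟨W, tW, htW, σ, ?_⟩
  -- compare on `X ×_S T₀`
  apply (isPSheaf_secFunctor D (Over.mk s)).inj
  rw [map_map]
  let c : Over.mk (pullback.snd p (Over.mk s).hom ≫ (Over.mk s).hom) ⟶ XW :=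
    Over.homMk (pullback.lift (pullback.fst p s) (pullback.snd p s ≫ tW) (by
      change pullback.fst p s ≫ p = (pullback.snd p s ≫ tW) ≫ W.ι ≫ g
      rw [Category.assoc, reassoc_of% htW, hx', pullback.condition])) (by
      change pullback.lift _ _ _ ≫ pullback.snd p WS.hom ≫ WS.hom = pullback.snd p s ≫ s
      rw [pullback.lift_snd_assoc]
      change (pullback.snd p s ≫ tW) ≫ W.ι ≫ g = _
      rw [Category.assoc, reassoc_of% htW, hx'])
  have h1 : projT p (Over.mk s) ≫ (Over.homMk tW (by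
        change tW ≫ W.ι ≫ g = s
        rw [reassoc_of% htW, hx']) : Over.mk s ⟶ Over.mk (W.ι ≫ g)) = c ≫ projT p WS := by
    apply Over.OverMorphism.ext
    exact (pullback.lift_snd _ _ _).symm
  rw [h1, ← map_map, hσ, map_map]
  let w : Over.mk (pullback.snd p (Over.mk s).hom ≫ (Over.mk s).hom) ⟶ PT :=
    Over.homMk (pullback.lift (pullback.snd p s) (pullback.fst p s) pullback.condition.symm) (by
      change pullback.lift _ _ _ ≫ pullback.fst s p ≫ s = pullback.snd p s ≫ s
      rw [pullback.lift_fst_assoc])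
  have h2 : c ≫ r = w ≫ k := by
    apply Over.OverMorphism.ext
    change pullback.lift _ _ _ ≫ pullback.lift _ _ _ = pullback.lift _ _ _ ≫ fibMap p hx'
    apply pullback.hom_ext
    · rw [Category.assoc, pullback.lift_fst, pullback.lift_snd_assoc, Category.assoc, htW,
        Category.assoc, fibMap_fst, pullback.lift_fst_assoc]
    · rw [Category.assoc, pullback.lift_snd, pullback.lift_fst,
        Category.assoc, fibMap_snd, pullback.lift_snd]
  have hwπ : w ≫ π = projT p (Over.mk s) := by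
    apply Over.OverMorphism.ext
    exact pullback.lift_fst _ _ _
  rw [h2, ← map_map, hk, map_map, hwπ]

/-- **Étale-local sections.** -/
theorem exists_etale_section {A : CommRingCat.{u}} {X : Scheme.{u}} (p : X ⟶ Spec A)
    [IsIntegralHom p] [Surjective p] (D : SchDD p) [QuasiCompact D.obj.hom] [IsSeparated D.obj.hom]
    [Etale D.obj.hom] (Ω : Type u) [Field Ω] (s : Spec (.of Ω) ⟶ Spec A)
    (a : (secFunctor D).obj (op (Over.mk s))) :
    ∃ (A' : CommRingCat.{u}) (q : Spec A' ⟶ Spec A) (_ : Etale q) (t : Spec (.of Ω) ⟶ Spec A')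
      (ht : t ≫ q = s) (σ : (secFunctor D).obj (op (Over.mk q))),
      (secFunctor D).map (Over.homMk t ht : Over.mk s ⟶ Over.mk q).op σ = a := by
  obtain ⟨U, _, g, _, x', hx', τ, hτ, hτa⟩ := exists_etale_lift p D.obj.hom s
    (ev a (T := Over.mk s) (pullback.fst s p) (pullback.snd s p) pullback.condition.symm).1
    (ev a (T := Over.mk s) (pullback.fst s p) (pullback.snd s p) pullback.condition.symm).2
  obtain ⟨W, tW, htW, σ, hσ⟩ := exists_shrink_section p D g s x' hx' a τ hτ hτa
  -- an affine neighbourhood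
  let y : W := tW (IsLocalRing.closedPoint Ω)
  obtain ⟨V, hV, hyV, -⟩ := exists_isAffineOpen_mem_and_subset (X := W) (x := y) (U := ⊤) trivial
  let i : Spec Γ(W, V) ⟶ W := hV.fromSpec
  have hi : Set.range i = V := hV.range_fromSpec
  let t : Spec (.of Ω) ⟶ Spec Γ(W, V) := IsOpenImmersion.lift i tW (by
    rw [hi]
    rintro _ ⟨z, rfl⟩
    rw [Subsingleton.elim z (IsLocalRing.closedPoint Ω)]
    exact hyV)
  have ht : t ≫ i = tW := IsOpenImmersion.lift_fac _ _ _
  refine ⟨Γ(W, V), i ≫ W.ι ≫ g, inferInstance, t, by rw [reassoc_of% ht, reassoc_of% htW, hx'],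
    (secFunctor D).map (Over.homMk i rfl : Over.mk (i ≫ W.ι ≫ g) ⟶ Over.mk (W.ι ≫ g)).op σ, ?_⟩
  rw [map_map]
  refine Eq.trans ?_ hσ
  have h3 : (Over.homMk t (by
      change t ≫ i ≫ W.ι ≫ g = s
      rw [reassoc_of% ht, reassoc_of% htW, hx']) : Over.mk s ⟶ Over.mk (i ≫ W.ι ≫ g)) ≫
      (Over.homMk i rfl : Over.mk (i ≫ W.ι ≫ g) ⟶ Over.mk (W.ι ≫ g)) =
      Over.homMk tW (by
        change tW ≫ W.ι ≫ g = s
        rw [reassoc_of% htW, hx']) := by
    apply Over.OverMorphism.ext
    exact ht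
  exact congrArg (fun m => (secFunctor D).map (Quiver.Hom.op m) σ) h3

end Groth.Agent.Desc.EtSection
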