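import Groth.Agent.Desc.ToDD
import Mathlib.AlgebraicGeometry.Morphisms.Etale
import Mathlib.AlgebraicGeometry.Morphisms.FlatMono

/-!
# Full faithfulness of `Desc.toDD` on etale schemes (Stacks 0BTJ, 0BTK)
-/

set_option autoImplicit false
set_option backward.isDefEq.respectTransparency false
set_option backward.isDefEq.respectTransparency.types false
open CategoryTheory CategoryTheory.Limits AlgebraicGeometry Opposite
universe u
open _root_.Desc

namespace Groth.Agent.Desc.EtToDD

/-- An etale universally injective morphism is a monomorphism (hence an open immersion). -/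
theorem mono_of_etale_of_universallyInjective {X Y : Scheme.{u}} (f : X ⟶ Y) [Etale f]
    [UniversallyInjective f] : Mono f := by
  have h1 : Surjective (pullback.diagonal f) := (UniversallyInjective.iff_diagonal f).mp inferInstance
  have h2 : IsIso (pullback.diagonal f) := by
    have : Epi (pullback.diagonal f).base := by
      rw [TopCat.epi_iff_surjective]
      exact (pullback.diagonal f).surjective
    exact IsOpenImmersion.isIso (pullback.diagonal f)
  exact (pullback.isIso_diagonal_iff f).mp h2

/-- An etale universally injective morphism is an open immersion. -/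
theorem isOpenImmersion_of_etale_of_universallyInjective {X Y : Scheme.{u}} (f : X ⟶ Y) [Etale f]
    [UniversallyInjective f] : IsOpenImmersion f := by
  have := mono_of_etale_of_universallyInjective f
  exact IsOpenImmersion.of_flat_of_mono f

/-- An etale universally injective surjective morphism is an isomorphism. -/
theorem isIso_of_etale_of_universallyInjective {X Y : Scheme.{u}} (f : X ⟶ Y) [Etale f]
    [UniversallyInjective f] [Surjective f] : IsIso f := by
  have := isOpenImmersion_of_etale_of_universallyInjective f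
  have : Epi f.base := by
    rw [TopCat.epi_iff_surjective]
    exact f.surjective
  exact IsOpenImmersion.isIso f

/-- Two morphisms to a scheme unramified and locally of finite type over `S` that agree after
precomposing with a surjective morphism agree, if both are `S`-morphisms. -/
theorem eq_of_surjective_comp {S T Y U : Scheme.{u}} (q : T ⟶ Y) [Surjective q] (h : U ⟶ S)
    [LocallyOfFiniteType h] [FormallyUnramified h] (f g : Y ⟶ U) (hfg : f ≫ h = g ≫ h)
    (hq : q ≫ f = q ≫ g) : f = g := by
  let k : Y ⟶ pullback h h := pullback.lift f g hfg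
  have hle : Set.range k ⊆ Set.range (pullback.diagonal h) := by
    rintro _ ⟨u, rfl⟩
    obtain ⟨x, rfl⟩ := q.surjective u
    have e : q ≫ k = (q ≫ f) ≫ pullback.diagonal h := by
      apply pullback.hom_ext
      · simp [k]
      · simp [k, hq]
    refine ⟨(q ≫ f) x, ?_⟩
    rw [← Scheme.Hom.comp_apply, ← Scheme.Hom.comp_apply, e]
  have e := IsOpenImmersion.lift_fac (pullback.diagonal h) k hle
  have e1 : k ≫ pullback.fst _ _ = f := pullback.lift_fst _ _ _
  have e2 : k ≫ pullback.snd _ _ = g := pullback.lift_snd _ _ _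
  rw [← e1, ← e2, ← e, Category.assoc, Category.assoc, pullback.diagonal_fst, pullback.diagonal_snd]

/-- `toDD p` is faithful on etale schemes, for `p` surjective. -/
theorem map_injective_of_etale {X S : Scheme.{u}} (p : X ⟶ S) [Surjective p] (U₁ U₂ : Over S)
    [Etale U₂.hom] : Function.Injective ((toDD p).map : (U₁ ⟶ U₂) → _) := by
  intro f g hfg
  have hq : pullback.snd p U₁.hom ≫ f.left = pullback.snd p U₁.hom ≫ g.left := by
    have h : ((toDD p).map f).hom.left ≫ pullback.snd p U₂.hom =
      ((toDD p).map g).hom.left ≫ pullback.snd p U₂.hom := by rw [hfg]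
    simpa [toDD] using h
  apply Over.OverMorphism.ext
  exact eq_of_surjective_comp (pullback.snd p U₁.hom) U₂.hom f.left g.left
    ((Over.w f).trans (Over.w g).symm) hq

/-- Any two points of a fibre product of schemes over the same point can be hit by a common field-valued
point. -/
theorem exists_field_points {X Y Z : Scheme.{u}} (f : X ⟶ Z) (g : Y ⟶ Z) (x : X) (y : Y)
    (h : f x = g y) : ∃ (K : Type u) (_ : Field K) (a : Spec (CommRingCat.of K) ⟶ X)
      (b : Spec (CommRingCat.of K) ⟶ Y), a ≫ f = b ≫ g ∧ (∀ t, a t = x) ∧ (∀ t, b t = y) := by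
  obtain ⟨t, ht1, ht2⟩ := Scheme.Pullback.exists_preimage_pullback (f := f) (g := g) x y h
  refine ⟨(pullback f g).residueField t, inferInstance,
    (pullback f g).fromSpecResidueField t ≫ pullback.fst f g,
    (pullback f g).fromSpecResidueField t ≫ pullback.snd f g, ?_, ?_, ?_⟩
  · simp [pullback.condition]
  · intro s
    rw [Scheme.Hom.comp_apply]
    exact (congrArg (pullback.fst f g) (Scheme.fromSpecResidueField_apply t s)).trans ht1
  · intro s
    rw [Scheme.Hom.comp_apply]
    exact (congrArg (pullback.snd f g) (Scheme.fromSpecResidueField_apply t s)).trans ht2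

/-- Key lemma for Stacks 0BTK. -/
theorem exists_factor {Y' Y U S W' : Scheme.{u}} (q : Y' ⟶ Y) [Surjective q] (h : U ⟶ S) [Etale h]
    (s : Y ⟶ S) (φ : Y' ⟶ U) (hφ : q ≫ s = φ ≫ h) (r : W' ⟶ pullback s h) (v : W' ⟶ Y')
    (sq : IsPullback r v (pullback.fst s h) q) (hr : Topology.IsQuotientMap r.base)
    (hcomp : ∀ ⦃T : Scheme.{u}⦄ (a b : T ⟶ Y'), a ≫ q = b ≫ q → a ≫ φ = b ≫ φ) :
    ∃ ψ : Y ⟶ U, q ≫ ψ = φ ∧ ψ ≫ h = s := by
  let G : Y' ⟶ pullback s h := pullback.lift q φ hφ
  have hG1 : G ≫ pullback.fst s h = q := pullback.lift_fst _ _ _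
  have hG2 : G ≫ pullback.snd s h = φ := pullback.lift_snd _ _ _
  let Γ : Y' ⟶ W' := sq.lift G (𝟙 Y') (by rw [hG1, Category.id_comp])
  have hΓ1 : Γ ≫ r = G := sq.lift_fst _ _ _
  have hΓ2 : Γ ≫ v = 𝟙 Y' := sq.lift_snd _ _ _
  have hv : Etale v := MorphismProperty.of_isPullback sq inferInstance
  have hΓet : Etale Γ := by
    have : Etale (Γ ≫ v) := by rw [hΓ2]; infer_instance
    exact Etale.of_comp Γ v
  have hΓmono : Mono Γ := by
    have : Mono (Γ ≫ v) := by rw [hΓ2]; infer_instance
    exact mono_of_mono Γ v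
  have hΓo : IsOpenImmersion Γ := IsOpenImmersion.of_flat_of_mono Γ
  -- saturation
  have hsat : ∀ z z' : W', r z = r z' → z ∈ Set.range Γ → z' ∈ Set.range Γ := by
    intro z z' hzz' hz
    obtain ⟨K, _, a, b, hab, ha, hb⟩ := exists_field_points r r z z' hzz'
    have hra : Set.range a ⊆ Set.range Γ := by
      rintro _ ⟨t, rfl⟩
      rw [ha]; exact hz
    let a' := IsOpenImmersion.lift Γ a hra
    have ha' : a' ≫ Γ = a := IsOpenImmersion.lift_fac _ _ _
    have hb' : b = (b ≫ v) ≫ Γ := by
      apply sq.hom_ext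
      · apply pullback.hom_ext
        · rw [Category.assoc, Category.assoc, Category.assoc, Category.assoc, ← Category.assoc Γ r,
            hΓ1, hG1, sq.w]
        · rw [Category.assoc, Category.assoc, Category.assoc, Category.assoc, ← Category.assoc Γ r,
            hΓ1, hG2]
          have e1 : b ≫ r ≫ pullback.snd s h = a' ≫ φ := by
            rw [← Category.assoc, ← hab, ← ha', Category.assoc, Category.assoc, ← Category.assoc Γ,
              hΓ1, hG2]
          have e2 : a' ≫ q = (b ≫ v) ≫ q :=
            calc a' ≫ q = a' ≫ (Γ ≫ r) ≫ pullback.fst s h := by rw [hΓ1, hG1]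
              _ = ((a' ≫ Γ) ≫ r) ≫ pullback.fst s h := by simp only [Category.assoc]
              _ = b ≫ (r ≫ pullback.fst s h) := by rw [ha', hab, Category.assoc]
              _ = (b ≫ v) ≫ q := by rw [sq.w, Category.assoc]
          rw [e1, hcomp _ _ e2, Category.assoc]
      · rw [Category.assoc, hΓ2, Category.comp_id]
    have t0 : Spec (CommRingCat.of K) := IsLocalRing.closedPoint K
    refine ⟨(b ≫ v) t0, ?_⟩
    rw [← Scheme.Hom.comp_apply, ← hb', hb]
  have hopen : IsOpen (r.base '' (Set.range Γ)) := by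
    rw [← hr.isOpen_preimage]
    have : r.base ⁻¹' (r.base '' (Set.range Γ)) = Set.range Γ := by
      ext z
      constructor
      · rintro ⟨z', hz', e⟩
        exact hsat z' z e hz'
      · intro hz
        exact ⟨z, hz, rfl⟩
    rw [this]
    exact Γ.isOpenEmbedding.isOpen_range
  let O : (pullback s h).Opens := ⟨_, hopen⟩
  have hOmem : ∀ y : Y', G y ∈ O := by
    intro y
    refine ⟨Γ y, ⟨y, rfl⟩, ?_⟩
    rw [← hΓ1]
    rfl
  let π : (O : Scheme.{u}) ⟶ Y := O.ι ≫ pullback.fst s h
  have hGr : Set.range G ⊆ Set.range O.ι := by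
    rintro _ ⟨y, rfl⟩
    rw [Scheme.Opens.range_ι]
    exact hOmem y
  let g : Y' ⟶ (O : Scheme.{u}) := IsOpenImmersion.lift O.ι G hGr
  have hg : g ≫ O.ι = G := IsOpenImmersion.lift_fac _ _ _
  have hgπ : g ≫ π = q := by
    rw [← Category.assoc, hg, hG1]
  have hπs : Surjective π := by
    refine ⟨fun y => ?_⟩
    obtain ⟨y', rfl⟩ := q.surjective y
    refine ⟨g y', ?_⟩
    rw [← Scheme.Hom.comp_apply, hgπ]
  -- factorization of points of `O` through `G`
  have hfac : ∀ ⦃T : Scheme.{u}⦄ (a : T ⟶ (O : Scheme.{u})) (y' : T ⟶ Y'), a ≫ π = y' ≫ q →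
      a ≫ O.ι = y' ≫ G := by
    intro T a y' e
    let w : T ⟶ W' := sq.lift (a ≫ O.ι) y' (by rw [Category.assoc]; exact e)
    have hw1 : w ≫ r = a ≫ O.ι := sq.lift_fst _ _ _
    have hw2 : w ≫ v = y' := sq.lift_snd _ _ _
    have hwr : Set.range w ⊆ Set.range Γ := by
      rintro _ ⟨t, rfl⟩
      have h1 : r (w t) = O.ι (a t) := by
        rw [← Scheme.Hom.comp_apply, hw1, Scheme.Hom.comp_apply]
      have h2 : O.ι (a t) ∈ O := (a t).2
      obtain ⟨z, hz, hz'⟩ := h2
      exact hsat z (w t) (hz'.trans h1.symm) hz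
    have hl : IsOpenImmersion.lift Γ w hwr ≫ Γ = w := IsOpenImmersion.lift_fac _ _ _
    have hl2 : IsOpenImmersion.lift Γ w hwr = y' := by
      rw [← hw2]
      conv_rhs => rw [← hl]
      rw [Category.assoc, hΓ2, Category.comp_id]
    rw [← hw1, ← hl, Category.assoc, hΓ1, hl2]
  have hπu : UniversallyInjective π := by
    refine ((tfae_universallyInjective π).out 0 1).mpr ?_
    intro K _ a b hab
    dsimp only at hab
    let t0 : Spec (CommRingCat.of K) := IsLocalRing.closedPoint K
    obtain ⟨y', hy'⟩ := q.surjective ((a ≫ π) t0)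
    obtain ⟨L, _, c, d, hcd, hc, hd⟩ := exists_field_points (a ≫ π) q t0 y' hy'.symm
    have hflat : Flat c := by
      obtain ⟨ψ, rfl⟩ := Spec.map_surjective c
      rw [Flat.SpecMap_iff]
      algebraize [ψ.hom]
      exact inferInstanceAs (Module.Flat K L)
    have hsurj : Surjective c := by
      refine ⟨fun x => ?_⟩
      have : Subsingleton (Spec (CommRingCat.of K)) := inferInstanceAs (Subsingleton (PrimeSpectrum K))
      exact ⟨(IsLocalRing.closedPoint L : PrimeSpectrum L), Subsingleton.elim _ _⟩
    have hepi : Epi c := Flat.epi_of_flat_of_surjective c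
    rw [← cancel_epi c, ← cancel_mono O.ι, Category.assoc, Category.assoc,
      ← Category.assoc, ← Category.assoc]
    rw [hfac (c ≫ a) d (by rw [Category.assoc]; exact hcd),
      hfac (c ≫ b) d (by rw [Category.assoc, ← hab]; exact hcd)]
  have hπi : IsIso π := isIso_of_etale_of_universallyInjective π
  refine ⟨inv π ≫ O.ι ≫ pullback.snd s h, ?_, ?_⟩
  · have : q ≫ inv π = g := by
      rw [← hgπ, Category.assoc, IsIso.hom_inv_id, Category.comp_id]
    rw [← Category.assoc, this, ← Category.assoc, hg, hG2]
  · rw [Category.assoc, IsIso.inv_comp_eq, Category.assoc, Category.assoc, ← pullback.condition]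

/-- `toDD p` is full on etale schemes when `p` is "etale-locally submersive". -/
theorem map_surjective_of_etale {X S : Scheme.{u}} (p : X ⟶ S)
    (hp : ∀ U : Over S, Etale U.hom → Topology.IsQuotientMap (pullback.snd p U.hom).base)
    (U₁ U₂ : Over S) [Etale U₁.hom] [Etale U₂.hom] :
    Function.Surjective ((Desc.toDD p).map : (U₁ ⟶ U₂) → _) := by
  intro F
  let F' : canonicalDD p U₁ ⟶ canonicalDD p U₂ := F
  have hF : F'.hom.left ≫ pullback.fst p U₂.hom = pullback.fst p U₁.hom := Over.w F'.hom
  have hsurj : Surjective (pullback.snd p U₁.hom) := ⟨(hp U₁ inferInstance).surjective⟩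
  let W : Over S := Over.mk (pullback.fst U₁.hom U₂.hom ≫ U₁.hom)
  have hW : Etale W.hom := inferInstanceAs (Etale (pullback.fst U₁.hom U₂.hom ≫ U₁.hom))
  have sq1 : IsPullback (pullback.snd p U₁.hom) (pullback.fst p U₁.hom) U₁.hom p :=
    (IsPullback.of_hasPullback p U₁.hom).flip
  have sq2 : IsPullback (pullback.snd p W.hom) (pullback.fst p W.hom) W.hom p :=
    (IsPullback.of_hasPullback p W.hom).flip
  let v : pullback p W.hom ⟶ pullback p U₁.hom :=
    pullback.lift (pullback.fst p W.hom) (pullback.snd p W.hom ≫ pullback.fst U₁.hom U₂.hom)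
      (by rw [Category.assoc]; exact pullback.condition)
  have sq : IsPullback (pullback.snd p W.hom) v (pullback.fst U₁.hom U₂.hom)
      (pullback.snd p U₁.hom) := by
    refine IsPullback.of_bot (h₃₁ := p) (v₂₁ := pullback.fst p U₁.hom) (v₂₂ := U₁.hom) ?_ ?_ sq1
    · have : v ≫ pullback.fst p U₁.hom = pullback.fst p W.hom := pullback.lift_fst _ _ _
      rw [this]
      exact sq2
    · exact (pullback.lift_snd _ _ _).symm
  obtain ⟨ψ, hψ1, hψ2⟩ := exists_factor (pullback.snd p U₁.hom) U₂.hom U₁.hom
    (F'.hom.left ≫ pullback.snd p U₂.hom) (by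
      rw [Category.assoc, ← pullback.condition, ← pullback.condition, ← Category.assoc, hF])
    (pullback.snd p W.hom) v sq (hp W hW) (fun T a b hab => ToDD.comp_snd_eq p F' a b hab)
  refine ⟨Over.homMk ψ hψ2, ?_⟩
  apply SchDD.hom_ext
  apply Over.OverMorphism.ext
  apply pullback.hom_ext
  · have : F'.hom.left ≫ pullback.fst p U₂.hom = pullback.fst p U₁.hom := hF
    simp only [toDD, Over.homMk_left]
    rw [pullback.lift_fst]
    exact (Category.comp_id _).trans this.symm
  · simp only [toDD, Over.homMk_left]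
    rw [pullback.lift_snd]
    exact hψ1

end Groth.Agent.Desc.EtToDD
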