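import Mathlib.AlgebraicGeometry.Morphisms.Etale
import Mathlib.RingTheory.Unramified.LocalStructure

/-!
# Étale morphisms with quasi-compact source have bounded geometric fibres
-/

set_option autoImplicit false

open CategoryTheory CategoryTheory.Limits AlgebraicGeometry Opposite
universe u

namespace Groth.Agent.Desc.EtaleBound

/-- For a standard étale algebra, the number of homomorphisms to a field is bounded. -/
theorem exists_bound_of_isStandardEtale (A B : Type u) [CommRing A] [CommRing B] [Algebra A B]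
    [Algebra.IsStandardEtale A B] :
    ∃ n : ℕ, ∀ (Ω : Type u) [Field Ω] [Algebra A Ω], Nonempty ((B →ₐ[A] Ω) ↪ Fin n) := by
  classical
  let P : StandardEtalePresentation A B :=
    (Algebra.IsStandardEtale.nonempty_standardEtalePresentation).some
  refine ⟨P.f.natDegree, fun Ω _ _ => ?_⟩
  have hne : P.f.map (algebraMap A Ω) ≠ 0 := (P.monic_f.map _).ne_zero
  let s : Finset Ω := (P.f.map (algebraMap A Ω)).roots.toFinset
  have hs : s.card ≤ P.f.natDegree := by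
    refine (Multiset.toFinset_card_le _).trans ((Polynomial.card_roots' _).trans ?_)
    exact Polynomial.natDegree_map_le
  have hmem : ∀ ψ : B →ₐ[A] Ω, ψ P.x ∈ s := by
    intro ψ
    rw [Multiset.mem_toFinset, Polynomial.mem_roots hne, Polynomial.IsRoot,
      Polynomial.eval_map_algebraMap, Polynomial.aeval_algHom_apply, P.hasMap.1, map_zero]
  let e : (B →ₐ[A] Ω) ↪ s :=
    ⟨fun ψ => ⟨ψ P.x, hmem ψ⟩, fun ψ ψ' h => P.hom_ext (congrArg Subtype.val h)⟩
  exact ⟨e.trans (s.equivFin.toEmbedding.trans (Fin.castLEEmb hs))⟩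

/-- The underlying point of a field-valued point. -/
noncomputable abbrev pt {Ω : Type u} [Field Ω] {V : Scheme.{u}} (v : Spec (.of Ω) ⟶ V) : V :=
  v (IsLocalRing.closedPoint Ω)

theorem le_preimage_of_pt_mem {Ω : Type u} [Field Ω] {V : Scheme.{u}} (v : Spec (.of Ω) ⟶ V)
    (W : V.Opens) (h : pt v ∈ W) : (⊤ : (Spec (.of Ω)).Opens) ≤ v ⁻¹ᵁ W := by
  intro z _
  have : Subsingleton (Spec (CommRingCat.of Ω)) := inferInstanceAs (Subsingleton (PrimeSpectrum Ω))
  have hz : z = IsLocalRing.closedPoint Ω := Subsingleton.elim _ _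
  rw [hz]
  exact h

/-- The local form of the bound. -/
theorem exists_bound_local {V X : Scheme.{u}} (f : V ⟶ X) [Etale f] (v₀ : V) :
    ∃ (W : V.Opens) (n : ℕ), v₀ ∈ W ∧ ∀ (Ω : Type u) [Field Ω] (x : Spec (.of Ω) ⟶ X),
      Nonempty ({v : Spec (.of Ω) ⟶ V // v ≫ f = x ∧ pt v ∈ W} ↪ Fin n) := by
  obtain ⟨U, hU, hvU, -⟩ := exists_isAffineOpen_mem_and_subset (x := f v₀) (U := ⊤) trivial
  obtain ⟨W₀, hW₀, hvW₀, hWU⟩ := exists_isAffineOpen_mem_and_subset (x := v₀) (U := f ⁻¹ᵁ U) hvU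
  have hWU' : W₀ ≤ f ⁻¹ᵁ U := hWU
  let algB : Algebra Γ(X, U) Γ(V, W₀) := (f.appLE U W₀ hWU').hom.toAlgebra
  have hetB : Algebra.Etale Γ(X, U) Γ(V, W₀) := f.etale_appLE hU hW₀ hWU'
  let Q : Ideal Γ(V, W₀) := (hW₀.primeIdealOf ⟨v₀, hvW₀⟩).asIdeal
  have hQ : Q.IsPrime := (hW₀.primeIdealOf ⟨v₀, hvW₀⟩).isPrime
  obtain ⟨g, hgQ, hg⟩ := Algebra.IsEtaleAt.exists_isStandardEtale (R := Γ(X, U)) Q
  let W : V.Opens := V.basicOpen g
  have hW : IsAffineOpen W := hW₀.basicOpen g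
  have hWW₀ : W ≤ W₀ := V.basicOpen_le g
  have hv₀W : v₀ ∈ W := by
    have h1 : hW₀.primeIdealOf ⟨v₀, hvW₀⟩ ∈ hW₀.fromSpec ⁻¹ᵁ V.basicOpen g := by
      rw [hW₀.fromSpec_preimage_basicOpen]
      exact hgQ
    have h2 : hW₀.fromSpec (hW₀.primeIdealOf ⟨v₀, hvW₀⟩) ∈ V.basicOpen g := h1
    rwa [hW₀.fromSpec_primeIdealOf] at h2
  have hle : W ≤ f ⁻¹ᵁ U := hWW₀.trans hWU'
  let algW : Algebra Γ(X, U) Γ(V, W) := (f.appLE U W hle).hom.toAlgebra
  have hloc : IsLocalization.Away g Γ(V, W) := hW₀.isLocalization_basicOpen g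
  have : IsScalarTower Γ(X, U) Γ(V, W₀) Γ(V, W) := by
    refine .of_algebraMap_eq' ?_
    change (f.appLE U W hle).hom = (V.presheaf.map _).hom.comp (f.appLE U W₀ hWU').hom
    rw [← CommRingCat.hom_comp, Scheme.Hom.appLE_map]
  have hst : Algebra.IsStandardEtale Γ(X, U) Γ(V, W) :=
    Algebra.IsStandardEtale.of_equiv
      ((IsLocalization.algEquiv (.powers g) (Localization.Away g) Γ(V, W)).restrictScalars Γ(X, U))
  obtain ⟨n, hn⟩ := exists_bound_of_isStandardEtale Γ(X, U) Γ(V, W)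
  refine ⟨W, n, hv₀W, fun Ω _ x => ?_⟩
  by_cases hemp : IsEmpty {v : Spec (.of Ω) ⟶ V // v ≫ f = x ∧ pt v ∈ W}
  · exact ⟨⟨fun a => hemp.elim a, fun a => hemp.elim a⟩⟩
  · rw [not_isEmpty_iff] at hemp
    obtain ⟨v₁, hv₁, hv₁W⟩ := hemp
    have hxU : (⊤ : (Spec (.of Ω)).Opens) ≤ x ⁻¹ᵁ U := by
      apply le_preimage_of_pt_mem
      rw [← hv₁]
      exact hle hv₁W
    let algΩ : Algebra Γ(X, U) Ω :=
      (x.appLE U ⊤ hxU ≫ (Scheme.ΓSpecIso (.of Ω)).hom).hom.toAlgebra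
    obtain ⟨e⟩ := hn Ω
    let F : {v : Spec (.of Ω) ⟶ V // v ≫ f = x ∧ pt v ∈ W} → (Γ(V, W) →ₐ[Γ(X, U)] Ω) := fun v =>
      { (v.1.appLE W ⊤ (le_preimage_of_pt_mem v.1 W v.2.2) ≫ (Scheme.ΓSpecIso (.of Ω)).hom).hom with
        commutes' := fun a => by
          have h1 : f.appLE U W hle ≫ v.1.appLE W ⊤ (le_preimage_of_pt_mem v.1 W v.2.2) =
              x.appLE U ⊤ hxU := by
            rw [Scheme.Hom.appLE_comp_appLE]
            congr 1
            exact v.2.1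
          change (v.1.appLE W ⊤ _ ≫ (Scheme.ΓSpecIso (.of Ω)).hom).hom ((f.appLE U W hle).hom a) =
            (x.appLE U ⊤ hxU ≫ (Scheme.ΓSpecIso (.of Ω)).hom).hom a
          rw [← h1]
          rfl }
    have hF : Function.Injective F := by
      intro v v' h
      have h1 : v.1.appLE W ⊤ (le_preimage_of_pt_mem v.1 W v.2.2) =
          v'.1.appLE W ⊤ (le_preimage_of_pt_mem v'.1 W v'.2.2) := by
        rw [← cancel_mono (Scheme.ΓSpecIso (.of Ω)).hom]
        ext a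
        exact DFunLike.congr_fun h a
      have h2 := IsAffineOpen.SpecMap_appLE_fromSpec v.1 hW (isAffineOpen_top _)
        (le_preimage_of_pt_mem v.1 W v.2.2)
      have h3 := IsAffineOpen.SpecMap_appLE_fromSpec v'.1 hW (isAffineOpen_top _)
        (le_preimage_of_pt_mem v'.1 W v'.2.2)
      rw [← h1, h2] at h3
      apply Subtype.ext
      have : IsIso (isAffineOpen_top (Spec (CommRingCat.of Ω))).fromSpec := by
        rw [isIso_iff_isOpenImmersion_and_surjective]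
        refine ⟨inferInstance, ⟨?_⟩⟩
        rw [← Set.range_eq_univ, IsAffineOpen.range_fromSpec]
        rfl
      exact (cancel_epi _).mp h3
    exact ⟨⟨fun v => e (F v), fun v v' h => hF (e.injective h)⟩⟩

/-- Étale morphisms with quasi-compact source have bounded geometric fibres. -/
theorem exists_embedding {V X : Scheme.{u}} (f : V ⟶ X) [Etale f] [CompactSpace V] :
    ∃ n : ℕ, ∀ (Ω : Type u) [Field Ω] (x : Spec (.of Ω) ⟶ X),
      Nonempty ({v : Spec (.of Ω) ⟶ V // v ≫ f = x} ↪ Fin n) := by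
  choose W n hWn using exists_bound_local f
  have hW := fun v => (hWn v).1
  have hn := fun v => (hWn v).2
  obtain ⟨t, ht⟩ := CompactSpace.elim_nhds_subcover (fun v => (W v : Set V))
    (fun v => (W v).isOpen.mem_nhds (hW v))
  refine ⟨Fintype.card (Σ v : t, Fin (n v)), fun Ω _ x => ?_⟩
  have e : ∀ v : V, ({v' : Spec (.of Ω) ⟶ V // v' ≫ f = x ∧ pt v' ∈ W v} ↪ Fin (n v)) :=
    fun v => (hn v Ω x).some
  have hcov : ∀ z : V, ∃ v : t, z ∈ W v.1 := by
    intro z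
    have hz : z ∈ ⋃ v ∈ t, (W v : Set V) := by rw [ht]; trivial
    simp only [Set.mem_iUnion] at hz
    obtain ⟨v, hv, hz⟩ := hz
    exact ⟨⟨v, hv⟩, hz⟩
  choose c hc using hcov
  let F : {v : Spec (.of Ω) ⟶ V // v ≫ f = x} → Σ v : t, Fin (n v) := fun v =>
    ⟨c (pt v.1), e (c (pt v.1)).1 ⟨v.1, v.2, hc _⟩⟩
  have key : ∀ (i j : t) (v v' : Spec (.of Ω) ⟶ V) (hv : v ≫ f = x ∧ pt v ∈ W i.1)
      (hv' : v' ≫ f = x ∧ pt v' ∈ W j.1),
      (⟨i, e i.1 ⟨v, hv⟩⟩ : Σ v : t, Fin (n v)) = ⟨j, e j.1 ⟨v', hv'⟩⟩ → v = v' := by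
    intro i j v v' hv hv' h
    obtain rfl : i = j := congrArg Sigma.fst h
    have h2 := eq_of_heq (Sigma.mk.inj h).2
    exact congrArg Subtype.val ((e i.1).injective h2)
  have hF : Function.Injective F := fun v v' h => Subtype.ext (key _ _ _ _ _ _ h)
  exact ⟨(Function.Embedding.mk F hF).trans (Fintype.equivFin _).toEmbedding⟩

theorem exists_bound {V X : Scheme.{u}} (f : V ⟶ X) [Etale f] [CompactSpace V] :
    ∃ n : ℕ, ∀ (Ω : Type u) [Field Ω] (x : Spec (.of Ω) ⟶ X)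
      (a : Fin (n + 1) → {v : Spec (.of Ω) ⟶ V // v ≫ f = x}), ¬ Function.Injective a := by
  obtain ⟨n, hn⟩ := exists_embedding f
  refine ⟨n, fun Ω _ x a ha => ?_⟩
  obtain ⟨e⟩ := hn Ω x
  have := Fintype.card_le_of_injective (fun i => e (a i)) (fun i j h => ha (e.injective h))
  simp at this

end Groth.Agent.Desc.EtaleBound
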