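import Mathlib.AlgebraicGeometry.Sites.Fpqc

/-!
# Refining fpqc covers of quasi-compact schemes by finite families of affine schemes
-/

set_option autoImplicit false
set_option backward.isDefEq.respectTransparency false
set_option backward.isDefEq.respectTransparency.types false
open CategoryTheory CategoryTheory.Limits AlgebraicGeometry
universe v u

namespace Groth.Agent.Desc.FpqcRefine

variable {S : Scheme.{u}} {ι : Type v} {X : ι → Scheme.{u}} (f : ∀ i, X i ⟶ S)

theorem flat_of_mem (hf : Presieve.ofArrows X f ∈ Scheme.fpqcPrecoverage S) (i : ι) : Flat (f i) := by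
  have h : Presieve.ofArrows X f ∈ Scheme.precoverage @Flat S := hf.2
  rw [Scheme.ofArrows_mem_precoverage_iff] at h
  exact h.2 i

/-- A finite affine refinement by open immersions of an fpqc cover of a quasi-compact scheme. -/
theorem exists_refine [CompactSpace S] (hf : Presieve.ofArrows X f ∈ Scheme.fpqcPrecoverage S) :
    ∃ (n : ℕ) (W : Fin n → Scheme.{u}) (α : Fin n → ι) (p : ∀ k, W k ⟶ X (α k)),
      (∀ k, IsOpenImmersion (p k)) ∧ (∀ k, IsAffine (W k)) ∧ (∀ k, Flat (p k ≫ f (α k))) ∧
      ∀ s : S, ∃ (k : Fin n) (w : W k), (p k ≫ f (α k)) w = s := by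
  let E : PreZeroHypercover.{v} S := { I₀ := ι, X := X, f := f }
  have hE : QuasiCompactCover E := Scheme.presieve₀_mem_qcPrecoverage_iff.1 hf.1
  obtain ⟨n, α, V, hV, h⟩ := QuasiCompactCover.exists_isAffineOpen_of_isCompact E
    (U := ⊤) (show IsCompact (⊤ : TopologicalSpace.Opens S).carrier from isCompact_univ)
  refine ⟨n, fun k => (V k).toScheme, α, fun k => (V k).ι, fun k => inferInstance,
    fun k => hV k, fun k => ?_, fun s => ?_⟩
  · have := flat_of_mem f hf (α k)
    infer_instance
  · have hs : s ∈ ⋃ i, E.f (α i) '' (V i) := by rw [h]; trivial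
    obtain ⟨k, x, hx, hxs⟩ := Set.mem_iUnion.1 hs
    exact ⟨k, ⟨x, hx⟩, hxs⟩

end Groth.Agent.Desc.FpqcRefine
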