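import Groth.Agent.Desc.ModSec3
import Groth.Agent.Desc.FpqcRefine
import Groth.Agent.Sga3C.DDEff

/-!
# Effectivity of descent of quasi-coherent modules for finite flat families of affine schemes
-/

set_option autoImplicit false
set_option backward.isDefEq.respectTransparency false
set_option backward.isDefEq.respectTransparency.types false
open CategoryTheory CategoryTheory.Limits AlgebraicGeometry Opposite Bicategory
universe t u

namespace Groth.Agent.Desc.FinFamEff

open Groth.Agent.Sga3C.DDEff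

theorem sigmaDesc_surjective {κ : Type} {W : κ → Scheme.{u}} {V : Scheme.{u}}
    (w : ∀ k, W k ⟶ V) (hs : ∀ x : V, ∃ (k : κ) (y : W k), w k y = x) :
    Surjective (Sigma.desc w) := by
  refine ⟨fun x => ?_⟩
  obtain ⟨k, y, rfl⟩ := hs x
  refine ⟨Sigma.ι W k y, ?_⟩
  rw [← Scheme.Hom.comp_apply, Sigma.ι_desc]

theorem flat_sigmaDesc {κ : Type} {W : κ → Scheme.{u}} {V : Scheme.{u}}
    (w : ∀ k, W k ⟶ V) [∀ k, Flat (w k)] : Flat (Sigma.desc w) :=
  IsZariskiLocalAtSource.sigmaDesc (P := @Flat) (fun _ => inferInstance)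

theorem ofArrows_mem_of_surjective {T V : Scheme.{u}} (g : T ⟶ V) [Flat g] [Surjective g]
    [QuasiCompact g] : Sieve.ofArrows (fun _ : PUnit.{1} => T) (fun _ => g) ∈ Scheme.fpqcTopology V := by
  have h := Precoverage.generate_mem_toGrothendieck g.singleton_mem_fpqcPrecoverage
  rwa [← Presieve.ofArrows_pUnit.{0}] at h

theorem ofArrows_ι_mem {κ : Type} {W : κ → Scheme.{u}} :
    Sieve.ofArrows W (Sigma.ι W) ∈ Scheme.fpqcTopology (∐ W) := by
  apply Scheme.zariskiTopology_le_fpqcTopology
  exact (sigmaOpenCover W).mem_grothendieckTopology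

variable (Q : SheafClass _root_.Desc.modPF.{u} Scheme.fpqcTopology.{u})
  (hQ : ∀ (X : Scheme.{u}) (M : X.Modules), Q.P X M ↔ Coh.IsQCoh M)

include hQ in
theorem effective_single {T V : Scheme.{u}} [IsAffine T] [IsAffine V] (g : T ⟶ V) [Flat g] :
    Q.Effective (fun _ : PUnit.{1} => g) := by
  intro D hD
  obtain ⟨M, hM, e⟩ := ModSec.affine_effective g D ((hQ _ _).1 (hD PUnit.unit))
  exact ⟨M, (hQ _ _).2 hM, e⟩

include hQ in
theorem effective_finite {κ : Type} [Finite κ] {W : κ → Scheme.{u}} {V : Scheme.{u}}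
    [∀ k, IsAffine (W k)] [IsAffine V] (w : ∀ k, W k ⟶ V) [∀ k, Flat (w k)]
    (hs : ∀ x : V, ∃ (k : κ) (y : W k), w k y = x) (hw : Sieve.ofArrows W w ∈ Scheme.fpqcTopology V)
    (hzar : Q.Effective (Sigma.ι W)) :
    Q.Effective w := by
  have : Surjective (Sigma.desc w) := sigmaDesc_surjective w hs
  have : Flat (Sigma.desc w) := flat_sigmaDesc w
  have : IsAffine (∐ W) := inferInstance
  refine SheafClass.Effective.of_local Q (κ := PUnit.{1}) (U := fun _ => ∐ W)
    (g := fun _ => Sigma.desc w) (V := fun _ k => pullback (w k) (Sigma.desc w))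
    (v := fun _ k => pullback.snd (w k) (Sigma.desc w))
    (p := fun _ k => pullback.fst (w k) (Sigma.desc w))
    (fun _ k => IsPullback.of_hasPullback _ _) hw (ofArrows_mem_of_surjective _)
    (effective_single Q hQ _) (fun _ => ?_)
  refine SheafClass.Effective.of_refine Q (f' := Sigma.ι W) (α := fun k => k)
    (p' := fun k => pullback.lift (𝟙 _) (Sigma.ι W k) (by rw [Category.id_comp, Sigma.ι_desc]))
    (fun k => pullback.lift_snd _ _ _) ofArrows_ι_mem hzar

theorem ofArrows_mem_of_finite {κ : Type} [Finite κ] {W : κ → Scheme.{u}} {V : Scheme.{u}}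
    [∀ k, IsAffine (W k)] [IsAffine V] (w : ∀ k, W k ⟶ V) [∀ k, Flat (w k)]
    (hs : ∀ x : V, ∃ (k : κ) (y : W k), w k y = x) :
    Sieve.ofArrows W w ∈ Scheme.fpqcTopology V := by
  have : Surjective (Sigma.desc w) := sigmaDesc_surjective w hs
  have : Flat (Sigma.desc w) := flat_sigmaDesc w
  have : IsAffine (∐ W) := inferInstance
  refine (Scheme.fpqcTopology).transitive (ofArrows_mem_of_surjective (Sigma.desc w)) _ ?_
  rintro Y g ⟨Z, a, b, ⟨i⟩, rfl⟩
  rw [Sieve.pullback_comp]
  apply (Scheme.fpqcTopology).pullback_stable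
  refine (Scheme.fpqcTopology).superset_covering ?_ (ofArrows_ι_mem (W := W))
  rintro Y g ⟨Z, a, b, ⟨i⟩, rfl⟩
  refine ⟨_, a, _, ⟨i⟩, ?_⟩
  rw [Category.assoc, Sigma.ι_desc]

include hQ in
/-- All descent data of quasi-coherent modules relative to an fpqc cover of an affine scheme are
effective, if this is so for finite Zariski covers of affine schemes by disjoint open pieces. -/
theorem effective_of_isAffine {ι : Type u} {S : Scheme.{u}} [IsAffine S] {X : ι → Scheme.{u}}
    (f : ∀ i, X i ⟶ S) (hf : Presieve.ofArrows X f ∈ Scheme.fpqcPrecoverage S)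
    (hzar : ∀ (n : ℕ) (W : Fin n → Scheme.{u}), (∀ k, IsAffine (W k)) → Q.Effective (Sigma.ι W)) :
    Q.Effective f := by
  obtain ⟨n, W, α, p, hp, hW, hflat, hs⟩ := FpqcRefine.exists_refine f hf
  have hw := ofArrows_mem_of_finite (fun k => p k ≫ f (α k)) hs
  exact SheafClass.Effective.of_refine Q (α := α) (p' := p) (fun _ => rfl) hw
    (effective_finite Q hQ _ hs hw (hzar n W hW))

end Groth.Agent.Desc.FinFamEff
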