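import Mathlib.RingTheory.Henselian
import Mathlib.AlgebraicGeometry.Morphisms.Etale
import Mathlib.AlgebraicGeometry.Morphisms.Finite
import Mathlib.AlgebraicGeometry.Morphisms.Separated
import Mathlib.AlgebraicGeometry.Pullbacks
import Mathlib.AlgebraicGeometry.ZariskisMainTheorem

/-!
# Splitting off the finite part over a ring along whose ideal idempotents lift (Stacks 0BTN)

`split_of_idempotent_lift`: `I` in the Jacobson radical of `A`, idempotents lift along `B → B/IB` for every
integral `A`-algebra `B`, `g : U ⟶ Spec A` separated quasi-finite of finite type with finite restriction to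
`V(I)`: then `U` is the disjoint union of a finite part and a part without points over `V(I)`.
-/

set_option autoImplicit false
set_option backward.isDefEq.respectTransparency false
set_option backward.isDefEq.respectTransparency.types false
open CategoryTheory CategoryTheory.Limits AlgebraicGeometry Opposite
universe u

namespace Groth.Agent.Desc.HenselSplit

theorem range_pullback_quotient (A : Type u) [CommRing A] (I : Ideal A) {U : Scheme.{u}}
    (g : U ⟶ Spec (CommRingCat.of A)) :
    Set.range (pullback.fst g (Spec.map (CommRingCat.ofHom (Ideal.Quotient.mk I)))) =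
      {u | I ≤ (g.base u : PrimeSpectrum A).asIdeal} := by
  rw [Scheme.Pullback.range_fst]
  ext u
  have : Set.range (Spec.map (CommRingCat.ofHom (Ideal.Quotient.mk I))) =
      PrimeSpectrum.zeroLocus (I : Set A) := by
    have := _root_.range_comap_of_surjective (R := A) (S := A ⧸ I) (Ideal.Quotient.mk I)
      Ideal.Quotient.mk_surjective
    rw [Ideal.mk_ker] at this
    exact this
  rw [this]
  rfl

theorem key (A : Type u) [CommRing A] (I : Ideal A) (hI : I ≤ Ideal.jacobson ⊥) (B : CommRingCat.{u})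
    (φ : CommRingCat.of A ⟶ B) (hφ : φ.hom.IsIntegral)
    (hlift : ∀ e₀ : B ⧸ I.map φ.hom, IsIdempotentElem e₀ →
      ∃ e : B, IsIdempotentElem e ∧ Ideal.Quotient.mk (I.map φ.hom) e = e₀)
    {U : Scheme.{u}} (j : U ⟶ Spec B) [IsOpenImmersion j] (g : U ⟶ Spec (CommRingCat.of A))
    (hg : j ≫ Spec.map φ = g) [LocallyOfFiniteType g]
    (hfin : IsFinite (pullback.snd g (Spec.map (CommRingCat.ofHom (Ideal.Quotient.mk I))))) :
    ∃ W : U.Opens, IsClosed (W : Set U) ∧ IsFinite (W.ι ≫ g) ∧
      ∀ u : U, u ∉ W → ¬ I ≤ (g.base u : PrimeSpectrum A).asIdeal := by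
  set ι := Spec.map (CommRingCat.ofHom (Ideal.Quotient.mk I)) with hι
  have hιc : IsClosedImmersion ι :=
    IsClosedImmersion.spec_of_surjective _ Ideal.Quotient.mk_surjective
  -- the closed subset `range j ∩ V(IB)`
  have hfin' : IsFinite (pullback.fst g ι ≫ j) := by
    let m : pullback g ι ⟶ pullback (Spec.map φ) ι :=
      pullback.map g ι (Spec.map φ) ι j (𝟙 _) (𝟙 _) (by rw [Category.comp_id, hg])
        (by rw [Category.comp_id, Category.id_comp])
    have hm : m ≫ pullback.snd _ _ = pullback.snd g ι := by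
      simp [m]
    have hm1 : m ≫ pullback.fst _ _ = pullback.fst g ι ≫ j := by
      simp [m]
    have haff : IsAffineHom (Spec.map φ) := inferInstance
    have hfin2 : IsFinite (m ≫ pullback.snd (Spec.map φ) ι) := by rw [hm]; exact hfin
    have : IsFinite m := IsFinite.of_comp m (pullback.snd (Spec.map φ) ι)
    rw [← hm1]
    infer_instance
  have hclosed : IsClosed (Set.range (pullback.fst g ι ≫ j)) :=
    (pullback.fst g ι ≫ j).isClosedMap.isClosed_range
  have hrange : Set.range (pullback.fst g ι ≫ j) =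
      {x | x ∈ Set.range j ∧ I ≤ ((Spec.map φ) x : PrimeSpectrum A).asIdeal} := by
    have h1 : Set.range (pullback.fst g ι ≫ j) = j '' Set.range (pullback.fst g ι) := by
      rw [← Set.range_comp]
      rfl
    rw [h1, range_pullback_quotient]
    ext x
    constructor
    · rintro ⟨u, hu, rfl⟩
      refine ⟨⟨u, rfl⟩, ?_⟩
      rw [← Scheme.Hom.comp_apply, hg]
      exact hu
    · rintro ⟨⟨u, rfl⟩, hu⟩
      refine ⟨u, ?_, rfl⟩
      rw [← Scheme.Hom.comp_apply, hg] at hu
      exact hu
  -- the clopen subset of `Spec (B / IB)`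
  let q : (B : Type u) →+* B ⧸ I.map φ.hom := Ideal.Quotient.mk (I.map φ.hom)
  let R : Set (PrimeSpectrum B) := Set.range j
  have hRopen : IsOpen R := j.isOpenEmbedding.isOpen_range
  let Z₀ : Set (PrimeSpectrum (B ⧸ I.map φ.hom)) := PrimeSpectrum.comap q ⁻¹' R
  have hker : ∀ z : PrimeSpectrum (B ⧸ I.map φ.hom), I.map φ.hom ≤ (PrimeSpectrum.comap q z).asIdeal := by
    intro z b hb
    change q b ∈ z.asIdeal
    rw [Ideal.Quotient.eq_zero_iff_mem.mpr hb]
    exact zero_mem _
  have hIz : ∀ x : PrimeSpectrum B, I.map φ.hom ≤ x.asIdeal ↔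
      I ≤ (PrimeSpectrum.comap φ.hom x).asIdeal := by
    intro x
    rw [Ideal.map_le_iff_le_comap]
    rfl
  have hZ₀ : IsClopen Z₀ := by
    refine ⟨?_, hRopen.preimage (PrimeSpectrum.continuous_comap q)⟩
    have : Z₀ = PrimeSpectrum.comap q ⁻¹' (Set.range (pullback.fst g ι ≫ j)) := by
      rw [hrange]
      ext z
      constructor
      · intro hz
        exact ⟨hz, (hIz _).mp (hker z)⟩
      · intro hz
        exact hz.1
    rw [this]
    exact hclosed.preimage (PrimeSpectrum.continuous_comap q)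
  obtain ⟨e₀, he₀, heq⟩ := PrimeSpectrum.exists_idempotent_basicOpen_eq_of_isClopen hZ₀
  obtain ⟨e, he, hee⟩ := hlift e₀ he₀
  have hmem : ∀ x : PrimeSpectrum B, I.map φ.hom ≤ x.asIdeal → (e ∉ x.asIdeal ↔ x ∈ R) := by
    intro x hx
    have hx' : x ∈ Set.range (PrimeSpectrum.comap q) := by
      rw [_root_.range_comap_of_surjective _ _ Ideal.Quotient.mk_surjective, Ideal.mk_ker]
      exact hx
    obtain ⟨z, rfl⟩ := hx'
    have h1 : z ∈ Z₀ ↔ e₀ ∉ z.asIdeal := by
      rw [heq]
      exact Iff.rfl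
    change q e ∉ z.asIdeal ↔ z ∈ Z₀
    rw [h1]
    have : q e = e₀ := hee
    rw [this]
  -- `D(e)` is contained in the range of `j`
  have hDR : ∀ x : PrimeSpectrum B, e ∉ x.asIdeal → x ∈ R := by
    intro x hx
    by_contra hxR
    let Z : Set (PrimeSpectrum B) := (PrimeSpectrum.basicOpen e : Set (PrimeSpectrum B)) \ R
    have hZc : IsClosed Z := by
      refine IsClosed.sdiff ?_ hRopen
      exact (PrimeSpectrum.isClopen_iff.mpr ⟨e, he, rfl⟩).1
    have hZi : IsClosed (PrimeSpectrum.comap φ.hom '' Z) :=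
      PrimeSpectrum.isClosedMap_comap_of_isIntegral _ hφ _ hZc
    have hxZ : x ∈ Z := ⟨hx, hxR⟩
    obtain ⟨m, hm, hxm⟩ := Ideal.exists_le_maximal (PrimeSpectrum.comap φ.hom x).asIdeal
      (PrimeSpectrum.comap φ.hom x).isPrime.ne_top
    have hmZ : (⟨m, hm.isPrime⟩ : PrimeSpectrum A) ∈ PrimeSpectrum.comap φ.hom '' Z := by
      have hs : (PrimeSpectrum.comap φ.hom x) ⤳ (⟨m, hm.isPrime⟩ : PrimeSpectrum A) := by
        rw [← PrimeSpectrum.le_iff_specializes]
        exact hxm
      exact hs.mem_closed hZi ⟨x, hxZ, rfl⟩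
    obtain ⟨z, hz, hzm⟩ := hmZ
    have hIm : I ≤ m := by
      refine hI.trans ?_
      exact sInf_le ⟨bot_le, hm⟩
    have hIz' : I.map φ.hom ≤ z.asIdeal := by
      rw [hIz, hzm]
      exact hIm
    exact hz.2 ((hmem z hIz').mp hz.1)
  -- the finite part
  let D : (Spec B).Opens := PrimeSpectrum.basicOpen e
  let W : U.Opens := j ⁻¹ᵁ D
  have hDclosed : IsClosed (D : Set (Spec B)) :=
    (PrimeSpectrum.isClopen_iff.mpr ⟨e, he, rfl⟩).1
  refine ⟨W, hDclosed.preimage j.continuous, ?_, ?_⟩
  · have hWr : Set.range (W.ι ≫ j) = (D : Set (Spec B)) := by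
      ext x
      constructor
      · rintro ⟨w, rfl⟩
        exact w.2
      · intro hx
        obtain ⟨u, hu⟩ := hDR x hx
        have huW : u ∈ W := by
          change j u ∈ D
          have : j u = x := hu
          rw [this]; exact hx
        exact ⟨⟨u, huW⟩, hu⟩
    have hci : IsClosedImmersion (W.ι ≫ j) :=
      IsClosedImmersion.of_isPreimmersion _ (by rw [hWr]; exact hDclosed)
    have hint : IsIntegralHom (Spec.map φ) := by
      rw [IsIntegralHom.SpecMap_iff]
      exact hφ
    have h1 : IsIntegralHom ((W.ι ≫ j) ≫ Spec.map φ) := inferInstance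
    have h2 : (W.ι ≫ j) ≫ Spec.map φ = W.ι ≫ g := by rw [Category.assoc, hg]
    rw [h2] at h1
    exact (IsFinite.iff_isIntegralHom_and_locallyOfFiniteType _).mpr ⟨h1, inferInstance⟩
  · intro u hu hIu
    apply hu
    change e ∉ (j u : PrimeSpectrum B).asIdeal
    refine (hmem (j u) ?_).mpr ⟨u, rfl⟩
    rw [hIz]
    have : g u = (Spec.map φ) (j u) := by rw [← Scheme.Hom.comp_apply, hg]
    change I ≤ ((Spec.map φ) (j u) : PrimeSpectrum A).asIdeal
    rw [← this]
    exact hIu

/-- Splitting off the finite part. -/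
theorem split_of_idempotent_lift (A : Type u) [CommRing A] (I : Ideal A) (hI : I ≤ Ideal.jacobson ⊥)
    (hlift : ∀ (B : Type u) [CommRing B] [Algebra A B], Algebra.IsIntegral A B →
      ∀ e₀ : B ⧸ I.map (algebraMap A B), IsIdempotentElem e₀ →
      ∃ e : B, IsIdempotentElem e ∧ Ideal.Quotient.mk (I.map (algebraMap A B)) e = e₀)
    {U : Scheme.{u}} (g : U ⟶ Spec (CommRingCat.of A)) [QuasiCompact g] [IsSeparated g]
    [LocallyOfFiniteType g] [LocallyQuasiFinite g]
    (hfin : IsFinite (pullback.snd g (Spec.map (CommRingCat.ofHom (Ideal.Quotient.mk I))))) :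
    ∃ W : U.Opens, IsClosed (W : Set U) ∧ IsFinite (W.ι ≫ g) ∧
      ∀ u : U, u ∉ W → ¬ I ≤ (g.base u : PrimeSpectrum A).asIdeal := by
  have hN : IsAffine g.normalization := isAffine_of_isAffineHom g.fromNormalization
  obtain ⟨φ, hφ⟩ := Spec.map_surjective (g.normalization.isoSpec.inv ≫ g.fromNormalization)
  have hint : IsIntegralHom (Spec.map φ) := by rw [hφ]; infer_instance
  rw [IsIntegralHom.SpecMap_iff] at hint
  algebraize [φ.hom]
  exact key A I hI _ φ hint (fun e₀ he₀ => hlift _ ‹_› e₀ he₀)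
    (g.toNormalization ≫ g.normalization.isoSpec.hom) g
    (by rw [hφ, Category.assoc, Iso.hom_inv_id_assoc, Scheme.Hom.toNormalization_fromNormalization])
    hfin

end Groth.Agent.Desc.HenselSplit
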