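import Groth.Agent.Desc.MorDescent
import Mathlib.AlgebraicGeometry.Morphisms.SchemeTheoreticallyDominant
import Mathlib.AlgebraicGeometry.Morphisms.Immersion
import Mathlib.AlgebraicGeometry.Morphisms.FinitePresentation

/-!
# descent of immersions
-/

set_option autoImplicit false
open CategoryTheory CategoryTheory.Limits AlgebraicGeometry Opposite MorphismProperty
universe u

namespace Groth.Agent.Desc.ImmersionDescent

open Groth.Agent.Desc.MorDescent

/-- A quasi-compact scheme-theoretically dominant immersion is an open immersion. -/
theorem isOpenImmersion_of_isImmersion_of_dominant {X Y : Scheme.{u}} (e : X ⟶ Y) [IsImmersion e]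
    [QuasiCompact e] [IsSchemeTheoreticallyDominant e] : IsOpenImmersion e := by
  have : IsIso e.imageι := by
    delta Scheme.Hom.imageι Scheme.Hom.image; rw [e.ker_eq_bot]; infer_instance
  rw [← e.toImage_imageι]
  infer_instance

theorem isSchemeTheoreticallyDominant_toImage {X Y : Scheme.{u}} (f : X ⟶ Y) [QuasiCompact f] :
    IsSchemeTheoreticallyDominant f.toImage := by
  constructor
  refine Scheme.IdealSheafData.ext_of_iSup_eq_top
    (fun U : Y.affineOpens ↦ ⟨f.imageι ⁻¹ᵁ U.1, U.2.preimage f.imageι⟩) ?_ ?_
  · rw [← Scheme.Hom.preimage_iSup, iSup_affineOpens_eq_top]; rfl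
  · intro U
    simp only [Scheme.Hom.ker_apply, Scheme.IdealSheafData.ideal_bot, Pi.bot_apply]
    rw [← RingHom.injective_iff_ker_eq_bot]
    exact f.toImage_app_injective U

/-- The scheme-theoretic image of a quasi-compact morphism commutes with flat base change: the induced
morphism is scheme-theoretically dominant. -/
theorem isPullback_map_toImage {X Y Z : Scheme.{u}} (f : X ⟶ Z) (g : Y ⟶ Z) :
    IsPullback (pullback.map f g f g.imageι (𝟙 _) g.toImage (𝟙 _) (by simp) (by simp))
      (pullback.snd f g) (pullback.snd f g.imageι) g.toImage := by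
  refine IsPullback.of_right (h₁₂ := pullback.fst f g.imageι) (h₂₂ := g.imageι) (v₁₃ := f) ?_ ?_
    (IsPullback.of_hasPullback f g.imageι)
  · rw [pullback.lift_fst, g.toImage_imageι, Category.comp_id]
    exact (IsPullback.of_hasPullback f g)
  · exact pullback.lift_snd _ _ _

/-- Being a quasi-compact immersion satisfies fpqc descent. -/
theorem descendsAlong_qcImmersion :
    DescendsAlong (@IsImmersion ⊓ @QuasiCompact : MorphismProperty Scheme.{u})
      (@Surjective ⊓ @Flat ⊓ @QuasiCompact) := by
  apply DescendsAlong.mk'
  intro X Y Z f g _ hf hg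
  have hfl : Flat f := hf.1.2
  have hg1 : IsImmersion (pullback.fst f g) := hg.1
  have hg2 : QuasiCompact (pullback.fst f g) := hg.2
  have hqc : QuasiCompact g := by
    have := descendsAlong_quasiCompact.{u}
    exact of_pullback_fst_of_descendsAlong (P := @QuasiCompact) (f := f)
        (Q := @Surjective ⊓ @Flat ⊓ @QuasiCompact) hf hg.2
  refine ⟨?_, hqc⟩
  have hP := isPullback_map_toImage f g
  set e := pullback.map f g f g.imageι (𝟙 _) g.toImage (𝟙 _) (by simp) (by simp) with he
  have h1 : IsSchemeTheoreticallyDominant g.toImage := isSchemeTheoreticallyDominant_toImage g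
  have h2 : IsSchemeTheoreticallyDominant e := IsSchemeTheoreticallyDominant.of_isPullback hP.flip
  have h3 : QuasiCompact e := MorphismProperty.of_isPullback hP.flip (inferInstance : QuasiCompact g.toImage)
  have h4 : e ≫ pullback.fst f g.imageι = pullback.fst f g := by
    rw [he, pullback.lift_fst, Category.comp_id]
  have h5 : IsImmersion e := by
    have : IsImmersion (e ≫ pullback.fst f g.imageι) := by rw [h4]; infer_instance
    exact IsImmersion.of_comp e (pullback.fst f g.imageι)
  have h6 : IsOpenImmersion e := isOpenImmersion_of_isImmersion_of_dominant e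
  have h7 : IsOpenImmersion g.toImage :=
    MorphismProperty.of_isPullback_of_descendsAlong (P := @IsOpenImmersion)
      (Q := @Surjective ⊓ @Flat ⊓ @QuasiCompact) hP (MorphismProperty.pullback_snd _ _ hf) h6
  rw [← g.toImage_imageι]
  infer_instance

/-- Being an immersion satisfies fppf descent. -/
theorem descendsAlong_isImmersion_fppf :
    DescendsAlong (@IsImmersion : MorphismProperty Scheme.{u})
      (@Surjective ⊓ @Flat ⊓ @LocallyOfFinitePresentation) := by
  apply DescendsAlong.mk'
  intro X Y Z f g _ hf hg
  have hfl : Flat f := hf.1.2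
  have hfs : Surjective f := hf.1.1
  have hfp : LocallyOfFinitePresentation f := hf.2
  have hrange : Set.range (pullback.fst f g) = f ⁻¹' (Set.range g) :=
    Scheme.Pullback.range_fst _ _
  have hcob : coborder (f ⁻¹' (Set.range g)) = f ⁻¹' (coborder (Set.range g)) :=
    coborder_preimage f.isOpenMap f.continuous _
  have hopen : IsOpen (coborder (Set.range g)) := by
    have h1 : IsOpen (f ⁻¹' (coborder (Set.range g))) := by
      rw [← hcob, ← hrange]
      exact (pullback.fst f g).isLocallyClosed_range.isOpen_coborder
    rw [← f.surjective.image_preimage (coborder (Set.range g))] 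
    exact f.isOpenMap _ h1
  let U : Z.Opens := ⟨coborder (Set.range g), hopen⟩
  have hU : Set.range g ⊆ Set.range U.ι := by simpa [U] using subset_coborder
  let g' : Y ⟶ U := IsOpenImmersion.lift U.ι g hU
  have hg' : g' ≫ U.ι = g := IsOpenImmersion.lift_fac _ _ _
  have hg'c : IsClosed (Set.range g') := by
    have : Set.range g' = U.ι ⁻¹' (Set.range g) := by
      rw [← hg', Scheme.Hom.comp_base, TopCat.coe_comp, Set.range_comp,
        Set.preimage_image_eq _ U.ι.isEmbedding.injective]
    rw [this]
    exact isClosed_preimage_val_coborder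
  let h : pullback f g ⟶ pullback f U.ι := pullback.map f g f U.ι (𝟙 _) g' (𝟙 _)
    (by simp) (by rw [Category.comp_id, hg'])
  have hP : IsPullback h (pullback.snd f g) (pullback.snd f U.ι) g' := by
    refine IsPullback.of_right (h₁₂ := pullback.fst f U.ι) (h₂₂ := U.ι) (v₁₃ := f) ?_ ?_
      (IsPullback.of_hasPullback f U.ι)
    · rw [pullback.lift_fst, hg', Category.comp_id]
      exact (IsPullback.of_hasPullback f g)
    · exact pullback.lift_snd _ _ _
  have h1 : IsImmersion h := by
    have : IsImmersion (h ≫ pullback.fst f U.ι) := by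
      rw [pullback.lift_fst, Category.comp_id]; exact hg
    exact IsImmersion.of_comp h (pullback.fst f U.ι)
  have h2 : IsClosedImmersion h := by
    refine .of_isPreimmersion _ ?_
    have := Scheme.image_preimage_eq_of_isPullback hP.flip Set.univ
    rw [Set.preimage_univ, Set.image_univ, Set.image_univ] at this
    rw [this]
    exact hg'c.preimage (pullback.snd f U.ι).continuous
  have h3 : IsClosedImmersion g' := by
    have := descendsAlong_isClosedImmersion.{u}
    exact MorphismProperty.of_isPullback_of_descendsAlong (P := @IsClosedImmersion)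
      (Q := @Surjective ⊓ @Flat ⊓ @LocallyOfFinitePresentation) hP (MorphismProperty.pullback_snd _ _ hf) h2
  rw [← hg']
  infer_instance

end Groth.Agent.Desc.ImmersionDescent
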