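import Groth.Agent.Desc.LocalRep
import Groth.Agent.Desc.Complement
import Groth.Agent.Desc.EtaleBound
import Groth.Agent.Desc.ZarSec
import Mathlib.AlgebraicGeometry.Morphisms.Integral

/-!
# Effectivity of étale descent data along integral surjective morphisms

`effective_of_localSections`: Stacks 0BTP from the existence of étale-local sections.
-/

set_option autoImplicit false
set_option backward.isDefEq.respectTransparency false
set_option backward.isDefEq.respectTransparency.types false
open CategoryTheory CategoryTheory.Limits AlgebraicGeometry Opposite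
universe u
open _root_.Desc Groth.Agent.Desc.SecFunctor Groth.Agent.Desc.SecPresheaf
  Groth.Agent.Desc.SecDescent Groth.Agent.Picfga.OverRep Groth.Agent.Desc.ZarGlue
  Groth.Agent.Desc.LocalRep

namespace Groth.Agent.Desc.IntEff

/-- A bound on the number of sections over field points. -/
def Bounded {X S : Scheme.{u}} {p : X ⟶ S} (D : SchDD p) (n : ℕ) : Prop :=
  ∀ (Ω : Type u) [Field Ω] (s : Spec (.of Ω) ⟶ S)
    (a : Fin (n + 1) → (secFunctor D).obj (op (Over.mk s))), ¬ Function.Injective a

/-- The existence of étale-local sections. -/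
def LocalSections : Prop := ∀ {A : CommRingCat.{u}} {X : Scheme.{u}} (p : X ⟶ Spec A)
    [IsIntegralHom p] [Surjective p] (D : SchDD p) [QuasiCompact D.obj.hom] [IsSeparated D.obj.hom]
    [Etale D.obj.hom] (Ω : Type u) [Field Ω] (s : Spec (.of Ω) ⟶ Spec A)
    (a : (secFunctor D).obj (op (Over.mk s))),
    ∃ (A' : CommRingCat.{u}) (q : Spec A' ⟶ Spec A) (_ : Etale q) (t : Spec (.of Ω) ⟶ Spec A')
      (ht : t ≫ q = s) (σ : (secFunctor D).obj (op (Over.mk q))),
      (secFunctor D).map (Over.homMk t ht : Over.mk s ⟶ Over.mk q).op σ = a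

/-- Base change of a bound. -/
theorem bounded_pullDD {X S S' : Scheme.{u}} {p : X ⟶ S} (q : S' ⟶ S) {D : SchDD p} {n : ℕ}
    (h : Bounded D n) : Bounded (pullDD q D) n := by
  intro Ω _ s a ha
  -- sections of `pullDD q D` over `s` are sections of `D` over `s ≫ q`
  let i := (restrSecIso q D).app (op (Over.mk s))
  have hi : Function.Injective (i.inv : _ → _) := by
    intro x y hxy
    have h1 : ∀ z, i.hom (i.inv z) = z := fun z => by
      rw [← ConcreteCategory.comp_apply, i.inv_hom_id]; rfl
    rw [← h1 x, ← h1 y, hxy]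
  exact h Ω (s ≫ q) (fun k => i.inv (a k)) (hi.comp ha)

/-- Extension by the empty set: if `F(T)` is empty unless `T` maps to the open `W` of `S` and `F|W` is
represented by `U`, then `F` is represented by `U` viewed over `S`. -/
theorem exists_rep_of_support {S : Scheme.{u}} {F : (Over S)ᵒᵖ ⥤ Type u} (W : S.Opens)
    (hW : ∀ (T : Over S) (_ : F.obj (op T)), Set.range T.hom ⊆ W) (U : Over W.toScheme)
    (e : (restr W.ι F).RepresentableBy U) :
    Nonempty (F.RepresentableBy ((Over.map W.ι).obj U)) := by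
  let W' : PUnit.{u + 1} → S.Opens := fun _ => W
  let U' : ∀ i, Over (W' i).toScheme := fun _ => U
  let e' : ∀ i, (restr (W' i).ι F).RepresentableBy (U' i) := fun _ => e
  refine ⟨repOfUniversal (chartξ W' U' e' PUnit.unit) fun T x => ?_⟩
  let y : T.left ⟶ W := IsOpenImmersion.lift W.ι T.hom (by simpa using hW T x)
  have hy : y ≫ W.ι = T.hom := IsOpenImmersion.lift_fac _ _ _
  obtain ⟨k, hk⟩ := exists_hom W' U' e' PUnit.unit y hy x
  refine ⟨k, hk, fun k' hk' => ?_⟩
  have h1 := map_chartξ W' U' e' PUnit.unit k y hy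
  have h2 := map_chartξ W' U' e' PUnit.unit k' y hy
  have h3 := (ptEquiv (e' PUnit.unit) y hy).injective (h2.symm.trans ((hk'.trans hk.symm).trans h1))
  ext
  exact congrArg Subtype.val h3

/-- Restrictions of Zariski sheaves are Zariski sheaves. -/
theorem isZarSheaf_restr {S' S : Scheme.{u}} (q : S' ⟶ S) {F : (Over S)ᵒᵖ ⥤ Type u}
    (hF : IsZarSheaf F) : IsZarSheaf (restr q F) := by
  intro T 𝒰 x hx
  let 𝒱 : Cov ((Over.map q).obj T) :=
    { ι := 𝒰.ι
      V := fun i => (Over.map q).obj (𝒰.V i)
      j := fun i => (Over.map q).map (𝒰.j i)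
      isOpen := fun i => 𝒰.isOpen i
      covers := 𝒰.covers }
  apply hF ((Over.map q).obj T) 𝒱 x
  intro i k W a b hab
  let a' : W.left ⟶ (𝒰.V i).left := a.left
  let b' : W.left ⟶ (𝒰.V k).left := b.left
  have hab' : a' ≫ (𝒰.j i).left = b' ≫ (𝒰.j k).left := congrArg (fun f => f.left) hab
  let W' : Over S' := Over.mk (a' ≫ (𝒰.V i).hom)
  have hS' : b' ≫ (𝒰.V k).hom = a' ≫ (𝒰.V i).hom := by
    rw [← Over.w (𝒰.j i), ← Over.w (𝒰.j k), ← Category.assoc, ← hab', Category.assoc]
  have h1 := hx i k W' (Over.homMk a' rfl) (Over.homMk b' hS') (by ext; exact hab')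
  let m : W ⟶ (Over.map q).obj W' := Over.homMk (𝟙 _) (by
    change 𝟙 _ ≫ (a' ≫ (𝒰.V i).hom) ≫ q = W.hom
    rw [Category.id_comp, Category.assoc]
    exact Over.w a)
  have e0 : a = m ≫ (Over.map q).map (Over.homMk a' rfl : W' ⟶ 𝒰.V i) := by
    ext; simp [m, a']
  have e1 : b = m ≫ (Over.map q).map (Over.homMk b' hS' : W' ⟶ 𝒰.V k) := by
    ext; simp [m, b']
  rw [e0, e1, op_comp, op_comp, F.map_comp, F.map_comp, ConcreteCategory.comp_apply,
    ConcreteCategory.comp_apply]
  exact congrArg _ h1

theorem etale_codiag (S : Scheme.{u}) : Etale (coprod.desc (𝟙 S) (𝟙 S)) := by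
  rw [IsZariskiLocalAtSource.iff_of_openCover (P := @Etale) (coprodOpenCover.{_, 0} S S)]
  rintro (⟨⟨⟩⟩ | ⟨⟨⟩⟩)
  · simp only [coprodOpenCover]
    change Etale (coprod.inl ≫ coprod.desc (𝟙 S) (𝟙 S))
    rw [coprod.inl_desc]
    infer_instance
  · simp only [coprodOpenCover]
    change Etale (coprod.inr ≫ coprod.desc (𝟙 S) (𝟙 S))
    rw [coprod.inr_desc]
    infer_instance

theorem coprod_desc_eq {S U V : Scheme.{u}} (f : U ⟶ S) (g : V ⟶ S) :
    coprod.desc f g = coprod.map f g ≫ coprod.desc (𝟙 S) (𝟙 S) := by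
  simp

theorem etale_coprod {S U V : Scheme.{u}} (f : U ⟶ S) (g : V ⟶ S) [Etale f] [Etale g] :
    Etale (coprod.desc f g) := by
  rw [coprod_desc_eq]
  have h1 : Etale (coprod.map f g) := IsZariskiLocalAtTarget.coprodMap f g ‹_› ‹_›
  have h2 := etale_codiag S
  infer_instance

theorem isSeparated_coprod {S U V : Scheme.{u}} (f : U ⟶ S) (g : V ⟶ S) [IsSeparated f]
    [IsSeparated g] : IsSeparated (coprod.desc f g) := by
  rw [coprod_desc_eq]
  have h1 : IsSeparated (coprod.map f g) := IsZariskiLocalAtTarget.coprodMap f g ‹_› ‹_›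
  infer_instance

theorem quasiCompact_coprod {S U V : Scheme.{u}} (f : U ⟶ S) (g : V ⟶ S) [QuasiCompact f]
    [QuasiCompact g] : QuasiCompact (coprod.desc f g) := by
  rw [coprod_desc_eq]
  have h1 : QuasiCompact (coprod.map f g) := IsZariskiLocalAtTarget.coprodMap f g ‹_› ‹_›
  infer_instance

/-- The reduction to étale neighbourhoods with a section. -/
theorem exists_rep_step (hloc : LocalSections.{u}) {A : CommRingCat.{u}}
    {X : Scheme.{u}} (p : X ⟶ Spec A) [IsIntegralHom p] [Surjective p] (D : SchDD p)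
    [QuasiCompact D.obj.hom] [IsSeparated D.obj.hom] [Etale D.obj.hom]
    (R : ∀ {A' : CommRingCat.{u}} (q : Spec A' ⟶ Spec A) (_ : Etale q) (_ : Spec A')
      (_ : (secFunctor D).obj (op (Over.mk q))), ∃ E : Over (Spec A'), Etale E.hom ∧
        IsSeparated E.hom ∧ QuasiCompact E.hom ∧
        Nonempty ((restr q (secFunctor D)).RepresentableBy E)) :
    ∃ U : Over (Spec A), Etale U.hom ∧ IsSeparated U.hom ∧ QuasiCompact U.hom ∧
      Nonempty ((secFunctor D).RepresentableBy U) := by
  -- image of a section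
  have himg : ∀ (T : Over (Spec A)) (_ : (secFunctor D).obj (op T)) (t : T.left),
      ∃ v : D.obj.left, p (D.obj.hom v) = T.hom t := by
    intro T σ t
    obtain ⟨y, hy⟩ := (inferInstance : Surjective (pullback.snd p T.hom)).surj t
    let w := (ev σ (pullback.snd p T.hom) (pullback.fst p T.hom) pullback.condition)
    refine ⟨w.1 y, ?_⟩
    have hw : D.obj.hom (w.1 y) = pullback.fst p T.hom y := by
      have := w.2
      exact (Scheme.Hom.comp_apply _ _ _).symm.trans (by rw [this])
    rw [hw, ← Scheme.Hom.comp_apply, pullback.condition, Scheme.Hom.comp_apply, hy]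
  -- local sections through points
  have hpt : ∀ v : D.obj.left, ∃ (A' : CommRingCat.{u}) (q : Spec A' ⟶ Spec A) (_ : Etale q)
      (t : Spec A') (_ : q t = p (D.obj.hom v)), Nonempty ((secFunctor D).obj (op (Over.mk q))) := by
    intro v
    let v' : Spec (D.obj.left.residueField v) ⟶ D.obj.left := D.obj.left.fromSpecResidueField v
    let x' := v' ≫ D.obj.hom
    let a : (secFunctor D).obj (op (Over.mk (x' ≫ p))) :=
      (secPoint D (T := Over.mk (x' ≫ p)) x' rfl).symm ⟨v', rfl⟩
    obtain ⟨A', q, hq, t, ht, σ, -⟩ := hloc p D (D.obj.left.residueField v) (x' ≫ p) a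
    obtain ⟨y⟩ : Nonempty (Spec (D.obj.left.residueField v)) := inferInstance
    refine ⟨A', q, hq, t y, ?_, ⟨σ⟩⟩
    rw [← Scheme.Hom.comp_apply, ht]
    change (x' ≫ p) y = _
    have : v' y = v := by simp [v']
    rw [Scheme.Hom.comp_apply, Scheme.Hom.comp_apply, this]
  -- the image of `V` in `S`
  let W : (Spec A).Opens := ⟨{s | ∃ v : D.obj.left, p (D.obj.hom v) = s}, by
    rw [isOpen_iff_mem_nhds]
    rintro s ⟨v, rfl⟩
    obtain ⟨A', q, hq, t, ht, ⟨σ⟩⟩ := hpt v
    refine Filter.mem_of_superset (q.isOpenMap.isOpen_range.mem_nhds ⟨t, ht⟩) ?_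
    rintro _ ⟨t', rfl⟩
    exact himg (Over.mk q) σ t'⟩
  have hWc : IsCompact (W : Set (Spec A)) := by
    have h1 : (W : Set (Spec A)) = Set.range (D.obj.hom ≫ p) := by
      ext s
      constructor
      · rintro ⟨v, hv⟩
        exact ⟨v, hv⟩
      · rintro ⟨v, hv⟩
        exact ⟨v, hv⟩
    have : CompactSpace D.obj.left := by
      have : CompactSpace X := QuasiCompact.compactSpace_of_compactSpace p
      exact QuasiCompact.compactSpace_of_compactSpace D.obj.hom
    rw [h1]
    exact isCompact_range (D.obj.hom ≫ p).continuous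
  have hWqc : QuasiCompact W.ι := by
    have : CompactSpace W.toScheme := isCompact_iff_compactSpace.mp hWc
    infer_instance
  -- representability over `W`
  obtain ⟨E, h1, h2, h3, ⟨e⟩⟩ := exists_rep_of_local (restr W.ι (secFunctor D))
    (isZarSheaf_restr _ (ZarSec.isZarSheaf_secFunctor D))
    (by
      intro T' T g hg1 hg2
      apply IsDesc.restr
      apply isDesc_secFunctor
      intro Z z
      change EffectiveEpi (pullback.snd g.left z)
      infer_instance)
    (by
      rintro ⟨s, hs⟩
      obtain ⟨v, hv⟩ := hs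
      obtain ⟨A', q, hq, t, ht, ⟨σ⟩⟩ := hpt v
      have hr : Set.range q ⊆ W := by
        rintro _ ⟨t', rfl⟩
        exact himg (Over.mk q) σ t'
      let q' : Spec A' ⟶ W := IsOpenImmersion.lift W.ι q (by simpa using hr)
      have hq' : q' ≫ W.ι = q := IsOpenImmersion.lift_fac _ _ _
      have hqe : Etale q' := by
        have : Etale (q' ≫ W.ι) := by rw [hq']; exact hq
        exact Etale.of_comp q' W.ι
      obtain ⟨E, h1, h2, h3, ⟨e⟩⟩ := R q hq t σ
      refine ⟨Over.mk q', hqe, t, ?_, E, h1, h2, h3, ⟨e.ofIso (restrCompIso hq' _).symm⟩⟩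
      apply W.ι.injective
      change W.ι (q' t) = s
      rw [← Scheme.Hom.comp_apply, hq', ht, hv])
  obtain ⟨e'⟩ := exists_rep_of_support W (fun T σ => by
    rintro _ ⟨t, rfl⟩
    exact himg T σ t) E e
  refine ⟨(Over.map W.ι).obj E, ?_, ?_, ?_, ⟨e'⟩⟩
  · change Etale (E.hom ≫ W.ι)
    infer_instance
  · change IsSeparated (E.hom ≫ W.ι)
    infer_instance
  · change QuasiCompact (E.hom ≫ W.ι)
    infer_instance

/-- The main step: bounded descent data over an affine base. -/
theorem exists_rep_of_bounded (hloc : LocalSections.{u}) (n : ℕ) : ∀ {A : CommRingCat.{u}}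
    {X : Scheme.{u}} (p : X ⟶ Spec A) [IsIntegralHom p] [Surjective p] (D : SchDD p)
    [QuasiCompact D.obj.hom] [IsSeparated D.obj.hom] [Etale D.obj.hom] (_ : Bounded D n),
    ∃ U : Over (Spec A), Etale U.hom ∧ IsSeparated U.hom ∧ QuasiCompact U.hom ∧
      Nonempty ((secFunctor D).RepresentableBy U) := by
  induction n with
  | zero =>
    intro A X p _ _ D _ _ _ hb
    apply exists_rep_step hloc p D
    intro A' q hq t σ
    -- the bound `0` says that there are no sections over nonempty schemes
    let t' : Spec ((Spec A').residueField t) ⟶ Spec A' := (Spec A').fromSpecResidueField t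
    exact (hb ((Spec A').residueField t) (t' ≫ q)
      (fun _ => (secFunctor D).map (Over.homMk t' rfl : Over.mk (t' ≫ q) ⟶ Over.mk q).op σ)
      (fun _ _ _ => Subsingleton.elim (α := Fin 1) _ _)).elim
  | succ n IH =>
    intro A X p _ _ D _ _ _ hb
    apply exists_rep_step hloc p D
    intro A' q hq t σ
    let p' := pullback.snd p q
    let D₁ : SchDD p' := pullDD q D
    have i1 : IsIntegralHom p' := inferInstanceAs (IsIntegralHom (pullback.snd p q))
    have i2 : Surjective p' := inferInstanceAs (Surjective (pullback.snd p q))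
    have i3 : QuasiCompact D₁.obj.hom :=
      inferInstanceAs (QuasiCompact (pullback.snd D.obj.hom (pullback.fst p q)))
    have i4 : IsSeparated D₁.obj.hom :=
      inferInstanceAs (IsSeparated (pullback.snd D.obj.hom (pullback.fst p q)))
    have i5 : Etale D₁.obj.hom :=
      inferInstanceAs (Etale (pullback.snd D.obj.hom (pullback.fst p q)))
    let i := restrSecIso q D
    let e0 : (Over.map q).obj (Over.mk (𝟙 (Spec A'))) ≅ Over.mk q :=
      Over.isoMk (Iso.refl _) (by simp)
    let σ' : (secFunctor D₁).obj (op (Over.mk (𝟙 (Spec A')))) :=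
      i.hom.app _ ((secFunctor D).map e0.hom.op σ)
    obtain ⟨D', j1, j2, j3, hb', hrep⟩ := Complement.exists_complement p' D₁
      (ZarSec.isZarSheaf_secFunctor D₁) σ'
    have hb1 : Bounded D₁ (n + 1) := bounded_pullDD q hb
    obtain ⟨U, k1, k2, k3, ⟨e⟩⟩ := IH p' D' (hb' n hb1)
    obtain ⟨e'⟩ := hrep U e
    refine ⟨_, ?_, ?_, ?_, ⟨e'.ofIso i.symm⟩⟩
    · exact etale_coprod (𝟙 _) U.hom
    · exact isSeparated_coprod (𝟙 _) U.hom
    · exact quasiCompact_coprod (𝟙 _) U.hom

theorem flat_of_field_spec {K : Type u} [Field K] {R : CommRingCat.{u}}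
    (φ : CommRingCat.of K ⟶ R) : Flat (Spec.map φ) := by
  refine (HasRingHomProperty.Spec_iff (P := @Flat)).mpr ?_
  algebraize [φ.hom]
  letI : Field (CommRingCat.of K) := inferInstanceAs (Field K)
  have : Module.Free (CommRingCat.of K) R := Module.Free.of_divisionRing _ _
  exact (inferInstance : Module.Flat (CommRingCat.of K) R)

theorem flat_of_field {K : Type u} [Field K] {Y : Scheme.{u}} (t : Y ⟶ Spec (.of K)) : Flat t := by
  rw [IsZariskiLocalAtSource.iff_of_openCover (P := @Flat) Y.affineCover]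
  intro i
  obtain ⟨φ, hφ⟩ := Spec.map_surjective (Y.affineCover.f i ≫ t)
  rw [← hφ]
  exact flat_of_field_spec φ

theorem surjective_of_field {K : Type u} [Field K] {Y : Scheme.{u}} (t : Y ⟶ Spec (.of K))
    [Nonempty Y] : Surjective t := by
  refine ⟨fun y => ⟨Classical.arbitrary _, ?_⟩⟩
  exact Subsingleton.elim (α := PrimeSpectrum K) _ _

/-- The number of sections over field points is bounded. -/
theorem exists_bounded {X S : Scheme.{u}} (p : X ⟶ S) [Surjective p] (D : SchDD p)
    [Etale D.obj.hom] [CompactSpace D.obj.left] : ∃ n, Bounded D n := by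
  obtain ⟨n, hn⟩ := EtaleBound.exists_bound D.obj.hom
  refine ⟨n, ?_⟩
  intro Ω _ s a ha
  -- a point of `X` over an extension of `Ω`
  obtain ⟨y, -⟩ := (inferInstance : Surjective (pullback.snd p s)).surj
    (IsLocalRing.closedPoint Ω)
  let y' : Spec ((pullback p s).residueField y) ⟶ pullback p s :=
    (pullback p s).fromSpecResidueField y
  let t : Spec ((pullback p s).residueField y) ⟶ Spec (.of Ω) := y' ≫ pullback.snd p s
  let x : Spec ((pullback p s).residueField y) ⟶ X := y' ≫ pullback.fst p s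
  have hx : x ≫ p = t ≫ s := by simp [x, t, pullback.condition]
  have ht : Flat t := flat_of_field t
  have ht' : Surjective t := surjective_of_field t
  have hinj : IsDesc (secFunctor D) (Over.homMk t rfl : Over.mk (t ≫ s) ⟶ Over.mk s) := by
    apply isDesc_secFunctor
    intro Z z
    change EffectiveEpi (pullback.snd t z)
    infer_instance
  refine hn ((pullback p s).residueField y) x (fun k => secPoint D (T := Over.mk (t ≫ s)) x hx
    ((secFunctor D).map (Over.homMk t rfl : Over.mk (t ≫ s) ⟶ Over.mk s).op (a k))) ?_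
  intro k l hkl
  exact ha (hinj.inj _ _ ((secPoint D (T := Over.mk (t ≫ s)) x hx).injective hkl))

/-- Stacks 0BTP, from the existence of étale-local sections. -/
theorem effective_of_localSections (hloc : LocalSections.{u}) {X S : Scheme.{u}} (p : X ⟶ S)
    [Surjective p] [IsIntegralHom p] (D : SchDD p) [QuasiCompact D.obj.hom]
    [IsSeparated D.obj.hom] [Etale D.obj.hom] :
    ∃ U : Over S, QuasiCompact U.hom ∧ IsSeparated U.hom ∧ Etale U.hom ∧
      Nonempty ((toDD p).obj U ≅ D) := by
  obtain ⟨U, h1, h2, h3, ⟨e⟩⟩ := exists_rep_of_local (secFunctor D)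
    (ZarSec.isZarSheaf_secFunctor D)
    (by
      intro T' T g hg1 hg2
      apply isDesc_secFunctor
      intro Z z
      infer_instance)
    (by
      intro s
      obtain ⟨W, hW, hsW⟩ : ∃ W : S.Opens, IsAffineOpen W ∧ s ∈ W := by
        obtain ⟨_, ⟨W₀, hW₀, rfl⟩, hsW, -⟩ := S.isBasis_affineOpens.exists_subset_of_mem_open
          (Set.mem_univ s) isOpen_univ
        exact ⟨W₀, hW₀, hsW⟩
      let q : Spec Γ(S, W) ⟶ S := hW.fromSpec
      let p' := pullback.snd p q
      let D₁ : SchDD p' := pullDD q D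
      have i1 : IsIntegralHom p' := inferInstanceAs (IsIntegralHom (pullback.snd p q))
      have i2 : Surjective p' := inferInstanceAs (Surjective (pullback.snd p q))
      have i3 : QuasiCompact D₁.obj.hom :=
        inferInstanceAs (QuasiCompact (pullback.snd D.obj.hom (pullback.fst p q)))
      have i4 : IsSeparated D₁.obj.hom :=
        inferInstanceAs (IsSeparated (pullback.snd D.obj.hom (pullback.fst p q)))
      have i5 : Etale D₁.obj.hom :=
        inferInstanceAs (Etale (pullback.snd D.obj.hom (pullback.fst p q)))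
      have i6 : CompactSpace D₁.obj.left := by
        have : CompactSpace ↥(pullback p q) := QuasiCompact.compactSpace_of_compactSpace p'
        exact QuasiCompact.compactSpace_of_compactSpace D₁.obj.hom
      obtain ⟨n, hn⟩ := exists_bounded p' D₁
      obtain ⟨E, h1, h2, h3, ⟨e⟩⟩ := exists_rep_of_bounded hloc n p' D₁ hn
      obtain ⟨t, ht⟩ : s ∈ Set.range q := by
        have : Set.range q = W := hW.range_fromSpec
        rw [this]; exact hsW
      exact ⟨Over.mk q, inferInstanceAs (Etale q), t, ht, E, h1, h2, h3,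
        ⟨e.ofIso (restrSecIso q D).symm⟩⟩)
  exact ⟨U, h3, h2, h1, effective_of_representableBy e⟩

end Groth.Agent.Desc.IntEff
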