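import Mathlib.RingTheory.ZariskisMainTheorem
import Mathlib.RingTheory.NoetherNormalization
import Mathlib.RingTheory.Valuation.LocalSubring
import Mathlib.RingTheory.Jacobson.Ring
import Mathlib.RingTheory.Flat.FaithfullyFlat.Algebra
import Mathlib.RingTheory.Algebraic.Integral
import Mathlib.RingTheory.Bezout
import Mathlib.Algebra.GCDMonoid.IntegrallyClosed

/-!
# Quasi-sections over valuation rings, and descent of the Jacobson property

Main results:
* `exists_quasiSection`: if `V` is a valuation ring, `B` a domain of finite type over `V`, containing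
  `V`, with `m_V B ≠ B`, there are primes `q ≤ x` of `B` with `q ∩ V = 0`, `m_V ≤ x ∩ V` and `B / q`
  algebraic over `V`.
* `isJacobsonRing_of_faithfullyFlat_finiteType`: Jacobson descends along faithfully flat finite type
  ring maps.
-/

set_option autoImplicit false

open scoped TensorProduct nonZeroDivisors

namespace Groth.Agent.Desc.JacobsonDescent

/-- Polynomial rings over normal domains are normal. -/
theorem isIntegrallyClosed_mvPolynomial_fin (R : Type*) [CommRing R] [IsDomain R]
    [IsIntegrallyClosed R] (n : ℕ) : IsIntegrallyClosed (MvPolynomial (Fin n) R) := by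
  induction n with
  | zero => exact IsIntegrallyClosed.of_equiv (MvPolynomial.isEmptyRingEquiv R (Fin 0)).symm
  | succ n ih =>
    exact IsIntegrallyClosed.of_equiv (MvPolynomial.finSuccEquiv R n).symm.toRingEquiv

/-- In a valuation ring a nonzero polynomial is a constant times a primitive one. -/
theorem exists_eq_C_mul_of_ne_zero {V : Type*} [CommRing V] [IsDomain V] [ValuationRing V]
    {σ : Type*} (g : MvPolynomial σ V) (hg : g ≠ 0) :
    ∃ (c : V) (g₀ : MvPolynomial σ V) (d : σ →₀ ℕ), c ≠ 0 ∧ g = MvPolynomial.C c * g₀ ∧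
      g₀.coeff d = 1 := by
  classical
  -- find the coefficient dividing all others
  have key : ∀ s : Finset (σ →₀ ℕ), s.Nonempty → ∃ d ∈ s, ∀ e ∈ s, g.coeff d ∣ g.coeff e := by
    intro s hs
    induction hs using Finset.Nonempty.cons_induction with
    | singleton a => exact ⟨a, by simp, by simp⟩
    | cons a s ha hs ih =>
      obtain ⟨d, hd, hd'⟩ := ih
      rcases ValuationRing.dvd_total (g.coeff d) (g.coeff a) with h | h
      · refine ⟨d, by simp [hd], ?_⟩
        intro e he
        rcases Finset.mem_cons.mp he with rfl | he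
        · exact h
        · exact hd' e he
      · refine ⟨a, by simp, ?_⟩
        intro e he
        rcases Finset.mem_cons.mp he with rfl | he
        · exact dvd_rfl
        · exact h.trans (hd' e he)
  obtain ⟨d, hd, hd'⟩ := key g.support (by rwa [MvPolynomial.support_nonempty])
  have hc : g.coeff d ≠ 0 := by simpa using hd
  have hall : ∀ e, g.coeff d ∣ g.coeff e := by
    intro e
    by_cases he : e ∈ g.support
    · exact hd' e he
    · rw [MvPolynomial.notMem_support_iff.mp he]; exact dvd_zero _
  obtain ⟨g₀, hg₀⟩ := (MvPolynomial.C_dvd_iff_dvd_coeff (g.coeff d) g).mpr hall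
  refine ⟨g.coeff d, g₀, d, hc, hg₀, ?_⟩
  have h1 := congrArg (MvPolynomial.coeff d) hg₀
  rw [MvPolynomial.coeff_C_mul] at h1
  exact mul_left_cancel₀ hc (by rw [mul_one]; exact h1.symm)

/-- Lifting a prime of the integral closure to the big ring, when the two agree after inverting
an element. -/
theorem exists_prime_comap_eq {R S : Type*} [CommRing R] [CommRing S] [Algebra R S]
    (x : Ideal S) [x.IsPrime] (r : S) (hrx : r ∉ x) (hr : IsIntegral R r)
    (hall : ∀ b : S, ∃ m, IsIntegral R (r ^ m * b))
    (P : Ideal (integralClosure R S)) [P.IsPrime]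
    (hP : P ≤ x.comap (algebraMap (integralClosure R S) S)) :
    ∃ q : Ideal S, q.IsPrime ∧ q ≤ x ∧ q.comap (algebraMap (integralClosure R S) S) = P := by
  set rC : integralClosure R S := ⟨r, hr⟩ with hrC
  have hrP : rC ∉ P := fun h => hrx (hP h)
  let q : Ideal S :=
    { carrier := {b | ∃ (n : ℕ) (c : integralClosure R S), c ∈ P ∧ (c : S) = r ^ n * b}
      add_mem' := by
        rintro a b ⟨n, c, hc, hca⟩ ⟨m, d, hd, hdb⟩
        refine ⟨n + m, rC ^ m * c + rC ^ n * d, P.add_mem (P.mul_mem_left _ hc)
          (P.mul_mem_left _ hd), ?_⟩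
        push_cast
        rw [hca, hdb, hrC]
        ring
      zero_mem' := ⟨0, 0, P.zero_mem, by simp⟩
      smul_mem' := by
        rintro a b ⟨n, c, hc, hcb⟩
        obtain ⟨m, hm⟩ := hall a
        refine ⟨n + m, ⟨r ^ m * a, hm⟩ * c, P.mul_mem_left _ hc, ?_⟩
        push_cast
        rw [hcb, smul_eq_mul]
        ring }
  have hmem : ∀ b, b ∈ q ↔ ∃ (n : ℕ) (c : integralClosure R S), c ∈ P ∧ (c : S) = r ^ n * b :=
    fun b => Iff.rfl
  refine ⟨q, ⟨?_, ?_⟩, ?_, ?_⟩
  · rw [Ne, Ideal.eq_top_iff_one, hmem]
    rintro ⟨n, c, hc, h⟩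
    apply hrP
    have : c = rC ^ n := Subtype.ext (by rw [h, hrC]; simp)
    rw [this] at hc
    exact Ideal.IsPrime.mem_of_pow_mem ‹_› _ hc
  · intro a b hab
    obtain ⟨n, c, hc, h⟩ := (hmem _).mp hab
    obtain ⟨k, hk⟩ := hall a
    obtain ⟨l, hl⟩ := hall b
    have h1 : rC ^ n * (⟨r ^ k * a, hk⟩ * ⟨r ^ l * b, hl⟩) ∈ P := by
      have : rC ^ n * ((⟨r ^ k * a, hk⟩ : integralClosure R S) * ⟨r ^ l * b, hl⟩) =
          rC ^ (k + l) * c := by
        apply Subtype.ext
        push_cast
        rw [h, hrC]
        ring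
      rw [this]
      exact P.mul_mem_left _ hc
    rcases Ideal.IsPrime.mem_or_mem ‹P.IsPrime› h1 with h2 | h2
    · exact absurd (Ideal.IsPrime.mem_of_pow_mem ‹_› _ h2) hrP
    · rcases Ideal.IsPrime.mem_or_mem ‹P.IsPrime› h2 with h3 | h3
      · exact Or.inl ((hmem _).mpr ⟨k, _, h3, rfl⟩)
      · exact Or.inr ((hmem _).mpr ⟨l, _, h3, rfl⟩)
  · intro b hb
    obtain ⟨n, c, hc, h⟩ := (hmem _).mp hb
    have h1 : (c : S) ∈ x := hP hc
    rw [h] at h1
    exact (Ideal.IsPrime.mem_or_mem ‹x.IsPrime› h1).resolve_left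
      (fun h2 => hrx (Ideal.IsPrime.mem_of_pow_mem ‹_› _ h2))
  · ext c
    rw [Ideal.mem_comap, hmem]
    constructor
    · rintro ⟨n, d, hd, h⟩
      have : d = rC ^ n * c := Subtype.ext (by rw [h, hrC]; simp)
      rw [this] at hd
      exact (Ideal.IsPrime.mem_or_mem ‹P.IsPrime› hd).resolve_left
        (fun h2 => hrP (Ideal.IsPrime.mem_of_pow_mem ‹_› _ h2))
    · intro hc
      exact ⟨0, c, hc, by simp⟩

/-- Going down for algebras which are quasi-finite at a prime, over a normal domain; with control
on the quotient. -/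
theorem goingDown_of_quasiFiniteAt {R S : Type*} [CommRing R] [IsDomain R] [IsIntegrallyClosed R]
    [CommRing S] [IsDomain S] [Algebra R S] [FaithfulSMul R S] [Algebra.FiniteType R S]
    (x : Ideal S) [x.IsPrime] [Algebra.QuasiFiniteAt R x] (p : Ideal R) [p.IsPrime]
    (hp : p ≤ x.under R) :
    ∃ (q : Ideal S) (r : S), q.IsPrime ∧ q ≤ x ∧ q.under R = p ∧ r ∉ q ∧ IsIntegral R r ∧
      ∀ b : S, ∃ m, IsIntegral R (r ^ m * b) := by
  obtain ⟨r, hrx, hr, hall⟩ := Algebra.zariskisMainProperty_iff.mp
    (Algebra.ZariskisMainProperty.of_finiteType (R := R) x)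
  have hf : FaithfulSMul R (integralClosure R S) := inferInstance
  have hd : IsDomain (integralClosure R S) := inferInstance
  let Q : Ideal (integralClosure R S) := x.comap (algebraMap (integralClosure R S) S)
  have hQ : Q.LiesOver (x.under R) := ⟨by
    ext a
    rfl⟩
  obtain ⟨P, hPQ, hP, hPp⟩ := Ideal.exists_ideal_le_liesOver_of_le (p := p) (q := x.under R) Q hp
  obtain ⟨q, hq, hqx, hqP⟩ := exists_prime_comap_eq x r hrx hr hall P hPQ
  refine ⟨q, r, hq, hqx, ?_, fun h => hrx (hqx h), hr, hall⟩
  rw [hPp.over, ← hqP]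
  rfl

/-- A criterion for quasi-finiteness at a prime: the quotient by an ideal extended from the base is
finite over the quotient of the base. -/
theorem quasiFiniteAt_of_finite_quotient {R S R' S' : Type*} [CommRing R] [CommRing S]
    [Algebra R S] [Algebra.FiniteType R S] [CommRing R'] [CommRing S'] [Algebra R' S']
    [Module.Finite R' S'] (α : R →+* R') (hα : Function.Surjective α) (β : S →+* S')
    (hβ : Function.Surjective β) (hcomm : β.comp (algebraMap R S) = (algebraMap R' S').comp α)
    (hker : RingHom.ker β = (RingHom.ker α).map (algebraMap R S))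
    (x : Ideal S) [x.IsPrime] (hx : RingHom.ker β ≤ x) : Algebra.QuasiFiniteAt R x := by
  let X : PrimeSpectrum S := ⟨x, inferInstance⟩
  change Algebra.QuasiFiniteAt R X.asIdeal
  apply Algebra.QuasiFiniteAt.of_isOpen_singleton_fiber
  -- points of the fibre contain the kernel
  have hF : ∀ y : PrimeSpectrum S, y.comap (algebraMap R S) = X.comap (algebraMap R S) →
      RingHom.ker β ≤ y.asIdeal := by
    intro y hy
    rw [hker, Ideal.map_le_iff_le_comap]
    have h1 : RingHom.ker α ≤ x.comap (algebraMap R S) := by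
      rw [← Ideal.map_le_iff_le_comap, ← hker]; exact hx
    have h2 : y.asIdeal.comap (algebraMap R S) = x.comap (algebraMap R S) :=
      congrArg PrimeSpectrum.asIdeal hy
    rw [h2]
    exact h1
  have hlift : ∀ y : PrimeSpectrum S, RingHom.ker β ≤ y.asIdeal →
      ∃ y' : PrimeSpectrum S', y'.comap β = y := by
    intro y hy
    have : y ∈ Set.range (PrimeSpectrum.comap β) := by
      rw [range_comap_of_surjective _ _ hβ]
      exact hy
    exact this
  have hinj : Function.Injective (PrimeSpectrum.comap β) :=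
    PrimeSpectrum.comap_injective_of_surjective _ hβ
  have hinjα : Function.Injective (PrimeSpectrum.comap α) :=
    PrimeSpectrum.comap_injective_of_surjective _ hα
  have hsq : ∀ y' : PrimeSpectrum S', (y'.comap β).comap (algebraMap R S) =
      (y'.comap (algebraMap R' S')).comap α := by
    intro y'
    rw [← PrimeSpectrum.comap_comp_apply, ← PrimeSpectrum.comap_comp_apply, hcomm]
  obtain ⟨X', hX'⟩ := hlift X hx
  have hfib : ∀ y' : PrimeSpectrum S', (y'.comap β).comap (algebraMap R S) =
      X.comap (algebraMap R S) → y'.comap (algebraMap R' S') = X'.comap (algebraMap R' S') := by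
    intro y' hy'
    apply hinjα
    rw [← hsq, ← hsq, hy', hX']
  have hfin : (PrimeSpectrum.comap (algebraMap R S) ⁻¹' {X.comap (algebraMap R S)}).Finite := by
    refine ((Algebra.QuasiFinite.finite_comap_preimage_singleton (R := R') (S := S')
      (X'.comap (algebraMap R' S'))).image (PrimeSpectrum.comap β)).subset ?_
    intro y hy
    obtain ⟨y', rfl⟩ := hlift y (hF y hy)
    exact ⟨y', hfib y' hy, rfl⟩
  have : Finite (PrimeSpectrum.comap (algebraMap R S) ⁻¹' {X.comap (algebraMap R S)}) :=
    hfin.to_subtype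
  have : T1Space (PrimeSpectrum.comap (algebraMap R S) ⁻¹' {X.comap (algebraMap R S)}) := by
    constructor
    rintro ⟨y, hy⟩
    rw [isClosed_induced_iff]
    refine ⟨closure {y}, isClosed_closure, ?_⟩
    ext ⟨z, hz⟩
    simp only [Set.mem_preimage, Set.mem_singleton_iff, Subtype.mk.injEq]
    rw [← specializes_iff_mem_closure, ← PrimeSpectrum.le_iff_specializes]
    constructor
    · intro h
      obtain ⟨y', rfl⟩ := hlift y (hF y hy)
      obtain ⟨z', rfl⟩ := hlift z (hF z hz)
      have h1 : y'.asIdeal ≤ z'.asIdeal := by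
        rw [← Ideal.map_comap_of_surjective β hβ y'.asIdeal, Ideal.map_le_iff_le_comap]
        exact h
      have h2 : y'.asIdeal.under R' = z'.asIdeal.under R' := by
        have := (hfib y' hy).trans (hfib z' hz).symm
        exact congrArg PrimeSpectrum.asIdeal this
      have h3 := Algebra.QuasiFinite.eq_of_le_of_under_eq (R := R') _ _ h1 h2
      rw [PrimeSpectrum.ext h3]
    · rintro rfl
      exact le_rfl
  exact isOpen_discrete _

/-- **Quasi-sections over a valuation ring.** If `V` is a valuation ring and `B` is a domain of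
finite type over `V`, containing `V`, with `m_V B ≠ B`, then there are primes `q ≤ x` of `B` with
`q ∩ V = 0`, `m_V ≤ x ∩ V` and `B / q` algebraic over `V`. -/
theorem exists_quasiSection {V B : Type*} [CommRing V] [IsDomain V] [ValuationRing V]
    [CommRing B] [IsDomain B] [Algebra V B] [FaithfulSMul V B] [Algebra.FiniteType V B]
    (hB : (IsLocalRing.maximalIdeal V).map (algebraMap V B) ≠ ⊤) :
    ∃ q x : Ideal B, q.IsPrime ∧ x.IsPrime ∧ q ≤ x ∧ q.under V = ⊥ ∧
      IsLocalRing.maximalIdeal V ≤ x.under V ∧ Algebra.IsAlgebraic V (B ⧸ q) := by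
  classical
  set m := IsLocalRing.maximalIdeal V with hm
  let κ := V ⧸ m
  let B' := B ⧸ m.map (algebraMap V B)
  let : Field κ := Ideal.Quotient.field m
  have : Nontrivial B' := Ideal.Quotient.nontrivial_iff.mpr hB
  let res : V →+* κ := Ideal.Quotient.mk m
  let mk : B →+* B' := Ideal.Quotient.mk _
  have hmk : Function.Surjective mk := Ideal.Quotient.mk_surjective
  have hle : ∀ a ∈ m, (mk.comp (algebraMap V B)) a = 0 := fun a ha =>
    Ideal.Quotient.eq_zero_iff_mem.mpr (Ideal.mem_map_of_mem _ ha)
  let : Algebra κ B' := (Ideal.Quotient.lift m (mk.comp (algebraMap V B)) hle).toAlgebra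
  have hsq : ∀ v : V, algebraMap κ B' (res v) = mk (algebraMap V B v) := fun v => rfl
  have : IsScalarTower V κ B' := .of_algebraMap_eq fun v => rfl
  have hft : Algebra.FiniteType V B' := by
    have : Algebra.FiniteType B B' := .of_surjective (Algebra.ofId B B') hmk
    exact Algebra.FiniteType.trans (S := B) inferInstance this
  have : Algebra.FiniteType κ B' := Algebra.FiniteType.of_restrictScalars_finiteType V κ B'
  obtain ⟨s, g, hginj, hgfin⟩ := exists_finite_inj_algHom_of_fg κ B'
  choose b hb using fun i : Fin s => hmk (g (MvPolynomial.X i))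
  let R := MvPolynomial (Fin s) V
  let R' := MvPolynomial (Fin s) κ
  let φ : R →ₐ[V] B := MvPolynomial.aeval b
  let α : R →+* R' := MvPolynomial.map res
  have hα : Function.Surjective α := MvPolynomial.map_surjective _ Ideal.Quotient.mk_surjective
  have hcomm : mk.comp φ.toRingHom = g.toRingHom.comp α := by
    apply MvPolynomial.ringHom_ext
    · intro v
      have h1 : φ.toRingHom (MvPolynomial.C v) = algebraMap V B v := φ.commutes v
      have h2 : g.toRingHom (MvPolynomial.C (res v)) = algebraMap κ B' (res v) := g.commutes _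
      rw [RingHom.comp_apply, RingHom.comp_apply, h1]
      change _ = g.toRingHom (MvPolynomial.map res (MvPolynomial.C v))
      rw [MvPolynomial.map_C, h2, hsq]
    · intro i
      have h1 : φ.toRingHom (MvPolynomial.X i) = b i := MvPolynomial.aeval_X _ _
      rw [RingHom.comp_apply, RingHom.comp_apply, h1, hb]
      change _ = g.toRingHom (MvPolynomial.map res (MvPolynomial.X i))
      rw [MvPolynomial.map_X]
      rfl
  have hφinj : Function.Injective φ := by
    rw [injective_iff_map_eq_zero]
    intro f hf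
    by_contra hf0
    obtain ⟨c, f₀, d, hc, hff, hd⟩ := exists_eq_C_mul_of_ne_zero f hf0
    have h1 : φ f₀ = 0 := by
      rw [hff, map_mul] at hf
      refine (mul_eq_zero.mp hf).resolve_left ?_
      have : φ (MvPolynomial.C c) = algebraMap V B c := φ.commutes c
      rw [this]
      exact fun h => hc ((FaithfulSMul.algebraMap_injective V B) (by rw [h, map_zero]))
    have h2 : g (α f₀) = 0 := by
      have := congrArg (fun h => h f₀) hcomm
      simp only [RingHom.comp_apply] at this
      change mk (φ f₀) = g (α f₀) at this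
      rw [← this, h1, map_zero]
    have h3 : α f₀ = 0 := hginj (by rw [h2, map_zero])
    have h4 : MvPolynomial.coeff d (α f₀) = 1 := by
      change MvPolynomial.coeff d (MvPolynomial.map res f₀) = 1
      rw [MvPolynomial.coeff_map, hd, map_one]
    rw [h3] at h4
    simp at h4
  let : Algebra R B := φ.toRingHom.toAlgebra
  let : Algebra R' B' := g.toRingHom.toAlgebra
  have halg : algebraMap R B = φ.toRingHom := rfl
  have halg' : algebraMap R' B' = g.toRingHom := rfl
  have : IsScalarTower V R B := .of_algebraMap_eq fun v => (φ.commutes v).symm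
  have : Algebra.FiniteType R B := .of_restrictScalars_finiteType V R B
  have : Module.Finite R' B' := hgfin
  have : IsDomain R := inferInstance
  have : IsIntegrallyClosed V := by
    classical
    let : GCDMonoid V := IsBezout.toGCDDomain V
    infer_instance
  have : IsIntegrallyClosed R := isIntegrallyClosed_mvPolynomial_fin V s
  have : FaithfulSMul R B := (faithfulSMul_iff_algebraMap_injective R B).mpr hφinj
  -- the prime of the special fibre
  have hint : Algebra.IsIntegral R' B' := inferInstance
  let P' : Ideal R' := RingHom.ker (MvPolynomial.constantCoeff : R' →+* κ)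
  have hP' : P'.IsPrime := RingHom.ker_isPrime _
  have : FaithfulSMul R' B' := (faithfulSMul_iff_algebraMap_injective R' B').mpr hginj
  obtain ⟨x', hx'⟩ := Algebra.IsIntegral.comap_surjective R' B' ⟨P', hP'⟩
  let x : Ideal B := x'.asIdeal.comap mk
  have hx : x.IsPrime := inferInstance
  have hmem : ∀ f : R, f ∈ x.under R ↔ res (MvPolynomial.constantCoeff f) = 0 := by
    intro f
    have h0 : MvPolynomial.constantCoeff (α f) = res (MvPolynomial.constantCoeff f) :=
      MvPolynomial.constantCoeff_map _ _
    rw [← h0]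
    change mk (φ f) ∈ x'.asIdeal ↔ _
    have h1 : mk (φ f) = g (α f) := congrArg (fun h => h f) hcomm
    rw [h1]
    have h2 : g (α f) ∈ x'.asIdeal ↔ α f ∈ P' := by
      have h3 : x'.asIdeal.comap (algebraMap R' B') = P' := congrArg PrimeSpectrum.asIdeal hx'
      rw [← h3]
      rfl
    rw [h2]
    rfl
  let q₀ : Ideal R := RingHom.ker (MvPolynomial.constantCoeff : R →+* V)
  have hq₀ : q₀.IsPrime := RingHom.ker_isPrime _
  have hq₀x : q₀ ≤ x.under R := by
    intro f hf
    rw [hmem, (show MvPolynomial.constantCoeff f = 0 from hf), map_zero]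
  have hker : RingHom.ker mk = (RingHom.ker α).map (algebraMap R B) := by
    have h1 : RingHom.ker mk = m.map (algebraMap V B) := Ideal.mk_ker
    rw [h1]
    apply le_antisymm
    · rw [Ideal.map_le_iff_le_comap]
      intro v hv
      have h2 : algebraMap V B v = algebraMap R B (MvPolynomial.C v) := (φ.commutes v).symm
      rw [Ideal.mem_comap, h2]
      apply Ideal.mem_map_of_mem
      rw [RingHom.mem_ker]
      change MvPolynomial.map res (MvPolynomial.C v) = 0
      rw [MvPolynomial.map_C, (Ideal.Quotient.eq_zero_iff_mem.mpr hv : res v = 0), map_zero]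
    · rw [Ideal.map_le_iff_le_comap, ← h1]
      intro f hf
      rw [Ideal.mem_comap, RingHom.mem_ker]
      change (mk.comp φ.toRingHom) f = 0
      rw [hcomm, RingHom.comp_apply, (show α f = 0 from hf), map_zero]
  have hqf : Algebra.QuasiFiniteAt R x :=
    quasiFiniteAt_of_finite_quotient α hα mk hmk hcomm hker x
      (fun a ha => by
        change mk a ∈ x'.asIdeal
        rw [(show mk a = 0 from ha)]
        exact zero_mem _)
  obtain ⟨q, r, hq, hqx, hqq₀, hrq, hr, hall⟩ := goingDown_of_quasiFiniteAt x q₀ hq₀x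
  have hV : ∀ v : V, algebraMap V B v = algebraMap R B (MvPolynomial.C v) :=
    fun v => (φ.commutes v).symm
  refine ⟨q, x, hq, hx, hqx, ?_, ?_, ?_⟩
  · rw [eq_bot_iff]
    intro v hv
    have h1 : MvPolynomial.C v ∈ q.under R := by
      change algebraMap R B (MvPolynomial.C v) ∈ q
      rw [← hV]
      exact hv
    rw [hqq₀] at h1
    have h2 : MvPolynomial.constantCoeff (MvPolynomial.C v : R) = 0 := h1
    rwa [MvPolynomial.constantCoeff_C] at h2
  · intro v hv
    change algebraMap V B v ∈ x
    rw [hV]
    change MvPolynomial.C v ∈ x.under R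
    rw [hmem, MvPolynomial.constantCoeff_C]
    exact Ideal.Quotient.eq_zero_iff_mem.mpr hv
  · -- algebraicity
    have : IsDomain (B ⧸ q) := Ideal.Quotient.isDomain q
    have hc : (algebraMap V (B ⧸ q)).comp (MvPolynomial.constantCoeff : R →+* V) =
        (Ideal.Quotient.mk q).comp (algebraMap R B) := by
      apply MvPolynomial.ringHom_ext
      · intro v
        rw [RingHom.comp_apply, MvPolynomial.constantCoeff_C, RingHom.comp_apply, ← hV]
        rfl
      · intro i
        rw [RingHom.comp_apply, MvPolynomial.constantCoeff_X, map_zero, RingHom.comp_apply]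
        symm
        apply Ideal.Quotient.eq_zero_iff_mem.mpr
        change MvPolynomial.X i ∈ q.under R
        rw [hqq₀]
        exact MvPolynomial.constantCoeff_X (R := V) i
    have hint : ∀ a : B, IsIntegral R a → IsIntegral V (Ideal.Quotient.mk q a) := fun a ha =>
      ha.map_of_comp_eq (MvPolynomial.constantCoeff : R →+* V) (Ideal.Quotient.mk q) hc
    constructor
    intro y
    obtain ⟨a, rfl⟩ := Ideal.Quotient.mk_surjective y
    obtain ⟨n, hn⟩ := hall a
    have h1 := (hint _ hn).isAlgebraic
    rw [map_mul] at h1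
    refine IsAlgebraic.of_mul ?_ (hint _ (hr.pow n)).isAlgebraic h1
    apply mem_nonZeroDivisors_of_ne_zero
    rw [map_pow]
    exact pow_ne_zero _ (fun h => hrq (Ideal.Quotient.eq_zero_iff_mem.mp h))

/-- **Quasi-sections of faithfully flat algebras of finite type.** Let `A → B` be faithfully flat of
finite type, `A` a domain, `m` a maximal ideal of `A`. There are primes `q ≤ x` of `B` with
`q ∩ A = 0`, `x ∩ A = m` and `B / q` algebraic over `A`. -/
theorem exists_quasiSection_of_faithfullyFlat {A B : Type*} [CommRing A] [IsDomain A] [CommRing B]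
    [Algebra A B] [Module.FaithfullyFlat A B] [Algebra.FiniteType A B] (m : Ideal A) [m.IsPrime] :
    ∃ q x : Ideal B, q.IsPrime ∧ x.IsPrime ∧ q ≤ x ∧ q.under A = ⊥ ∧
      m ≤ x.under A ∧ Algebra.IsAlgebraic A (B ⧸ q) := by
  let K := FractionRing A
  -- a valuation ring dominating `A_m`
  have hunit : ∀ y : m.primeCompl, IsUnit (algebraMap A K y) := by
    intro y
    have : (y : A) ≠ 0 := fun h => y.2 (by rw [h]; exact m.zero_mem)
    exact isUnit_iff_ne_zero.mpr (fun h => this ((IsFractionRing.injective A K) (by rw [h, map_zero])))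
  let φ : Localization.AtPrime m →+* K := IsLocalization.lift (M := m.primeCompl) hunit
  obtain ⟨V, hV, hVloc⟩ := IsLocalRing.exists_factor_valuationRing φ
  let ψ : Localization.AtPrime m →+* V := φ.codRestrict V.toSubring hV
  let ι : A →+* V := ψ.comp (algebraMap A (Localization.AtPrime m))
  have hι : ∀ a : A, ((ι a : V) : K) = algebraMap A K a := by
    intro a
    change φ (algebraMap A _ a) = _
    exact IsLocalization.lift_eq hunit a
  let : Algebra A V := ι.toAlgebra
  have : IsScalarTower A V K := .of_algebraMap_eq fun a => (hι a).symm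
  have hιinj : Function.Injective (algebraMap A V) := by
    intro a b h
    apply IsFractionRing.injective A K
    rw [← hι, ← hι]
    exact congrArg _ h
  have hιm : ∀ a ∈ m, ι a ∈ IsLocalRing.maximalIdeal V := by
    intro a ha
    rw [IsLocalRing.mem_maximalIdeal, mem_nonunits_iff]
    intro hu
    have h1 : IsUnit (algebraMap A (Localization.AtPrime m) a) := hVloc.map_nonunit _ hu
    exact (IsLocalization.AtPrime.isUnit_to_map_iff (Localization.AtPrime m) m a).mp h1 ha
  have halgV : Algebra.IsAlgebraic A V := by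
    constructor
    intro v
    have h1 : IsAlgebraic A (v : K) := IsFractionRing.isAlgebraic_iff A K K |>.mpr
      (isAlgebraic_algebraMap (v : K))
    exact (isAlgebraic_algebraMap_iff (R := A) (S := V) (A := K) Subtype.val_injective).mp h1
  -- base change
  let C := V ⊗[A] B
  have : Module.FaithfullyFlat V C := inferInstance
  obtain ⟨x₁, hx₁, hx₁V⟩ := Ideal.exists_isPrime_liesOver_of_faithfullyFlat (B := C)
    (IsLocalRing.maximalIdeal V)
  obtain ⟨η, hηx, hη, hηV⟩ := Ideal.exists_ideal_le_liesOver_of_le (S := C) (p := (⊥ : Ideal V))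
    (q := IsLocalRing.maximalIdeal V) x₁ bot_le
  let D := C ⧸ η
  have : IsDomain D := Ideal.Quotient.isDomain η
  have hVD : Function.Injective (algebraMap V D) := by
    rw [injective_iff_map_eq_zero]
    intro v hv
    have : algebraMap V C v ∈ η := Ideal.Quotient.eq_zero_iff_mem.mp hv
    have h2 : v ∈ η.under V := this
    rw [← hηV.over] at h2
    exact h2
  have : FaithfulSMul V D := (faithfulSMul_iff_algebraMap_injective V D).mpr hVD
  have : Algebra.FiniteType V D := by
    have : Algebra.FiniteType V C := inferInstance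
    exact Algebra.FiniteType.trans (S := C) this
      (.of_surjective (Algebra.ofId C D) Ideal.Quotient.mk_surjective)
  have hne : (IsLocalRing.maximalIdeal V).map (algebraMap V D) ≠ ⊤ := by
    intro h
    have h1 : (IsLocalRing.maximalIdeal V).map (algebraMap V D) ≤
        x₁.map (Ideal.Quotient.mk η) := by
      rw [IsScalarTower.algebraMap_eq V C D, ← Ideal.map_map]
      apply Ideal.map_mono
      rw [Ideal.map_le_iff_le_comap]
      exact hx₁V.over.le
    rw [h, top_le_iff] at h1
    have h2 := congrArg (Ideal.comap (Ideal.Quotient.mk η)) h1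
    rw [Ideal.comap_map_of_surjective _ Ideal.Quotient.mk_surjective, Ideal.comap_top,
      ← RingHom.ker_eq_comap_bot, Ideal.mk_ker, sup_eq_left.mpr hηx] at h2
    exact hx₁.ne_top h2
  obtain ⟨q', x', hq', hx', hqx', hq'V, hx'V, halg⟩ := exists_quasiSection hne
  let β : B →+* D := (Ideal.Quotient.mk η).comp Algebra.TensorProduct.includeRight.toRingHom
  have hβ : ∀ a : A, β (algebraMap A B a) = algebraMap V D (algebraMap A V a) := by
    intro a
    change Ideal.Quotient.mk η (1 ⊗ₜ algebraMap A B a) = Ideal.Quotient.mk η (algebraMap A V a ⊗ₜ 1)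
    congr 1
    rw [Algebra.algebraMap_eq_smul_one, Algebra.algebraMap_eq_smul_one, TensorProduct.tmul_smul,
      TensorProduct.smul_tmul']
  have hu : ∀ (J : Ideal D) (a : A), a ∈ (J.comap β).under A ↔ algebraMap A V a ∈ J.under V := by
    intro J a
    change β (algebraMap A B a) ∈ J ↔ algebraMap V D (algebraMap A V a) ∈ J
    rw [hβ]
  refine ⟨q'.comap β, x'.comap β, inferInstance, inferInstance, Ideal.comap_mono hqx', ?_, ?_, ?_⟩
  · rw [eq_bot_iff]
    intro a ha
    rw [hu, hq'V] at ha
    exact hιinj (by rw [(show algebraMap A V a = 0 from ha), map_zero])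
  · intro a ha
    rw [hu]
    exact hx'V (hιm a ha)
  · -- algebraicity
    have h1 : Algebra.IsAlgebraic A (D ⧸ q') := by
      have : IsScalarTower A V (D ⧸ q') := inferInstance
      exact Algebra.IsAlgebraic.trans A V (D ⧸ q')
    let γ : (B ⧸ q'.comap β) →ₐ[A] (D ⧸ q') :=
      { Ideal.quotientMap q' β le_rfl with
        commutes' := fun a => by
          change Ideal.quotientMap q' β le_rfl (Ideal.Quotient.mk _ (algebraMap A B a)) = _
          rw [Ideal.quotientMap_mk, hβ]
          rfl }
    have hγ : Function.Injective γ := Ideal.quotientMap_injective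
    constructor
    intro y
    exact (isAlgebraic_algHom_iff γ hγ).mp (h1.isAlgebraic (γ y))

/-- The Jacobson property descends along faithfully flat ring maps of finite type. -/
theorem isJacobsonRing_of_faithfullyFlat_finiteType (A B : Type*) [CommRing A] [CommRing B]
    [Algebra A B] [Module.FaithfullyFlat A B] [Algebra.FiniteType A B] [IsJacobsonRing B] :
    IsJacobsonRing A := by
  rw [isJacobsonRing_iff_prime_eq]
  intro P hP
  refine le_antisymm ?_ Ideal.le_jacobson
  intro f hf
  by_contra hfP
  -- a prime `p ≥ P` maximal among ideals avoiding the powers of `f`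
  have hdisj : Disjoint (P : Set A) (Submonoid.powers f) := by
    rw [Set.disjoint_left]
    rintro _ ha ⟨n, rfl⟩
    exact hfP (hP.mem_of_pow_mem _ ha)
  obtain ⟨p, hPp, hp⟩ := zorn_le_nonempty₀ {p : Ideal A | Disjoint (p : Set A) (Submonoid.powers f)}
    (fun c hc hc' y hy => by
      refine ⟨sSup c, Set.disjoint_left.mpr fun z hz => ?_, fun _ => le_sSup⟩
      have ⟨p, hp⟩ := (Submodule.mem_sSup_of_directed ⟨y, hy⟩ hc'.directedOn).mp hz
      exact Set.disjoint_left.mp (hc hp.1) hp.2) P hdisj
  have hpp : p.IsPrime := Ideal.isPrime_of_maximally_disjoint p (Submonoid.powers f) hp.1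
    (fun J hJ H => hJ.ne (hp.eq_of_le H hJ.le))
  have hfp : f ∉ p := fun h => Set.disjoint_left.mp hp.1 h ⟨1, pow_one f⟩
  have hmaxp : ∀ J : Ideal A, p ≤ J → J.IsPrime → f ∉ J → J = p := by
    intro J hJ hJp hfJ
    refine (hp.eq_of_le ?_ hJ).symm
    change Disjoint (J : Set A) (Submonoid.powers f)
    rw [Set.disjoint_left]
    rintro _ ha ⟨n, rfl⟩
    exact hfJ (hJp.mem_of_pow_mem _ ha)
  obtain ⟨m, hm, hpm⟩ := Ideal.exists_le_maximal p hpp.ne_top
  have hfm : f ∈ m := by
    have := Ideal.mem_sInf.mp hf (I := m) ⟨hPp.trans hpm, hm⟩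
    exact this
  -- pass to the quotient by `p`
  let A₁ := A ⧸ p
  let B₁ := A₁ ⊗[A] B
  let f₁ : A₁ := Ideal.Quotient.mk p f
  have hf₁ : f₁ ≠ 0 := fun h => hfp (Ideal.Quotient.eq_zero_iff_mem.mp h)
  have : IsJacobsonRing B₁ := by
    refine isJacobsonRing_of_surjective
      ⟨(Algebra.TensorProduct.includeRight : B →ₐ[A] B₁).toRingHom, ?_⟩
    intro y
    induction y using TensorProduct.induction_on with
    | zero => exact ⟨0, map_zero _⟩
    | tmul a b =>
      obtain ⟨a, rfl⟩ := Ideal.Quotient.mk_surjective a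
      refine ⟨a • b, ?_⟩
      change (1 : A₁) ⊗ₜ[A] (a • b) = _
      rw [TensorProduct.tmul_smul, TensorProduct.smul_tmul']
      congr 1
      rw [Algebra.smul_def, mul_one]
      rfl
    | add y z hy hz =>
      obtain ⟨b, hb⟩ := hy
      obtain ⟨c, hc⟩ := hz
      exact ⟨b + c, by rw [map_add, hb, hc]⟩
  have hm₁ : (m.map (Ideal.Quotient.mk p)).IsPrime :=
    Ideal.map_isPrime_of_surjective Ideal.Quotient.mk_surjective (by rw [Ideal.mk_ker]; exact hpm)
  obtain ⟨q, x, hq, hx, hqx, hqA, hxA, halg⟩ :=
    exists_quasiSection_of_faithfullyFlat (A := A₁) (B := B₁) (m.map (Ideal.Quotient.mk p))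
  have hfq : algebraMap A₁ B₁ f₁ ∉ q := by
    intro h
    have : f₁ ∈ q.under A₁ := h
    rw [hqA] at this
    exact hf₁ this
  obtain ⟨n, hn, hqn, hfn⟩ : ∃ n : Ideal B₁, n.IsMaximal ∧ q ≤ n ∧ algebraMap A₁ B₁ f₁ ∉ n := by
    have h1 : q.jacobson = q := isJacobsonRing_iff_prime_eq.mp inferInstance q hq
    by_contra! hcon
    apply hfq
    rw [← h1, Ideal.jacobson, Ideal.mem_sInf]
    rintro J ⟨hJ, hJm⟩
    exact hcon J hJm hJ
  have hnA : n.under A₁ = ⊥ := by
    have h1 : (n.under A₁).comap (Ideal.Quotient.mk p) = p := by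
      have : (n.under A₁).IsPrime := inferInstance
      refine hmaxp _ ?_ inferInstance (fun h => hfn h)
      intro a ha
      rw [Ideal.mem_comap, Ideal.Quotient.eq_zero_iff_mem.mpr ha]
      exact zero_mem _
    rw [eq_bot_iff]
    intro a ha
    obtain ⟨a, rfl⟩ := Ideal.Quotient.mk_surjective a
    have h2 : a ∈ (n.under A₁).comap (Ideal.Quotient.mk p) := ha
    rw [h1] at h2
    exact Ideal.Quotient.eq_zero_iff_mem.mpr h2
  have hnq : n = q := by
    refine le_antisymm ?_ hqn
    intro b hb
    by_contra hbq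
    have : IsDomain (B₁ ⧸ q) := Ideal.Quotient.isDomain q
    have h1 : (n.map (Ideal.Quotient.mk q)).comap (algebraMap A₁ (B₁ ⧸ q)) ≠ ⊥ := by
      refine Ideal.comap_ne_bot_of_algebraic_mem (x := Ideal.Quotient.mk q b)
        (fun h => hbq (Ideal.Quotient.eq_zero_iff_mem.mp h)) (Ideal.mem_map_of_mem _ hb)
        (halg.isAlgebraic _)
    apply h1
    rw [← hnA]
    ext a
    change Ideal.Quotient.mk q (algebraMap A₁ B₁ a) ∈ n.map (Ideal.Quotient.mk q) ↔
      algebraMap A₁ B₁ a ∈ n
    rw [← Ideal.mem_comap, Ideal.comap_map_of_surjective _ Ideal.Quotient.mk_surjective,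
      ← RingHom.ker_eq_comap_bot, Ideal.mk_ker, sup_eq_left.mpr hqn]
  rw [hnq] at hn
  have hxq : q = x := hn.eq_of_le hx.ne_top hqx
  have hfx : f₁ ∈ x.under A₁ := hxA (Ideal.mem_map_of_mem _ hfm)
  rw [← hxq, hqA] at hfx
  exact hf₁ hfx

end Groth.Agent.Desc.JacobsonDescent
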