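import Groth.Agent.Desc.SecData4
import Groth.Agent.Desc.EtAssocPb
import Groth.Agent.VarietyB.PullSec
import Groth.Prelude.Def_Desc

/-!
# The pseudofunctor `Desc.modPF` with global sections
-/

set_option autoImplicit false
set_option backward.isDefEq.respectTransparency false
set_option backward.isDefEq.respectTransparency.types false
open CategoryTheory CategoryTheory.Limits AlgebraicGeometry Opposite Bicategory TensorProduct
universe u
open _root_.Desc

namespace Groth.Agent.Desc.ModSec

open Pseudofunctor Groth.Agent.Desc.SecD Groth.Agent.Desc.EtAssocPb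

/-- global sections of modules, as modules over the global functions. -/
noncomputable def ΓMod (X : Scheme.{u}) : X.Modules ⥤ ModuleCat.{u} Γ(X, ⊤) where
  obj M := ModuleCat.of Γ(X, ⊤) Γ(M, ⊤)
  map φ := ModuleCat.ofHom
    { toFun := φ.app ⊤
      map_add' := map_add _
      map_smul' := fun a m => Scheme.Modules.Hom.app_smul φ a m }
  map_id _ := rfl
  map_comp _ _ := rfl

theorem pb_smul {X Y : Scheme.{u}} (f : Y ⟶ X) (M : X.Modules) (a : Γ(X, ⊤)) (m : Γ(M, ⊤)) :
    pb f M (a • m) = f.appTop a • (pb f M m : Γ((Scheme.Modules.pullback f).obj M, ⊤)) :=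
  Scheme.Modules.Hom.app_smul ((Scheme.Modules.pullbackPushforwardAdjunction f).unit.app M) a m

theorem modPF_map_obj {X Y : Scheme.{u}} (f : Y ⟶ X) (M : X.Modules) :
    (modPF.map f.op.toLoc).toFunctor.obj M = (Scheme.Modules.pullback f).obj M := rfl

theorem modPF_map_map {X Y : Scheme.{u}} (f : Y ⟶ X) {M N : X.Modules} (φ : M ⟶ N) :
    (modPF.map f.op.toLoc).toFunctor.map φ = (Scheme.Modules.pullback f).map φ := rfl

theorem modPF_mapComp {X Y Z : Scheme.{u}} (f : Y ⟶ X) (g : Z ⟶ Y) (M : X.Modules) :
    (modPF.mapComp f.op.toLoc g.op.toLoc).hom.toNatTrans.app M =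
      (Scheme.Modules.pullbackComp g f).inv.app M := by
  simp only [modPF, Pseudofunctor.comp_mapComp, Iso.trans_hom,
    Cat.Hom.toNatTrans_comp, NatTrans.comp_app]
  refine (Category.comp_id _).trans ?_
  change ((Scheme.Modules.pseudofunctor.mapComp f.op.toLoc g.op.toLoc).hom.τl).toNatTrans.app M = _
  rw [Scheme.Modules.pseudofunctor_mapComp_hom_τl]
  rfl

theorem pb_comp_inv {X Y Z : Scheme.{u}} (f : Y ⟶ X) (g : Z ⟶ Y) (M : X.Modules) :
    pb (g ≫ f) M ≫ gs ((Scheme.Modules.pullbackComp g f).inv.app M) =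
      pb f M ≫ pb g ((Scheme.Modules.pullback f).obj M) := by
  rw [pb_comp, Category.assoc, Category.assoc, ← gs_comp, Iso.hom_inv_id_app]
  exact congrArg (fun k => pb f M ≫ k) (Category.comp_id _)

/-- `modPF` with global sections. -/
noncomputable def sec : SecData.{u} modPF.{u} where
  O := Scheme.Γ
  Γ X := ΓMod X
  unit f M := (pb f M).hom
  unit_smul f M a m := pb_smul f M a m
  map_unit f _ _ φ m := congr($((pb_naturality f φ).symm) m)
  mapComp_unit f g M m := by
    have h := congr($(pb_comp_inv f g M) m)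
    rw [← modPF_mapComp] at h
    exact h

end Groth.Agent.Desc.ModSec
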