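import Groth.Agent.Desc.ModSec
import Groth.Agent.FormalB.ModPowAff2
import Groth.Agent.CohqA.AffPush
import Groth.Agent.Ega1.QAlg
import Groth.Agent.Ega3B.DevHom
import Groth.Agent.CohqB.AffIso

/-!
# Quasi-coherent modules on affine schemes and their global sections
-/

set_option autoImplicit false
set_option backward.isDefEq.respectTransparency false
set_option backward.isDefEq.respectTransparency.types false
open CategoryTheory CategoryTheory.Limits AlgebraicGeometry Opposite Bicategory TensorProduct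
universe u
open _root_.Desc

namespace Groth.Agent.Desc.ModSec

open Pseudofunctor Groth.Agent.Desc.SecD Groth.Agent.Desc.EtAssocPb

theorem isBC_of_isBaseChange {R A M P : Type*} [CommRing R] [CommRing A] [AddCommGroup M]
    [AddCommGroup P] (φ : R →+* A) (iM : Module R M) (iP : Module A P) (u : M →+ P)
    (h : letI : Algebra R A := φ.toAlgebra
      letI : Module R P := Module.compHom P φ
      haveI : IsScalarTower R A P := ⟨fun a b c => by rw [Algebra.smul_def, mul_smul]; rfl⟩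
      ∃ u' : M →ₗ[R] P, (∀ m, u' m = u m) ∧ IsBaseChange A u') : IsBC φ iM iP u := by
  let _ : Algebra R A := φ.toAlgebra
  let _ : Module R P := Module.compHom P φ
  have _ : IsScalarTower R A P := ⟨fun a b c => by rw [Algebra.smul_def, mul_smul]; rfl⟩
  obtain ⟨u', hu', h⟩ := h
  have hs : ∀ (r : R) (m : M), u (r • m) = φ r • u m := by
    intro r m
    rw [← hu', ← hu', map_smul]
    rfl
  exact ⟨hs, (VarietyB.BCAlg.isBaseChange_iff u' (⟨⟨u, map_add u⟩, hs⟩ : M →ₛₗ[algebraMap R A] P)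
    hu').1 h⟩

theorem isBC_pb {X Y : Scheme.{u}} [IsAffine X] [IsAffine Y] (f : Y ⟶ X) (M : X.Modules)
    (hM : Coh.IsQCoh M) :
    IsBC (R := Γ(X, ⊤)) (A := Γ(Y, ⊤)) (M := Γ(M, ⊤))
      (P := Γ((Scheme.Modules.pullback f).obj M, ⊤)) f.appTop.hom inferInstance inferInstance
      (pb f M).hom := by
  have h := VarietyB.PullSec.isBaseChange_secₗ f M (U := ⊤) (V := ⊤) le_rfl hM
    (isAffineOpen_top X) (isAffineOpen_top Y)
  have e : f.appTop = f.appLE ⊤ ⊤ le_rfl := (Scheme.Hom.appLE_eq_app f).symm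
  rw [e]
  refine isBC_of_isBaseChange _ _ _ _ ⟨VarietyB.PullSec.secₗ f M le_rfl, ?_, h⟩
  intro m
  change VarietyB.PullSec.sec f M _ m = pb f M m
  rw [VarietyB.PullSec.sec_apply]
  exact Fdesc.QCohStalk.map_self _ _ _

theorem hom_ext_top {S : Scheme.{u}} [IsAffine S] {M N : S.Modules} (hM : Coh.IsQCoh M)
    (φ ψ : M ⟶ N) (h : ∀ m : Γ(M, ⊤), φ.app ⊤ m = ψ.app ⊤ m) : φ = ψ :=
  FormalB.ModPowAff2.hom_ext_of_affine_cover hM φ ψ
    (fun _ => ⟨⊤, trivial, isAffineOpen_top S, h⟩)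

theorem exists_hom_top {S : Scheme.{u}} [IsAffine S] {M N : S.Modules} (hM : Coh.IsQCoh M)
    (s : Γ(M, ⊤) →ₗ[Γ(S, ⊤)] Γ(N, ⊤)) : ∃ φ : M ⟶ N, ∀ m : Γ(M, ⊤), φ.app ⊤ m = s m := by
  have hU := isAffineOpen_top S
  obtain ⟨φ, hφ⟩ := Ega3B.DevHom.exists_hom hU M N hM s
  have hi : IsIso hU.fromSpec := by
    rw [IsAffineOpen.fromSpec_top]
    infer_instance
  obtain ⟨φ', rfl⟩ := (Scheme.Modules.restrictFunctor hU.fromSpec).map_surjective φ
  refine ⟨φ', fun m => ?_⟩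
  apply (Ega3B.DevHom.topEquiv hU N).injective
  rw [Ega3B.DevHom.topEquiv_apply, Ega3B.DevHom.topEquiv_apply, ← hφ]
  apply (ConcreteCategory.bijective_of_isIso (N.restrictAppIso hU.fromSpec ⊤).hom).1
  rw [Ega3B.DevHom.restrictAppIso_toTop]
  have h1 : (N.restrictAppIso hU.fromSpec ⊤).hom
      (((Scheme.Modules.restrictFunctor hU.fromSpec).map φ').app ⊤ (Ega3B.DevHom.toTop hU M m)) =
      φ'.app _ ((M.restrictAppIso hU.fromSpec ⊤).hom (Ega3B.DevHom.toTop hU M m)) := rfl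
  rw [h1, Ega3B.DevHom.restrictAppIso_toTop]
  have h2 := congr($(φ'.mapPresheaf.naturality
    (homOfLE (Fdesc.QCohStalk.fromSpec_image_le hU ⊤)).op) m)
  exact h2.symm

theorem isIso_of_bijective_top {S : Scheme.{u}} [IsAffine S] {M N : S.Modules} (hM : Coh.IsQCoh M)
    (hN : Coh.IsQCoh N) (φ : M ⟶ N) (h : Function.Bijective (φ.app ⊤)) : IsIso φ :=
  CohqB.AffIso.isIso_of_affine_cover φ (fun _ => ⟨⊤, trivial, isAffineOpen_top S, h⟩)

/-- the quasi-coherent module on an affine scheme with given global sections. -/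
noncomputable def ofMod (S : Scheme.{u}) [IsAffine S] (N : ModuleCat.{u} Γ(S, ⊤)) : S.Modules :=
  (Scheme.Modules.pushforward S.isoSpec.inv).obj (tilde N)

theorem isQCoh_ofMod (S : Scheme.{u}) [IsAffine S] (N : ModuleCat.{u} Γ(S, ⊤)) :
    Coh.IsQCoh (ofMod S N) :=
  CohqA.AffPush.isQCoh_push _ _ inferInstance

theorem isoSpec_inv_appTop (S : Scheme.{u}) [IsAffine S] :
    S.isoSpec.inv.appTop = (Scheme.ΓSpecIso Γ(S, ⊤)).inv := by
  have h1 : S.isoSpec.inv.appTop ≫ S.isoSpec.hom.appTop = 𝟙 _ := by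
    rw [← Scheme.Hom.comp_appTop, Iso.hom_inv_id, Scheme.Hom.id_appTop]
  have h2 : S.isoSpec.hom.appTop = (Scheme.ΓSpecIso Γ(S, ⊤)).hom := Scheme.toSpecΓ_appTop S
  rw [h2] at h1
  rw [← cancel_mono (Scheme.ΓSpecIso Γ(S, ⊤)).hom, h1, Iso.inv_hom_id]

theorem nonempty_ΓMod_ofMod (S : Scheme.{u}) [IsAffine S] (N : ModuleCat.{u} Γ(S, ⊤)) :
    Nonempty ((ΓMod S).obj (ofMod S N) ≅ N) := by
  let e : N ≃ₗ[Γ(S, ⊤)] Γ(tilde N, (⊤ : (Spec Γ(S, ⊤)).Opens)) := (tilde.isoTop N).toLinearEquiv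
  let e' : N ≃ₗ[Γ(S, ⊤)] Γ(ofMod S N, ⊤) :=
    { e.toAddEquiv with
      map_smul' := fun a m => by
        have h1 : e (a • m) = a • e m := map_smul e a m
        have h2 : a • e m = (Scheme.ΓSpecIso Γ(S, ⊤)).inv a • e m := by
          rw [Scheme.Modules.smul_Spec_def]
          have : (Spec Γ(S, ⊤)).presheaf.map (⊤ : (Spec Γ(S, ⊤)).Opens).leTop.op = 𝟙 _ :=
            (Spec Γ(S, ⊤)).presheaf.map_id _
          rw [this]
          rfl
        rw [← isoSpec_inv_appTop] at h2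
        exact h1.trans h2 }
  exact ⟨(LinearEquiv.toModuleIso e').symm⟩

end Groth.Agent.Desc.ModSec
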