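import Groth.Agent.Desc.SecDataGen

/-!
# Effectivity of descent data for pseudofunctors with sections: version with a predicate

Same as `SecDataGen`, but we keep track of a property `P` of the descended object.
-/

set_option autoImplicit false
set_option backward.isDefEq.respectTransparency false
set_option backward.isDefEq.respectTransparency.types false
open CategoryTheory Opposite Bicategory TensorProduct
universe w t v' v u' u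

namespace Groth.Agent.Desc.SecD

open Pseudofunctor Groth.Agent.Desc.CoactDescent

variable {C : Type u} [Category.{v} C] {F : Pseudofunctor (LocallyDiscrete Cᵒᵖ) Cat.{v', u'}}
  (σ : SecData.{w} F)

namespace SecData

section

variable {X S Y Z : C} {f : X ⟶ S} (D : F.DescentData (fun _ : PUnit.{t + 1} => f))

/-- **Effectivity of descent of modules**, abstract form. -/
theorem effective_P (p₁ p₂ : Y ⟶ X) (hp : p₁ ≫ f = p₂ ≫ f)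
    (hY : ∀ {T : C} (f₁ f₂ : T ⟶ X), f₁ ≫ f = f₂ ≫ f → ∃ l : T ⟶ Y, l ≫ p₁ = f₁ ∧ l ≫ p₂ = f₂)
    (q₁ q₂ q₃ : Z ⟶ X)
    (q₂₃ : Z ⟶ Y) (h₂₃ : q₂₃ ≫ p₁ = q₂) (h₂₃' : q₂₃ ≫ p₂ = q₃)
    (q₁₂ : Z ⟶ Y) (h₁₂ : q₁₂ ≫ p₁ = q₁) (h₁₂' : q₁₂ ≫ p₂ = q₂)
    (q₁₃ : Z ⟶ Y) (h₁₃ : q₁₃ ≫ p₁ = q₁) (h₁₃' : q₁₃ ≫ p₂ = q₃)
    (hflat : CoactEff.{w} (σ.O.map f.op).hom)
    (hbc : IsBC (σ.O.map f.op).hom (Module.compHom _ (σ.O.map f.op).hom)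
      (Module.compHom _ (σ.O.map p₁.op).hom) (σ.unit p₂ (dObj D)))
    (hu : Function.Injective (σ.unit (𝟙 X) (dObj D)))
    (hbc₃ : IsBC (σ.O.map f.op).hom
      (Module.compHom _ ((σ.O.map p₁.op).hom.comp (σ.O.map f.op).hom))
      (Module.compHom _ (σ.O.map q₁.op).hom) (σ.trans p₂ q₂₃ q₃ h₂₃' (dObj D)))
    (P : F.obj (.mk (op S)) → Prop)
    (hfree : ∀ N : ModuleCat.{w} (σ.O.obj (op S)), ∃ G : F.obj (.mk (op S)), P G ∧ σ.Free f G ∧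
      Nonempty ((σ.Γ S).obj G ≅ N))
    (hiso : ∀ (G : F.obj (.mk (op S))), P G → σ.Free f G →
      ∀ ψ : (F.map f.op.toLoc).toFunctor.obj G ⟶ dObj D,
      Function.Bijective ((σ.Γ X).map ψ).hom → IsIso ψ) :
    ∃ G : F.obj (.mk (op S)), P G ∧ σ.Free f G ∧
      Nonempty ((F.toDescentData (fun _ : PUnit.{t + 1} => f)).obj G ≅ D) := by
  obtain ⟨Δ, hΔ₁, hΔ₂⟩ := hY (𝟙 X) (𝟙 X) rfl
  obtain ⟨N, iN, hN, hmem, hNbc⟩ := σ.exists_sub_of D p₁ p₂ hp Δ hΔ₁ hΔ₂ q₁ q₂ q₃ q₂₃ h₂₃ h₂₃' q₁₂ h₁₂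
    h₁₂' q₁₃ h₁₃ h₁₃' hflat hbc hu hbc₃
  obtain ⟨G, hPG, hG, ⟨e⟩⟩ := hfree (ModuleCat.of _ N)
  have hb : Function.Bijective e.hom.hom := ConcreteCategory.bijective_of_isIso e.hom
  let e' : (σ.Γ S).obj G ≃ₗ[σ.O.obj (op S)] N := LinearEquiv.ofBijective e.hom.hom hb
  refine ⟨G, hPG, hG, σ.exists_iso_of_free D p₁ p₂ hp hY G hG
    (N.subtype.comp e'.toLinearMap.toAddMonoidHom) ?_ ?_ (hiso G hPG hG)⟩
  · exact hNbc.comp_equiv e'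
  · intro g
    exact (hmem _).1 (e' g).2

/-- **Effectivity of descent of modules**, abstract form, with pushout squares of rings. -/
theorem effective_of_isPushout_P (p₁ p₂ : Y ⟶ X) (hp : p₁ ≫ f = p₂ ≫ f)
    (hY : ∀ {T : C} (f₁ f₂ : T ⟶ X), f₁ ≫ f = f₂ ≫ f → ∃ l : T ⟶ Y, l ≫ p₁ = f₁ ∧ l ≫ p₂ = f₂)
    (q₁ : Z ⟶ X) (q₂₃ : Z ⟶ Y) (hq : q₁ ≫ f = q₂₃ ≫ p₁ ≫ f)
    (hflat : CoactEff.{w} (σ.O.map f.op).hom)
    (hOY : IsPushout (σ.O.map f.op) (σ.O.map f.op) (σ.O.map p₁.op) (σ.O.map p₂.op))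
    (hOZ : IsPushout (σ.O.map f.op) (σ.O.map (p₁ ≫ f).op) (σ.O.map q₁.op) (σ.O.map q₂₃.op))
    (hbc : IsBC (σ.O.map p₂.op).hom inferInstance inferInstance (σ.unit p₂ (dObj D)))
    (hu : Function.Injective (σ.unit (𝟙 X) (dObj D)))
    (hbc₃ : IsBC (σ.O.map q₂₃.op).hom inferInstance inferInstance
      (σ.unit q₂₃ ((F.map p₂.op.toLoc).toFunctor.obj (dObj D))))
    (P : F.obj (.mk (op S)) → Prop)
    (hfree : ∀ N : ModuleCat.{w} (σ.O.obj (op S)), ∃ G : F.obj (.mk (op S)), P G ∧ σ.Free f G ∧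
      Nonempty ((σ.Γ S).obj G ≅ N))
    (hiso : ∀ (G : F.obj (.mk (op S))), P G → σ.Free f G →
      ∀ ψ : (F.map f.op.toLoc).toFunctor.obj G ⟶ dObj D,
      Function.Bijective ((σ.Γ X).map ψ).hom → IsIso ψ) :
    ∃ G : F.obj (.mk (op S)), P G ∧ σ.Free f G ∧
      Nonempty ((F.toDescentData (fun _ : PUnit.{t + 1} => f)).obj G ≅ D) := by
  have hq₁₂ : q₁ ≫ f = (q₂₃ ≫ p₁) ≫ f := by rw [hq, Category.assoc]
  have hq₁₃ : q₁ ≫ f = (q₂₃ ≫ p₂) ≫ f := by rw [hq, Category.assoc, hp]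
  obtain ⟨q₁₂, h₁₂, h₁₂'⟩ := hY q₁ (q₂₃ ≫ p₁) hq₁₂
  obtain ⟨q₁₃, h₁₃, h₁₃'⟩ := hY q₁ (q₂₃ ≫ p₂) hq₁₃
  refine σ.effective_P D p₁ p₂ hp hY q₁ (q₂₃ ≫ p₁) (q₂₃ ≫ p₂) q₂₃ rfl rfl q₁₂ h₁₂ h₁₂' q₁₃ h₁₃ h₁₃'
    hflat (hbc.of_isPushout hOY) hu ?_ P hfree hiso
  have h1 := (σ.isBC_trans p₂ q₂₃ _ rfl (dObj D) hbc₃).of_isPushout hOZ
  have e : (σ.O.map (p₁ ≫ f).op).hom = (σ.O.map p₁.op).hom.comp (σ.O.map f.op).hom := by
    rw [op_comp, Functor.map_comp, CommRingCat.hom_comp]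
  rw [e] at h1
  exact h1

end

end SecData

end Groth.Agent.Desc.SecD
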