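import Groth.Agent.Desc.ModSec2
import Groth.Agent.Desc.SecDataP

/-!
# Flat descent of quasi-coherent modules for a flat morphism of affine schemes
-/

set_option autoImplicit false
set_option backward.isDefEq.respectTransparency false
set_option backward.isDefEq.respectTransparency.types false
open CategoryTheory CategoryTheory.Limits AlgebraicGeometry Opposite Bicategory TensorProduct
universe t u
open _root_.Desc

namespace Groth.Agent.Desc.ModSec

open Pseudofunctor Groth.Agent.Desc.SecD Groth.Agent.Desc.EtAssocPb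

theorem homEquiv_app {X S : Scheme.{u}} (h : X ⟶ S) (G : S.Modules) (E : X.Modules)
    (ψ : (Scheme.Modules.pullback h).obj G ⟶ E) (g : Γ(G, ⊤)) :
    (((Scheme.Modules.pullbackPushforwardAdjunction h).homEquiv G E ψ).app ⊤ g : Γ(E, ⊤)) =
      ψ.app ⊤ (pb h G g) := by
  rw [Adjunction.homEquiv_unit]
  rfl

theorem hom_ext_pb {X S : Scheme.{u}} [IsAffine S] (h : X ⟶ S) (G : S.Modules)
    (hG : Coh.IsQCoh G) (E : X.Modules) (ψ₁ ψ₂ : (Scheme.Modules.pullback h).obj G ⟶ E)
    (H : ∀ g : Γ(G, ⊤), ψ₁.app ⊤ (pb h G g) = ψ₂.app ⊤ (pb h G g)) : ψ₁ = ψ₂ := by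
  apply ((Scheme.Modules.pullbackPushforwardAdjunction h).homEquiv G E).injective
  apply hom_ext_top hG
  intro m
  exact (homEquiv_app h G E ψ₁ m).trans ((H m).trans (homEquiv_app h G E ψ₂ m).symm)

theorem exists_hom_pb {X S : Scheme.{u}} [IsAffine S] (h : X ⟶ S) (G : S.Modules)
    (hG : Coh.IsQCoh G) (E : X.Modules) (s : Γ(G, ⊤) →+ Γ(E, ⊤))
    (hs : ∀ (r : Γ(S, ⊤)) (g : Γ(G, ⊤)), s (r • g) = h.appTop r • s g) :
    ∃ ψ : (Scheme.Modules.pullback h).obj G ⟶ E, ∀ g, ψ.app ⊤ (pb h G g) = s g := by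
  let s' : Γ(G, ⊤) →ₗ[Γ(S, ⊤)] Γ((Scheme.Modules.pushforward h).obj E, ⊤) :=
    { toFun := s
      map_add' := map_add s
      map_smul' := hs }
  obtain ⟨χ, hχ⟩ := exists_hom_top hG s'
  refine ⟨((Scheme.Modules.pullbackPushforwardAdjunction h).homEquiv G E).symm χ, fun g => ?_⟩
  rw [← homEquiv_app, Equiv.apply_symm_apply]
  exact hχ g

theorem sec_free {X S : Scheme.{u}} [IsAffine S] [IsAffine X] (f : X ⟶ S) (G : S.Modules)
    (hG : Coh.IsQCoh G) : sec.Free f G where
  ext h E ψ₁ ψ₂ H := hom_ext_pb h G hG E ψ₁ ψ₂ H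
  ex E s hs := exists_hom_pb f G hG E s hs
  bc := isBC_pb f G hG

theorem isPushout_appTop {X S Y Z : Scheme.{u}} [IsAffine X] [IsAffine S] [IsAffine Y] {f : X ⟶ S}
    {g : Y ⟶ S} {p : Z ⟶ X} {q : Z ⟶ Y} (h : IsPullback p q f g) :
    IsPushout (Scheme.Γ.map f.op) (Scheme.Γ.map g.op) (Scheme.Γ.map p.op) (Scheme.Γ.map q.op) :=
  isPushout_appTop_of_isPullback h

theorem pb_id_injective {X : Scheme.{u}} (M : X.Modules) :
    Function.Injective (pb (𝟙 X) M) := by
  intro x y h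
  have h1 := fun z : Γ(M, ⊤) => congr($(pb_id M) z)
  have h2 := congrArg (gs ((Scheme.Modules.pullbackId X).hom.app M)) h
  exact (h1 x).symm.trans (h2.trans (h1 y))

/-- **Flat descent of quasi-coherent modules**, affine case. -/
theorem affine_effective {X S : Scheme.{u}} [IsAffine X] [IsAffine S] (f : X ⟶ S) [Flat f]
    (D : modPF.{u}.DescentData (fun _ : PUnit.{t + 1} => f)) (hD : Coh.IsQCoh (X := X) (D.obj PUnit.unit)) :
    ∃ M : S.Modules, Coh.IsQCoh M ∧
      Nonempty ((modPF.{u}.toDescentData (fun _ : PUnit.{t + 1} => f)).obj M ≅ D) := by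
  have hflat : f.appTop.hom.Flat := by
    exact (HasRingHomProperty.iff_of_isAffine (P := @Flat) (f := f)).1 ‹Flat f›
  have hYaff : IsAffine (pullback f f) := inferInstance
  have hZaff : IsAffine (pullback f (pullback.fst f f ≫ f)) := inferInstance
  obtain ⟨G, hG, -, hG'⟩ := sec.effective_of_isPushout_P D (pullback.fst f f) (pullback.snd f f)
    pullback.condition
    (fun f₁ f₂ h => ⟨pullback.lift f₁ f₂ h, pullback.lift_fst _ _ _, pullback.lift_snd _ _ _⟩)
    (pullback.fst f (pullback.fst f f ≫ f)) (pullback.snd f (pullback.fst f f ≫ f))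
    pullback.condition (CoactEff.of_flat hflat)
    (isPushout_appTop (IsPullback.of_hasPullback f f))
    (isPushout_appTop (IsPullback.of_hasPullback f (pullback.fst f f ≫ f)))
    (isBC_pb _ _ hD) (pb_id_injective _)
    (isBC_pb _ _ (VarietyB.PullSec.isQCoh_pullback _ _ hD))
    (fun G => Coh.IsQCoh (X := S) G)
    (fun N => ⟨ofMod S N, isQCoh_ofMod S N, sec_free f _ (isQCoh_ofMod S N), nonempty_ΓMod_ofMod S N⟩)
    (fun G hG _ ψ hψ => isIso_of_bijective_top (VarietyB.PullSec.isQCoh_pullback f G hG) hD ψ hψ)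
  exact ⟨G, hG, hG'⟩

end Groth.Agent.Desc.ModSec
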