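import Groth.Agent.Desc.SecDataP
import Groth.Agent.Sga3A.FFDescent

/-!
# Full faithfulness of descent for pseudofunctors with sections
-/

set_option autoImplicit false
set_option backward.isDefEq.respectTransparency false
set_option backward.isDefEq.respectTransparency.types false
open CategoryTheory Opposite Bicategory TensorProduct
universe w t v' v u' u

namespace Groth.Agent.Desc.SecD

open Pseudofunctor

/-- Descent of elements along `φ : R → A`. -/
def ElemEff {R A : Type*} [CommRing R] [CommRing A] (φ : R →+* A) : Prop :=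
  letI : Algebra R A := φ.toAlgebra
  ∀ (N : Type w) [AddCommGroup N] [Module R N],
    Function.Injective (fun n : N => (1 : A) ⊗ₜ[R] n) ∧
    ∀ x : A ⊗[R] N, (1 : A) ⊗ₜ[R] x = (TensorProduct.mk R A N 1).lTensor A x →
      ∃ n : N, (1 : A) ⊗ₜ[R] n = x

theorem ElemEff.of_faithfullyFlat {R : Type*} {A : Type*} [CommRing R] [CommRing A] {φ : R →+* A}
    (h : φ.FaithfullyFlat) : ElemEff.{w} φ := by
  let _ : Algebra R A := φ.toAlgebra
  have : Module.FaithfullyFlat R A := h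
  intro N _ _
  exact ⟨Sga3A.FFDescent.one_tmul_injective N, Sga3A.FFDescent.exists_eq_one_tmul⟩

theorem ElemEff.injective {R A : Type*} [CommRing R] [CommRing A] {φ : R →+* A}
    (h : ElemEff.{w} φ) {M : Type w} {P : Type*} [AddCommGroup M] [AddCommGroup P]
    {iM : Module R M} {iP : Module A P} {u : M →+ P} (hu : IsBC φ iM iP u) :
    Function.Injective u := by
  let _ : Algebra R A := φ.toAlgebra
  obtain ⟨hus, hub⟩ := hu
  intro x y hxy
  apply (h M).1
  apply hub.1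
  change VarietyB.BCAlg.bc _ (1 ⊗ₜ[R] x) = VarietyB.BCAlg.bc _ (1 ⊗ₜ[R] y)
  rw [VarietyB.BCAlg.bc_tmul, VarietyB.BCAlg.bc_tmul]
  exact congrArg (fun z => (1 : A) • z) hxy

theorem elem_descent {R A B : Type*} [CommRing R] [CommRing A] [CommRing B] {φ : R →+* A}
    {ι₁ : A →+* B} {ψ : R →+* A}
    (h : ElemEff.{w} φ) (hψ : ψ = φ) {M : Type w} {P Q : Type*} [AddCommGroup M] [AddCommGroup P]
    [AddCommGroup Q]
    {iM : Module R M} {iP : Module A P} {iQ : Module B Q} {u : M →+ P} (hu : IsBC φ iM iP u)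
    (t₁ t₂ : P →+ Q) (ht₁ : ∀ (a : A) y, t₁ (a • y) = ι₁ a • t₁ y)
    (ht₂ : IsBC φ (Module.compHom P ψ) (Module.compHom Q ι₁) t₂)
    (ht : ∀ m, t₁ (u m) = t₂ (u m)) (x : P) (hx : t₁ x = t₂ x) : ∃ m, u m = x := by
  subst hψ
  let _ : Algebra R A := ψ.toAlgebra
  let _ : Module R P := Module.compHom P ψ
  have _ : IsScalarTower R A P := ⟨fun r a m => by
    change (ψ r * a) • m = ψ r • (a • m)
    rw [mul_smul]⟩
  let _ : Module A Q := Module.compHom Q ι₁
  obtain ⟨hus, hub⟩ := hu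
  obtain ⟨ht₂s, ht₂b⟩ := ht₂
  let κ := VarietyB.BCAlg.bc (⟨⟨u, map_add u⟩, hus⟩ : M →ₛₗ[algebraMap R A] P)
  let κ₂ := VarietyB.BCAlg.bc (⟨⟨t₂, map_add t₂⟩, ht₂s⟩ : P →ₛₗ[algebraMap R A] Q)
  let uR : M →ₗ[R] P := { u with map_smul' := hus }
  obtain ⟨y, hy⟩ := hub.2 x
  have h1 : ∀ y : A ⊗[R] M, κ₂ (uR.lTensor A y) = t₁ (κ y) := by
    intro y
    induction y with
    | zero => rw [map_zero, map_zero, map_zero, map_zero]
    | add y z hy hz => rw [map_add, map_add, map_add, map_add, hy, hz]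
    | tmul a m =>
      rw [LinearMap.lTensor_tmul]
      change VarietyB.BCAlg.bc _ (a ⊗ₜ[R] uR m) = t₁ (VarietyB.BCAlg.bc _ (a ⊗ₜ[R] m))
      rw [VarietyB.BCAlg.bc_tmul, VarietyB.BCAlg.bc_tmul]
      change ι₁ a • t₂ (u m) = t₁ (a • u m)
      rw [ht₁, ht]
  have h2 : κ₂ (uR.lTensor A y) = κ₂ (1 ⊗ₜ[R] x) := by
    rw [h1]
    change t₁ (κ y) = VarietyB.BCAlg.bc _ (1 ⊗ₜ[R] x)
    rw [VarietyB.BCAlg.bc_tmul, one_smul]
    change t₁ (κ y) = t₂ x
    rw [← hx]
    exact congrArg t₁ hy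
  have h3 := ht₂b.1 h2
  have h4 : (1 : A) ⊗ₜ[R] y = (TensorProduct.mk R A M 1).lTensor A y := by
    have hinj : Function.Injective (LinearMap.lTensor A (κ.restrictScalars R)) :=
      (LinearEquiv.lTensor A ((LinearEquiv.ofBijective κ hub).restrictScalars R)).injective
    apply hinj
    rw [LinearMap.lTensor_tmul]
    have h5 : ∀ y : A ⊗[R] M, LinearMap.lTensor A (κ.restrictScalars R)
        ((TensorProduct.mk R A M 1).lTensor A y) = uR.lTensor A y := by
      intro y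
      rw [← LinearMap.comp_apply, ← LinearMap.lTensor_comp]
      congr 1
      ext a m
      change a ⊗ₜ[R] (VarietyB.BCAlg.bc _ (1 ⊗ₜ[R] m)) = _
      rw [VarietyB.BCAlg.bc_tmul, one_smul]
      rfl
    rw [h5, h3]
    exact congrArg (fun z => (1 : A) ⊗ₜ[R] z) hy
  obtain ⟨m, hm⟩ := (h M).2 y h4
  refine ⟨m, ?_⟩
  rw [← hy, ← hm, VarietyB.BCAlg.bc_tmul, one_smul]
  rfl

variable {C : Type u} [Category.{v} C] {F : Pseudofunctor (LocallyDiscrete Cᵒᵖ) Cat.{v', u'}}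
  (σ : SecData.{w} F)

namespace SecData

section

variable {X S Y : C} {f : X ⟶ S}

theorem cHom_trans {U V W : C} (a : V ⟶ U) (b : W ⟶ V) (c : W ⟶ U) (h : b ≫ a = c)
    (M : F.obj (.mk (op U))) (y : (σ.Γ V).obj ((F.map a.op.toLoc).toFunctor.obj M)) :
    ((σ.Γ W).map (cHom a b c h M)).hom (σ.trans a b c h M y) = σ.unit b _ y := by
  rw [trans_apply, ← LinearMap.comp_apply, ← ModuleCat.hom_comp, ← Functor.map_comp,
    cInv_cHom, CategoryTheory.Functor.map_id, ModuleCat.hom_id, LinearMap.id_apply]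

/-- compatibility of a morphism of canonical descent data, on sections -/
theorem trans_eq_trans {G G' : F.obj (.mk (op S))}
    (α : (F.map f.op.toLoc).toFunctor.obj G ⟶ (F.map f.op.toLoc).toFunctor.obj G')
    (p₁ p₂ : Y ⟶ X) (q : Y ⟶ S) (h₁ : p₁ ≫ f = q) (h₂ : p₂ ≫ f = q)
    (hcomm : (F.map p₁.op.toLoc).toFunctor.map α ≫ (cInv f p₁ q h₁ G' ≫ cHom f p₂ q h₂ G') =
      (cInv f p₁ q h₁ G ≫ cHom f p₂ q h₂ G) ≫ (F.map p₂.op.toLoc).toFunctor.map α)
    (g : (σ.Γ S).obj G) :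
    σ.trans f p₁ q h₁ G' (((σ.Γ X).map α).hom (σ.unit f G g)) =
      σ.trans f p₂ q h₂ G' (((σ.Γ X).map α).hom (σ.unit f G g)) := by
  have h3 := congrArg (fun k => ((σ.Γ Y).map k).hom (σ.unit p₁ _ (σ.unit f G g))) hcomm
  simp only [Functor.map_comp, ModuleCat.hom_comp, LinearMap.comp_apply] at h3
  have e1 : ((σ.Γ Y).map (cInv f p₁ q h₁ G)).hom (σ.unit p₁ _ (σ.unit f G g)) = σ.unit q G g :=
    σ.cInv_unit_unit f p₁ q h₁ G g
  rw [e1, σ.cHom_unit, σ.map_unit, σ.map_unit] at h3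
  have h4 := congrArg (fun k => ((σ.Γ Y).map (cInv f p₂ q h₂ G')).hom k) h3
  have e5 : ∀ z : (σ.Γ Y).obj ((F.map q.op.toLoc).toFunctor.obj G'),
      ((σ.Γ Y).map (cInv f p₂ q h₂ G')).hom (((σ.Γ Y).map (cHom f p₂ q h₂ G')).hom z) = z := by
    intro z
    rw [← LinearMap.comp_apply, ← ModuleCat.hom_comp, ← Functor.map_comp, cHom_cInv,
      CategoryTheory.Functor.map_id, ModuleCat.hom_id, LinearMap.id_apply]
  simp only [e5] at h4
  exact h4

/-- morphisms of canonical descent data, unfolded -/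
theorem comm_of_hom {G G' : F.obj (.mk (op S))}
    (α : (F.toDescentData (fun _ : PUnit.{t + 1} => f)).obj G ⟶
      (F.toDescentData (fun _ : PUnit.{t + 1} => f)).obj G')
    (p₁ p₂ : Y ⟶ X) (q : Y ⟶ S) (h₁ : p₁ ≫ f = q) (h₂ : p₂ ≫ f = q)
    (a : (F.map f.op.toLoc).toFunctor.obj G ⟶ (F.map f.op.toLoc).toFunctor.obj G')
    (ha : a = α.hom PUnit.unit) :
    (F.map p₁.op.toLoc).toFunctor.map a ≫ (cInv f p₁ q h₁ G' ≫ cHom f p₂ q h₂ G') =
      (cInv f p₁ q h₁ G ≫ cHom f p₂ q h₂ G) ≫ (F.map p₂.op.toLoc).toFunctor.map a := by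
  subst ha
  exact α.comm q p₁ p₂ h₁ h₂

/-- **Full faithfulness of descent of modules**, abstract form. -/
theorem map_bijective (G G' : F.obj (.mk (op S))) (hG : σ.Free f G)
    (hff : ∀ (s : (σ.Γ S).obj G →+ (σ.Γ S).obj G'),
      (∀ (r : σ.O.obj (op S)) (g : (σ.Γ S).obj G), s (r • g) = r • s g) →
      ∃! φ : G ⟶ G', ∀ g, ((σ.Γ S).map φ).hom g = s g)
    (hel : ElemEff.{w} (σ.O.map f.op).hom)
    (p₁ p₂ : Y ⟶ X) (hp : p₁ ≫ f = p₂ ≫ f)
    (hOY : IsPushout (σ.O.map f.op) (σ.O.map f.op) (σ.O.map p₁.op) (σ.O.map p₂.op))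
    (hbc : IsBC (σ.O.map f.op).hom inferInstance inferInstance (σ.unit f G'))
    (hbc₂ : IsBC (σ.O.map p₂.op).hom inferInstance inferInstance
      (σ.unit p₂ ((F.map f.op.toLoc).toFunctor.obj G'))) :
    Function.Bijective ((F.toDescentData (fun _ : PUnit.{t + 1} => f)).map : (G ⟶ G') → _) := by
  have hinj : Function.Injective (σ.unit f G') := hel.injective hbc
  constructor
  · intro φ₁ φ₂ h
    have h1 : (F.map f.op.toLoc).toFunctor.map φ₁ = (F.map f.op.toLoc).toFunctor.map φ₂ :=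
      congrArg (fun k => k.hom PUnit.unit) h
    have h2 : ∀ g : (σ.Γ S).obj G, ((σ.Γ S).map φ₁).hom g = ((σ.Γ S).map φ₂).hom g := by
      intro g
      apply hinj
      rw [← σ.map_unit, ← σ.map_unit, h1]
    obtain ⟨φ, -, hφ⟩ := hff ((σ.Γ S).map φ₁).hom.toAddMonoidHom
      (fun r g => map_smul ((σ.Γ S).map φ₁).hom r g)
    rw [hφ φ₁ (fun _ => rfl), hφ φ₂ (fun g => (h2 g).symm)]
  · intro α
    obtain ⟨a, ha⟩ : ∃ a : (F.map f.op.toLoc).toFunctor.obj G ⟶
        (F.map f.op.toLoc).toFunctor.obj G', a = α.hom PUnit.unit := ⟨_, rfl⟩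
    have hex : ∀ g : (σ.Γ S).obj G, ∃ m : (σ.Γ S).obj G', σ.unit f G' m =
        ((σ.Γ X).map a).hom (σ.unit f G g) := by
      intro g
      refine elem_descent (Q := (σ.Γ Y).obj ((F.map (p₂ ≫ f).op.toLoc).toFunctor.obj G'))
        (ι₁ := (σ.O.map p₁.op).hom) (iQ := inferInstance) hel rfl hbc
        (σ.trans f p₁ (p₂ ≫ f) hp G') (σ.trans f p₂ (p₂ ≫ f) rfl G') ?_ ?_ ?_ _ ?_
      · intro a y
        exact σ.trans_smul _ _ _ _ _ a y
      · exact (σ.isBC_trans f p₂ _ rfl G' hbc₂).of_isPushout hOY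
      · intro m
        rw [σ.trans_unit, σ.trans_unit]
      · exact σ.trans_eq_trans a p₁ p₂ (p₂ ≫ f) hp rfl (comm_of_hom α p₁ p₂ _ hp rfl a ha) g
    choose s hs using hex
    let s' : (σ.Γ S).obj G →+ (σ.Γ S).obj G' :=
      { toFun := s
        map_zero' := hinj (by rw [hs, map_zero, map_zero, map_zero])
        map_add' := fun a b => hinj (by rw [hs, map_add, map_add, map_add, hs, hs]) }
    obtain ⟨φ, hφ, -⟩ := hff s' (fun r g => hinj (by
      change σ.unit f G' (s (r • g)) = σ.unit f G' (r • s g)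
      rw [hs, σ.unit_smul, map_smul, σ.unit_smul, hs]))
    refine ⟨φ, ?_⟩
    apply DescentData.hom_ext
    intro i
    obtain rfl : i = PUnit.unit := rfl
    change (F.map f.op.toLoc).toFunctor.map φ = _
    rw [← ha]
    apply hG.ext f
    intro g
    rw [σ.map_unit, hφ]
    exact hs g

end

end SecData

end Groth.Agent.Desc.SecD
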