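import Groth.Agent.Desc.ModSec3
import Groth.Agent.Desc.SecFF

/-!
# Full faithfulness of descent for quasi-coherent modules: one faithfully flat map of affine schemes
-/

set_option autoImplicit false
set_option backward.isDefEq.respectTransparency false
set_option backward.isDefEq.respectTransparency.types false
open CategoryTheory CategoryTheory.Limits AlgebraicGeometry Opposite Bicategory TensorProduct
universe t u
open _root_.Desc

namespace Groth.Agent.Desc.ModSec

open Pseudofunctor Groth.Agent.Desc.SecD Groth.Agent.Desc.EtAssocPb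

/-- Faithfully flat descent of morphisms of quasi-coherent modules, affine case. -/
theorem affine_bijective {X S : Scheme.{u}} [IsAffine X] [IsAffine S] (f : X ⟶ S) [Flat f]
    [Surjective f] (M N : S.Modules) (hM : Coh.IsQCoh M) (hN : Coh.IsQCoh N) :
    Function.Bijective
      ((modPF.{u}.toDescentData (fun _ : PUnit.{t + 1} => f)).map : (M ⟶ N) → _) := by
  have hff : f.appTop.hom.FaithfullyFlat := (Flat.flat_and_surjective_iff_faithfullyFlat_of_isAffine f).1
    ⟨inferInstance, inferInstance⟩
  refine sec.map_bijective M N (sec_free f M hM) ?_ (ElemEff.of_faithfullyFlat hff)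
    (pullback.fst f f) (pullback.snd f f) pullback.condition
    (isPushout_appTop (IsPullback.of_hasPullback f f)) (isBC_pb f N hN)
    (isBC_pb _ _ (VarietyB.PullSec.isQCoh_pullback _ _ hN))
  intro s hs
  let s' : Γ(M, ⊤) →ₗ[Γ(S, ⊤)] Γ(N, ⊤) := { s with map_smul' := hs }
  obtain ⟨φ, hφ⟩ := exists_hom_top hM s'
  exact ⟨φ, hφ, fun ψ hψ => hom_ext_top hM _ _ (fun m => (hψ m).trans (hφ m).symm)⟩

end Groth.Agent.Desc.ModSec
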