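import Groth.Agent.Desc.MorDescent
import Mathlib.AlgebraicGeometry.IdealSheaf.Functorial
import Mathlib.AlgebraicGeometry.Morphisms.Proper

/-!
# Properness of closed subschemes depends only on the support
-/

set_option autoImplicit false
open CategoryTheory CategoryTheory.Limits AlgebraicGeometry Opposite MorphismProperty
universe u

namespace Groth.Agent.Desc.ProperSupport

open Groth.Agent.Desc.MorDescent

/-- If `t : A ⟶ B` is surjective and universally closed and `A ⟶ S` is separated, then `B ⟶ S` is separated. -/
theorem isSeparated_of_surjective {A B S : Scheme.{u}} (t : A ⟶ B) (p : B ⟶ S)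
    [Surjective t] [UniversallyClosed t] [IsSeparated (t ≫ p)] : IsSeparated p := by
  have h0 : IsClosedImmersion (pullback.diagonal (t ≫ p)) := inferInstance
  let m : pullback (t ≫ p) (t ≫ p) ⟶ pullback p p :=
    pullback.map (t ≫ p) (t ≫ p) p p t t (𝟙 _) (by simp) (by simp)
  have hm : UniversallyClosed m :=
    MorphismProperty.pullbackMap (P := @UniversallyClosed)
      (inferInstance : UniversallyClosed t) (inferInstance : UniversallyClosed t) rfl rfl
  have h1 : t ≫ pullback.diagonal p = pullback.diagonal (t ≫ p) ≫ m := by
    apply pullback.hom_ext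
    · simp only [Category.assoc, pullback.diagonal_fst, Category.comp_id]
      rw [pullback.lift_fst, pullback.diagonal_fst_assoc]
    · simp only [Category.assoc, pullback.diagonal_snd, Category.comp_id]
      rw [pullback.lift_snd, pullback.diagonal_snd_assoc]
  have h2 : UniversallyClosed (t ≫ pullback.diagonal p) := by
    rw [h1]; infer_instance
  have h3 : UniversallyClosed (pullback.diagonal p) := UniversallyClosed.of_comp_surjective t _
  rw [isSeparated_eq_diagonal_universallyClosed]
  exact h3

/-- If `t : A ⟶ B` is a surjective closed immersion, `p : B ⟶ S` is locally of finite type and `A ⟶ S` is proper,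
then `B ⟶ S` is proper. -/
theorem isProper_of_surjective {A B S : Scheme.{u}} (t : A ⟶ B) (p : B ⟶ S)
    [Surjective t] [UniversallyClosed t] [IsProper (t ≫ p)] [LocallyOfFiniteType p] : IsProper p := by
  have h1 : IsSeparated p := isSeparated_of_surjective t p
  have h2 : UniversallyClosed p := UniversallyClosed.of_comp_surjective t p
  exact {}

theorem surjective_inclusion {X : Scheme.{u}} {I J : X.IdealSheafData} (h : I ≤ J)
    (hs : J.support = I.support) : Surjective (Scheme.IdealSheafData.inclusion h) := by
  constructor
  intro x
  have hx : I.subschemeι x ∈ J.support := by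
    rw [hs]
    have : I.subschemeι x ∈ Set.range I.subschemeι := ⟨x, rfl⟩
    rwa [Scheme.IdealSheafData.range_subschemeι] at this
  have hx2 : I.subschemeι x ∈ Set.range J.subschemeι := by
    rwa [Scheme.IdealSheafData.range_subschemeι]
  obtain ⟨y, hy⟩ := hx2
  refine ⟨y, ?_⟩
  apply I.subschemeι.isEmbedding.injective
  rw [← hy, ← Scheme.Hom.comp_apply, Scheme.IdealSheafData.inclusion_subschemeι]

/-- Properness of a closed subscheme only depends on its support. -/
theorem isProper_iff_of_support_eq {X S : Scheme.{u}} (f : X ⟶ S) [LocallyOfFiniteType f]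
    {I J : X.IdealSheafData} (h : I ≤ J) (hs : J.support = I.support) :
    IsProper (I.subschemeι ≫ f) ↔ IsProper (J.subschemeι ≫ f) := by
  have h1 := surjective_inclusion h hs
  have h2 : Scheme.IdealSheafData.inclusion h ≫ I.subschemeι = J.subschemeι :=
    Scheme.IdealSheafData.inclusion_subschemeι _
  constructor
  · intro h3
    rw [← h2, Category.assoc]
    infer_instance
  · intro h3
    have : IsProper (Scheme.IdealSheafData.inclusion h ≫ I.subschemeι ≫ f) := by
      rw [← Category.assoc, h2]; exact h3
    exact isProper_of_surjective (Scheme.IdealSheafData.inclusion h) _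

end Groth.Agent.Desc.ProperSupport
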