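import Groth.Agent.Desc.QDMor
import Groth.Prelude.Def_Desc

/-!
# Bridge to Mathlib's descent data for `Desc.modPF`
-/

set_option autoImplicit false

universe v u
open CategoryTheory CategoryTheory.Limits AlgebraicGeometry Opposite TopologicalSpace

namespace Groth.Agent.Desc.QD

variable {X Y Z S T : Scheme.{u}}

theorem modPF_mapComp (f : Y ⟶ X) (g : Z ⟶ Y) (M : X.Modules) :
    (_root_.Desc.modPF.{u}.mapComp f.op.toLoc g.op.toLoc).hom.toNatTrans.app M =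
      cmp g f (g ≫ f) rfl M := (cmp_rfl g f M).symm

theorem modPF_mapComp' (f : Y ⟶ X) (g : Z ⟶ Y) (h : Z ⟶ X) (w : g ≫ f = h)
    (w' : f.op.toLoc ≫ g.op.toLoc = h.op.toLoc) (M : X.Modules) :
    (_root_.Desc.modPF.{u}.mapComp' f.op.toLoc g.op.toLoc h.op.toLoc w').hom.toNatTrans.app M =
      cmp g f h w M := by
  subst w
  have h1 : _root_.Desc.modPF.{u}.mapComp' f.op.toLoc g.op.toLoc (g ≫ f).op.toLoc w' =
    _root_.Desc.modPF.{u}.mapComp f.op.toLoc g.op.toLoc := Pseudofunctor.mapComp'_eq_mapComp _ _ _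
  exact (congrArg (fun z => z.hom.toNatTrans.app M) h1).trans (modPF_mapComp f g M)

theorem modPF_mapComp'_inv (f : Y ⟶ X) (g : Z ⟶ Y) (h : Z ⟶ X) (w : g ≫ f = h)
    (w' : f.op.toLoc ≫ g.op.toLoc = h.op.toLoc) (M : X.Modules) :
    (_root_.Desc.modPF.{u}.mapComp' f.op.toLoc g.op.toLoc h.op.toLoc w').inv.toNatTrans.app M =
      cmpInv g f h w M := by
  refine (cancel_epi (cmp g f h w M)).1 ?_
  refine Eq.trans ?_ (cmp_cmpInv g f h w M).symm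
  refine (congrArg (fun z => z ≫ _) (modPF_mapComp' f g h w w' M).symm).trans ?_
  exact Cat.Hom.hom_inv_id_toNatTrans_app
    (_root_.Desc.modPF.{u}.mapComp' f.op.toLoc g.op.toLoc h.op.toLoc w') M

/-- Compatibility in terms of `pullH`. -/
theorem pullH_eq {X₁ X₂ : Scheme.{u}} {M N : S.Modules} {f₁ : X₁ ⟶ S} {f₂ : X₂ ⟶ S}
    (ψ₁ : PB f₁ M ⟶ PB f₁ N) (ψ₂ : PB f₂ M ⟶ PB f₂ N) (g₁ : Z ⟶ X₁) (g₂ : Z ⟶ X₂) (c : Z ⟶ S)
    (w₁ : g₁ ≫ f₁ = c) (w₂ : g₂ ≫ f₂ = c)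
    (h : PBmap g₁ ψ₁ ≫ (cmpInv g₁ f₁ c w₁ N ≫ cmp g₂ f₂ c w₂ N) =
      (cmpInv g₁ f₁ c w₁ M ≫ cmp g₂ f₂ c w₂ M) ≫ PBmap g₂ ψ₂) :
    pullH ψ₁ g₁ c c w₁ w₁ = pullH ψ₂ g₂ c c w₂ w₂ := by
  rw [pullH, pullH, ← cancel_mono (cmp g₂ f₂ c w₂ N)]
  simp only [Category.assoc, cmpInv_cmp, Category.comp_id]
  rw [h, Category.assoc, cmp_cmpInv_assoc]

theorem comm_of_pullH_eq {X₁ X₂ : Scheme.{u}} {M N : S.Modules} {f₁ : X₁ ⟶ S} {f₂ : X₂ ⟶ S}
    (ψ₁ : PB f₁ M ⟶ PB f₁ N) (ψ₂ : PB f₂ M ⟶ PB f₂ N) (g₁ : Z ⟶ X₁) (g₂ : Z ⟶ X₂) (c : Z ⟶ S)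
    (w₁ : g₁ ≫ f₁ = c) (w₂ : g₂ ≫ f₂ = c)
    (h : pullH ψ₁ g₁ c c w₁ w₁ = pullH ψ₂ g₂ c c w₂ w₂) :
    PBmap g₁ ψ₁ ≫ (cmpInv g₁ f₁ c w₁ N ≫ cmp g₂ f₂ c w₂ N) =
      (cmpInv g₁ f₁ c w₁ M ≫ cmp g₂ f₂ c w₂ M) ≫ PBmap g₂ ψ₂ := by
  rw [pullH, pullH] at h
  rw [← cancel_epi (cmp g₁ f₁ c w₁ M), Category.assoc, cmp_cmpInv_assoc, ← Category.assoc,
    ← Category.assoc, Category.assoc (cmp g₁ f₁ c w₁ M), h, Category.assoc, Category.assoc,
    cmpInv_cmp, Category.comp_id]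

open Pseudofunctor in
/-- Morphisms of quasi-coherent modules are the same as morphisms of the associated descent
data, for fpqc families. (Only the target has to be quasi-coherent.) -/
theorem bijective_map {ι : Type v} {F : ι → Scheme.{u}} (f : ∀ i, F i ⟶ S)
    (hf : Presieve.ofArrows F f ∈ Scheme.fpqcPrecoverage S) (M N : S.Modules)
    (hN : Coh.IsQCoh N) :
    Function.Bijective ((_root_.Desc.modPF.{u}.toDescentData f).map : (M ⟶ N) → _) := by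
  constructor
  · intro φ φ' h
    refine hom_ext_fpqc f hf hN (fun i => ?_)
    exact congrArg (fun z => Pseudofunctor.DescentData.Hom.hom z i) h
  · intro ψ
    obtain ⟨φ, hφ⟩ := exists_hom_fpqc f hf hN (fun i => ψ.hom i) (by
      intro i j Z gi gj c wi wj
      apply pullH_eq
      have h1 := ψ.comm c gi gj wi wj
      refine Eq.trans ?_ (h1.trans ?_)
      · refine congrArg (fun z => _ ≫ z) ?_
        exact (congrArg₂ (fun z z' => z ≫ z') (modPF_mapComp'_inv (f i) gi c wi _ N)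
          (modPF_mapComp' (f j) gj c wj _ N)).symm
      · refine congrArg (fun z => z ≫ _) ?_
        exact (congrArg₂ (fun z z' => z ≫ z') (modPF_mapComp'_inv (f i) gi c wi _ M)
          (modPF_mapComp' (f j) gj c wj _ M)))
    exact ⟨φ, Pseudofunctor.DescentData.hom_ext (fun i => hφ i)⟩

end Groth.Agent.Desc.QD
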