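import Groth.Agent.CohqA.PullbackQCoh
import Groth.Agent.Ega3B.QCohLocal
import Groth.Agent.Sga3C.DDEff
import Groth.Agent.S1129

/-!
# Homomorphisms of quasi-coherent modules form an fpqc sheaf

* `isSheaf_presheafHom`: for quasi-coherent `M N` on `S` the presheaf of homomorphisms on `Over S` is
  a sheaf for the fpqc topology.
* `qcClass`: the class of quasi-coherent modules as a `SheafClass` for `Desc.modPF` and the fpqc
  topology.
-/

set_option autoImplicit false

universe t v' v u' u w

open CategoryTheory Limits Opposite Bicategory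

namespace Groth.Agent.Desc.QCClass

section abstract_

open Pseudofunctor Pseudofunctor.LocallyDiscreteOpToCat

variable {C : Type u} [Category.{v} C] (F : LocallyDiscrete Cᵒᵖ ⥤ᵖ Cat.{v', u'})

theorem isSheafFor_map {S₀ S : C} (a : S ⟶ S₀) (M N : F.obj (.mk (op S₀))) {ι : Type t}
    {X : ι → C} (f : ∀ i, X i ⟶ S)
    (h : Function.Bijective ((F.toDescentData f).map :
      ((F.map a.op.toLoc).toFunctor.obj M ⟶ (F.map a.op.toLoc).toFunctor.obj N) → _)) :
    Presieve.IsSheafFor (F.presheafHom M N) (X := (Over.map a).obj (Over.mk (𝟙 S)))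
      (Presieve.ofArrows (fun i => (Over.map a).obj (Over.mk (f i)))
        (fun i => (Over.map a).map (Over.homMk (f i)))) := by
  rw [← Presieve.isSheafFor_over_map_op_comp_ofArrows_iff,
    Presieve.isSheafFor_iff_of_iso (F.overMapCompPresheafHomIso M N a),
    ← bijective_toDescentData_map_iff]
  exact h

theorem isSheafFor_over {S₀ : C} (X : Over S₀) (M N : F.obj (.mk (op S₀))) {ι : Type t}
    {Z : ι → Over S₀} (f : ∀ i, Z i ⟶ X)
    (h : Function.Bijective ((F.toDescentData (fun i => (f i).left)).map :
      ((F.map X.hom.op.toLoc).toFunctor.obj M ⟶ (F.map X.hom.op.toLoc).toFunctor.obj N) → _)) :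
    Presieve.IsSheafFor (F.presheafHom M N) (Presieve.ofArrows Z f) := by
  have h1 := isSheafFor_map F X.hom M N (fun i => (f i).left) h
  let e : (Over.map X.hom).obj (Over.mk (𝟙 X.left)) ≅ X := Over.isoMk (Iso.refl _)
  rw [Presieve.isSheafFor_iff_generate] at h1 ⊢
  rw [← Presieve.isSheafFor_pullback_iff _ _ e.hom]
  convert! h1
  refine le_antisymm ?_ ?_
  · rintro W p ⟨T, a, _, ⟨i⟩, hp⟩
    refine ⟨(Over.map X.hom).obj (Over.mk (f i).left), Over.homMk a.left ?_,
      (Over.map X.hom).map (Over.homMk (f i).left), Presieve.ofArrows.mk i, ?_⟩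
    · simpa using Over.w a
    · ext
      have := congrArg CommaMorphism.left hp
      simpa [e] using this
  · rintro W p ⟨T, a, _, ⟨i⟩, hp⟩
    refine ⟨Z i, Over.homMk a.left ?_, f i, Presieve.ofArrows.mk i, ?_⟩
    · simpa using Over.w a
    · ext
      have := congrArg CommaMorphism.left hp
      simpa [e] using this

end abstract_

open AlgebraicGeometry

/-- For quasi-coherent modules `M`, `N` on `S`, homomorphisms form a sheaf for the fpqc topology. -/
theorem isSheaf_presheafHom {S : Scheme.{u}} (M N : S.Modules) [M.IsQuasicoherent]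
    [N.IsQuasicoherent] : Presheaf.IsSheaf (Scheme.fpqcTopology.over S)
      (Pseudofunctor.presheafHom _root_.Desc.modPF.{u} (S := S) M N) := by
  haveI : Precoverage.Small.{u} Scheme.fpqcPrecoverage.{u} :=
    inferInstanceAs (Precoverage.Small.{u} (Scheme.propQCPrecoverage.{u} @Flat))
  rw [isSheaf_iff_isSheaf_of_type, over_toGrothendieck_eq_toGrothendieck_comap_forget,
    Precoverage.isSheaf_toGrothendieck_iff_of_isStableUnderBaseChange_of_small.{u}]
  intro X E
  have hE := E.mem₀
  rw [Precoverage.mem_comap_iff, PreZeroHypercover.presieve₀, Presieve.map_ofArrows] at hE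
  refine isSheafFor_over _root_.Desc.modPF.{u} X M N E.f ?_
  exact Groth.Agent.S1129.result (fun i => (E.f i).left) hE
    ((Scheme.Modules.pullback X.hom).obj M) ((Scheme.Modules.pullback X.hom).obj N)

/-- The class of quasi-coherent modules. -/
noncomputable def qcClass :
    Groth.Agent.Sga3C.DDEff.SheafClass _root_.Desc.modPF.{u} Scheme.fpqcTopology where
  P X M := (M : X.Modules).IsQuasicoherent
  map {X Y} h M hM := by
    have : (M : X.Modules).IsQuasicoherent := hM
    exact Groth.Agent.CohqA.PullbackQCoh.isQuasicoherent_pullback h (M : X.Modules)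
  iso {X M N} e hM := by
    have : (M : X.Modules).IsQuasicoherent := hM
    exact Groth.Agent.Ega3B.QCohLocal.isQuasicoherent_of_iso (X := X) (M := M) (N := N) e hM
  isSheaf {X} M N hM hN := by
    have : (M : X.Modules).IsQuasicoherent := hM
    have : (N : X.Modules).IsQuasicoherent := hN
    exact isSheaf_presheafHom M N

end Groth.Agent.Desc.QCClass
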