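import Groth.Agent.Desc.QDBig
import Groth.Agent.Desc.ModSec4

/-!
# Descent of sections along one faithfully flat morphism of affine schemes
-/

set_option autoImplicit false
set_option backward.isDefEq.respectTransparency false
set_option backward.isDefEq.respectTransparency.types false
universe u
open CategoryTheory CategoryTheory.Limits AlgebraicGeometry Opposite TopologicalSpace

namespace Groth.Agent.Desc.QD

open Groth.Agent.Desc.SecD

theorem isBC_scT {X Y : Scheme.{u}} [IsAffine X] [IsAffine Y] (f : Y ⟶ X) (M : X.Modules)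
    (hM : Coh.IsQCoh M) :
    IsBC (R := Γ(X, ⊤)) (A := Γ(Y, ⊤)) (M := Γ(M, ⊤)) (P := Γ(PB f M, ⊤)) f.appTop.hom
      inferInstance inferInstance (scT f M) := by
  have h := VarietyB.PullSec.isBaseChange_secₗ f M (U := ⊤) (V := ⊤) le_top hM
    (isAffineOpen_top X) (isAffineOpen_top Y)
  have e : f.appTop = f.appLE ⊤ ⊤ le_top := (Scheme.Hom.appLE_eq_app f).symm
  rw [e]
  exact ModSec.isBC_of_isBaseChange _ _ _ _
    ⟨VarietyB.PullSec.secₗ f M le_top, fun _ => rfl, h⟩

/-- transport is a base change -/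
theorem isBC_trT {X Y T : Scheme.{u}} [IsAffine X] [IsAffine Y] (g : Y ⟶ X) (a : X ⟶ T)
    (c : Y ⟶ T) (w : g ≫ a = c) (N : T.Modules) (hN : Coh.IsQCoh N) :
    IsBC (R := Γ(X, ⊤)) (A := Γ(Y, ⊤)) (M := Γ(PB a N, ⊤)) (P := Γ(PB c N, ⊤)) g.appTop.hom
      inferInstance inferInstance (trT g a c w N) := by
  have h := isBC_scT g (PB a N) (VarietyB.PullSec.isQCoh_pullback a N hN)
  let e : Γ(PB g (PB a N), ⊤) ≃ₗ[Γ(Y, ⊤)] Γ(PB c N, ⊤) :=
    LinearEquiv.ofBijective
      { toFun := ap (cmpInv g a c w N) ⊤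
        map_add' := map_add _
        map_smul' := fun r x => ap_smul _ r x } (ap_bijective _ _)
  exact h.equiv_comp e

theorem appTop_eq {X Y : Scheme.{u}} (f : Y ⟶ X) (e : (⊤ : Y.Opens) ≤ f ⁻¹ᵁ ⊤) :
    f.appLE ⊤ ⊤ e = f.appTop := Scheme.Hom.appLE_eq_app f

theorem trT_smul {X Y T : Scheme.{u}} (g : Y ⟶ X) (a : X ⟶ T)
    (c : Y ⟶ T) (w : g ≫ a = c) (N : T.Modules) (r : Γ(X, ⊤)) (y : Γ(PB a N, ⊤)) :
    trT g a c w N (r • y) = g.appTop r • trT g a c w N y :=
  (tr_smul g a c w N le_top r y).trans (congrArg (fun k => k.hom r • trT g a c w N y)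
    (appTop_eq g le_top))

theorem trT_scT {X Y T : Scheme.{u}} (g : Y ⟶ X) (a : X ⟶ T)
    (c : Y ⟶ T) (w : g ≫ a = c) (N : T.Modules) (m : Γ(N, ⊤)) :
    trT g a c w N (scT a N m) = scT c N m :=
  tr_sc g a c w N le_top le_top le_top m

theorem isDescFor_affine {Y T : Scheme.{u}} (f : Y ⟶ T) [IsAffine Y] [IsAffine T] [Flat f]
    [Surjective f] (N : T.Modules) (hN : Coh.IsQCoh N) :
    IsDescFor (fun _ : PUnit.{1} => f) N := by
  have hff : f.appTop.hom.FaithfullyFlat :=
    (Flat.flat_and_surjective_iff_faithfullyFlat_of_isAffine f).1 ⟨inferInstance, inferInstance⟩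
  have hel : ElemEff.{u} f.appTop.hom := ElemEff.of_faithfullyFlat hff
  have hinj : Function.Injective (scT f N) := hel.injective (isBC_scT f N hN)
  intro s hs
  obtain ⟨t, ht⟩ := elem_descent (M := Γ(N, ⊤)) (P := Γ(PB f N, ⊤))
    (Q := Γ(PB (pullback.fst f f ≫ f) N, ⊤)) (ι₁ := (pullback.fst f f).appTop.hom)
    (iQ := inferInstance) hel rfl (isBC_scT f N hN)
    (trT (pullback.fst f f) f (pullback.fst f f ≫ f) rfl N)
    (trT (pullback.snd f f) f (pullback.fst f f ≫ f) pullback.condition.symm N)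
    (fun a y => trT_smul _ _ _ _ _ a y)
    ((isBC_trT _ _ _ _ N hN).of_isPushout
      (ModSec.isPushout_appTop (IsPullback.of_hasPullback f f)))
    (fun m => (trT_scT _ _ _ _ _ m).trans (trT_scT _ _ _ _ _ m).symm)
    (s PUnit.unit) (hs PUnit.unit PUnit.unit (pullback f f) (pullback.fst f f) (pullback.snd f f) _ rfl
      pullback.condition.symm)
  exact ⟨t, fun i => ht, fun t' ht' => hinj ((ht' PUnit.unit).trans ht.symm)⟩

end Groth.Agent.Desc.QD
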