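import Groth.Agent.Desc.QDSec
import Mathlib.AlgebraicGeometry.Sites.Fpqc

/-!
# The big presheaf of sections of a module

`IsDescFor f N`: sections of the module `N` on `T` are compatible families of sections of the
pullbacks along the family `f i : X i ⟶ T`. The total presheaf `big N : Schemeᵒᵖ ⥤ Type`,
`T ↦ Σ (a : T ⟶ S), Γ(a^* N, ⊤)`, and the translation of its sheaf property.
-/

set_option autoImplicit false

universe v u
open CategoryTheory CategoryTheory.Limits AlgebraicGeometry Opposite TopologicalSpace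

namespace Groth.Agent.Desc.QD

variable {X Y Z W S T Y' Y'' : Scheme.{u}}

/-- pullback of global sections. -/
noncomputable def scT (f : X ⟶ Y) (M : Y.Modules) : Γ(M, ⊤) →+ Γ(PB f M, ⊤) :=
  sc f M (U := ⊤) (V := ⊤) le_top

/-- transport of global sections of `a^* N` along `g`. -/
noncomputable def trT (g : Y' ⟶ Y) (a : Y ⟶ S) (a' : Y' ⟶ S) (w : g ≫ a = a') (N : S.Modules) :
    Γ(PB a N, ⊤) →+ Γ(PB a' N, ⊤) := tr g a a' w N (V := ⊤) (V' := ⊤) le_top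

theorem trT_apply (g : Y' ⟶ Y) (a : Y ⟶ S) (a' : Y' ⟶ S) (w : g ≫ a = a') (N : S.Modules)
    (s : Γ(PB a N, ⊤)) : trT g a a' w N s = ap (cmpInv g a a' w N) ⊤ (scT g (PB a N) s) := rfl

theorem trT_trT (g' : Y'' ⟶ Y') (g : Y' ⟶ Y) (a : Y ⟶ S) (a' : Y' ⟶ S) (a'' : Y'' ⟶ S)
    (h : Y'' ⟶ Y) (w : g ≫ a = a') (w' : g' ≫ a' = a'') (wh : g' ≫ g = h) (w'' : h ≫ a = a'')
    (N : S.Modules) (s : Γ(PB a N, ⊤)) :
    trT g' a' a'' w' N (trT g a a' w N s) = trT h a a'' w'' N s :=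
  tr_tr g' g a a' a'' h w w' wh w'' N _ _ _ s

theorem trT_id (a : Y ⟶ S) (N : S.Modules) (w : 𝟙 Y ≫ a = a) (s : Γ(PB a N, ⊤)) :
    trT (𝟙 Y) a a w N s = s :=
  (tr_id a N (𝟙 Y) rfl w _ le_rfl s).trans (rs_refl _ _ _)

theorem ap_cmpInv_trT (g : Y' ⟶ Y) (b : Y ⟶ X) (b' : Y' ⟶ X) (w : g ≫ b = b') (a : X ⟶ S)
    (c : Y ⟶ S) (wc : b ≫ a = c) (c' : Y' ⟶ S) (wc' : b' ≫ a = c') (w' : g ≫ c = c')
    (N : S.Modules) (s : Γ(PB b (PB a N), ⊤)) :
    ap (cmpInv b' a c' wc' N) ⊤ (trT g b b' w (PB a N) s) =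
      trT g c c' w' N (ap (cmpInv b a c wc N) ⊤ s) := by
  rw [trT_apply, trT_apply]
  have h1 : scT g (PB c N) (ap (cmpInv b a c wc N) ⊤ s) =
      ap (PBmap g (cmpInv b a c wc N)) ⊤ (scT g _ s) := (map_sc g (cmpInv b a c wc N) _ s).symm
  rw [h1, ← ap_comp, ← ap_comp, cmpInv_assoc g b a c c' b' wc w' w wc' N]

theorem cmpInv_ap_injective (f : X ⟶ Y) (g : Y ⟶ Z) (h : X ⟶ Z) (w : f ≫ g = h) (M : Z.Modules)
    (U : X.Opens) : Function.Injective (ap (cmpInv f g h w M) U) := (ap_bijective _ _).1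

theorem ap_cmpInv_cmp (f : X ⟶ Y) (g : Y ⟶ Z) (h : X ⟶ Z) (w : f ≫ g = h) (M : Z.Modules)
    (U : X.Opens) (s : Γ(PB h M, U)) : ap (cmpInv f g h w M) U (ap (cmp f g h w M) U s) = s := by
  rw [← ap_comp, cmp_cmpInv, ap_id]

/-- Sections of `N` descend along the family `f`. -/
def IsDescFor {ι : Type v} {T : Scheme.{u}} {X : ι → Scheme.{u}} (f : ∀ i, X i ⟶ T)
    (N : T.Modules) : Prop :=
  ∀ s : ∀ i, Γ(PB (f i) N, ⊤),
    (∀ (i j : ι) (Z : Scheme.{u}) (gi : Z ⟶ X i) (gj : Z ⟶ X j) (c : Z ⟶ T) (wi : gi ≫ f i = c)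
      (wj : gj ≫ f j = c), trT gi (f i) c wi N (s i) = trT gj (f j) c wj N (s j)) →
    ∃! t : Γ(N, ⊤), ∀ i, scT (f i) N t = s i

/-- the sections of the pullbacks of `N`, over all schemes. -/
structure BigSec (N : S.Modules) (T : Scheme.{u}) : Type u where
  /-- the structure morphism -/
  a : T ⟶ S
  /-- the section -/
  s : Γ(PB a N, ⊤)

theorem BigSec.mk_eq {N : S.Modules} {T : Scheme.{u}} {a b : T ⟶ S} {s : Γ(PB a N, ⊤)}
    {t : Γ(PB b N, ⊤)} (h : a = b) (w : 𝟙 T ≫ a = b) (hs : trT (𝟙 T) a b w N s = t) :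
    BigSec.mk a s = BigSec.mk b t := by
  subst h
  rw [trT_id] at hs
  rw [hs]

theorem BigSec.of_mk_eq {N : S.Modules} {T : Scheme.{u}} {a b : T ⟶ S} {s : Γ(PB a N, ⊤)}
    {t : Γ(PB b N, ⊤)} (h : BigSec.mk a s = BigSec.mk b t) {Z : Scheme.{u}} (g : Z ⟶ T) (c : Z ⟶ S)
    (wx : g ≫ a = c) (wy : g ≫ b = c) : trT g a c wx N s = trT g b c wy N t := by
  have key : ∀ x y : BigSec N T, x = y → ∀ (wx : g ≫ x.a = c) (wy : g ≫ y.a = c),
      trT g x.a c wx N x.s = trT g y.a c wy N y.s := by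
    rintro x y rfl wx wy
    rfl
  exact key _ _ h wx wy

/-- the pullback of a section. -/
noncomputable def BigSec.map {N : S.Modules} {T T' : Scheme.{u}} (g : T' ⟶ T) (x : BigSec N T) :
    BigSec N T' := ⟨g ≫ x.a, trT g x.a _ rfl N x.s⟩

theorem BigSec.map_id {N : S.Modules} {T : Scheme.{u}} (x : BigSec N T) : x.map (𝟙 T) = x := by
  obtain ⟨a, s⟩ := x
  refine BigSec.mk_eq (Category.id_comp _) (by simp) ?_
  exact (trT_trT (𝟙 T) (𝟙 T) a (𝟙 T ≫ a) a (𝟙 T) _ _ (Category.id_comp _) (Category.id_comp _) N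
    s).trans (trT_id a N _ s)

theorem BigSec.map_comp {N : S.Modules} {T T' T'' : Scheme.{u}} (g' : T'' ⟶ T') (g : T' ⟶ T)
    (x : BigSec N T) : x.map (g' ≫ g) = (x.map g).map g' := by
  obtain ⟨a, s⟩ := x
  refine BigSec.mk_eq (Category.assoc _ _ _)
    ((Category.id_comp _).trans (Category.assoc _ _ _)) ?_
  exact (trT_trT (𝟙 T'') (g' ≫ g) a ((g' ≫ g) ≫ a) (g' ≫ g ≫ a) (g' ≫ g) rfl (by simp)
    (Category.id_comp _) (Category.assoc _ _ _) N s).trans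
    (trT_trT g' g a (g ≫ a) (g' ≫ g ≫ a) (g' ≫ g) rfl rfl rfl (Category.assoc _ _ _) N s).symm

/-- the total presheaf of sections of the pullbacks of `N`. -/
noncomputable def big (N : S.Modules) : Scheme.{u}ᵒᵖ ⥤ Type u where
  obj T := BigSec N T.unop
  map g := ↾(fun x => x.map g.unop)
  map_id T := by
    ext x
    exact x.map_id
  map_comp g g' := by
    ext x
    exact x.map_comp g'.unop g.unop

variable {ι : Type v} {F : ι → Scheme.{u}} (f : ∀ i, F i ⟶ T)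

/-- The sheaf property of `big N` from descent for sections. -/
theorem isSheafFor_big (N : S.Modules)
    (hy : Presieve.IsSheafFor (yoneda.obj S) (Presieve.ofArrows F f))
    (H : ∀ a : T ⟶ S, IsDescFor f (PB a N)) :
    Presieve.IsSheafFor (big N) (Presieve.ofArrows F f) := by
  rw [Presieve.isSheafFor_arrows_iff] at hy ⊢
  intro x hx
  obtain ⟨α, σ, rfl⟩ : ∃ (α : ∀ i, F i ⟶ S) (σ : ∀ i, Γ(PB (α i) N, ⊤)),
      x = fun i => (BigSec.mk (α i) (σ i) : BigSec N (F i)) :=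
    ⟨fun i => BigSec.a (x i), fun i => BigSec.s (x i), rfl⟩
  have hx' : ∀ (i j : ι) (Z : Scheme.{u}) (gi : Z ⟶ F i) (gj : Z ⟶ F j), gi ≫ f i = gj ≫ f j →
      BigSec.mk (gi ≫ α i) (trT gi (α i) _ rfl N (σ i)) =
        BigSec.mk (gj ≫ α j) (trT gj (α j) _ rfl N (σ j)) := fun i j Z gi gj h => hx i j Z gi gj h
  obtain ⟨a, ha, hau⟩ := hy α (fun i j Z gi gj h => congrArg BigSec.a (hx' i j Z gi gj h))
  have ha' : ∀ i, f i ≫ a = α i := ha
  have hau' : ∀ b : T ⟶ S, (∀ i, f i ≫ b = α i) → b = a := hau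
  obtain ⟨t, ht, htu⟩ := H a (fun i => ap (cmp (f i) a (α i) (ha' i) N) ⊤ (σ i)) (by
    intro i j Z gi gj c wi wj
    apply cmpInv_ap_injective c a (c ≫ a) rfl N ⊤
    have e1 : gi ≫ α i = c ≫ a := by rw [← ha' i, ← wi, Category.assoc]
    have e2 : gj ≫ α j = c ≫ a := by rw [← ha' j, ← wj, Category.assoc]
    rw [ap_cmpInv_trT gi (f i) c wi a (α i) (ha' i) (c ≫ a) rfl e1 N,
      ap_cmpInv_trT gj (f j) c wj a (α j) (ha' j) (c ≫ a) rfl e2 N,
      ap_cmpInv_cmp, ap_cmpInv_cmp]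
    have h2 := BigSec.of_mk_eq (hx' i j Z gi gj (wi.trans wj.symm)) (𝟙 Z) (c ≫ a) (by simp [e1])
      (by simp [e2])
    rw [trT_trT (𝟙 Z) gi (α i) (gi ≫ α i) (c ≫ a) gi rfl _ (Category.id_comp _) e1 N,
      trT_trT (𝟙 Z) gj (α j) (gj ≫ α j) (c ≫ a) gj rfl _ (Category.id_comp _) e2 N] at h2
    exact h2)
  refine ⟨BigSec.mk a t, ?_, ?_⟩
  · intro i
    refine BigSec.mk_eq (ha' i) (by simp [ha' i]) ?_
    refine (trT_trT (𝟙 (F i)) (f i) a (f i ≫ a) (α i) (f i) rfl _ (Category.id_comp _) (ha' i) N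
      t).trans ?_
    rw [trT_apply, ht i, ap_cmpInv_cmp]
  · rintro ⟨b, y⟩ hy'
    have hy'' : ∀ i, BigSec.mk (f i ≫ b) (trT (f i) b _ rfl N y) = BigSec.mk (α i) (σ i) := hy'
    have hba : b = a := hau' b (fun i => congrArg BigSec.a (hy'' i))
    subst hba
    refine BigSec.mk_eq rfl (by simp) ?_
    rw [trT_id]
    apply htu
    intro i
    apply cmpInv_ap_injective (f i) b (α i) (ha' i) N ⊤
    rw [ap_cmpInv_cmp, ← trT_apply]
    have h2 := BigSec.of_mk_eq (hy'' i) (𝟙 _) (α i) (by simp [ha' i]) (by simp)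
    rw [trT_trT (𝟙 (F i)) (f i) b (f i ≫ b) (α i) (f i) rfl _ (Category.id_comp _) (ha' i) N,
      trT_id] at h2
    exact h2

/-- Descent for sections from the sheaf property of `big N`. -/
theorem isDescFor_of_big (N : S.Modules)
    (hy : Presieve.IsSheafFor (yoneda.obj S) (Presieve.ofArrows F f))
    (H : Presieve.IsSheafFor (big N) (Presieve.ofArrows F f)) (a : T ⟶ S) :
    IsDescFor f (PB a N) := by
  rw [Presieve.isSheafFor_arrows_iff] at hy H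
  intro s hs
  obtain ⟨⟨b, y⟩, hy1, hyu⟩ := H
    (fun i => BigSec.mk (f i ≫ a) (ap (cmpInv (f i) a (f i ≫ a) rfl N) ⊤ (s i))) (by
    intro i j Z gi gj h
    have e : gi ≫ f i ≫ a = gj ≫ f j ≫ a := by rw [← Category.assoc, h, Category.assoc]
    refine BigSec.mk_eq e (by simp [e]) ?_
    refine (trT_trT (𝟙 Z) gi (f i ≫ a) (gi ≫ f i ≫ a) (gj ≫ f j ≫ a) gi rfl _
      (Category.id_comp _) e N _).trans ?_
    rw [← ap_cmpInv_trT gi (f i) (gj ≫ f j) h a (f i ≫ a) rfl (gj ≫ f j ≫ a) (Category.assoc _ _ _)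
      e N (s i), hs i j Z gi gj (gj ≫ f j) h rfl]
    exact ap_cmpInv_trT gj (f j) (gj ≫ f j) rfl a (f j ≫ a) rfl (gj ≫ f j ≫ a)
      (Category.assoc _ _ _) rfl N (s j))
  have hy1' : ∀ i, BigSec.mk (f i ≫ b) (trT (f i) b _ rfl N y) =
    BigSec.mk (f i ≫ a) (ap (cmpInv (f i) a (f i ≫ a) rfl N) ⊤ (s i)) := hy1
  have hyu' : ∀ z : BigSec N T, (∀ i, z.map (f i) =
    BigSec.mk (f i ≫ a) (ap (cmpInv (f i) a (f i ≫ a) rfl N) ⊤ (s i))) → z = ⟨b, y⟩ := hyu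
  obtain ⟨c, -, hcu⟩ := hy (fun i => f i ≫ a) (by
    intro i j Z gi gj h
    change gi ≫ f i ≫ a = gj ≫ f j ≫ a
    rw [← Category.assoc, h, Category.assoc])
  have hcu' : ∀ b : T ⟶ S, (∀ i, f i ≫ b = f i ≫ a) → b = c := hcu
  have hba : b = a := by
    rw [hcu' b (fun i => congrArg BigSec.a (hy1' i)), hcu' a (fun i => rfl)]
  subst hba
  refine ⟨y, ?_, ?_⟩
  · intro i
    apply cmpInv_ap_injective (f i) b (f i ≫ b) rfl N ⊤
    rw [← trT_apply]
    have h2 := BigSec.of_mk_eq (hy1' i) (𝟙 _) (f i ≫ b) (by simp) (by simp)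
    rw [trT_id, trT_id] at h2
    exact h2
  · intro t ht
    have h1 : BigSec.mk b t = BigSec.mk b y := by
      apply hyu'
      intro i
      refine BigSec.mk_eq rfl (by simp) ?_
      rw [trT_id, trT_apply, ht i]
    have h2 := BigSec.of_mk_eq h1 (𝟙 _) b (by simp) (by simp)
    rwa [trT_id, trT_id] at h2

end Groth.Agent.Desc.QD
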