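import Groth.Agent.Desc.QDZar
import Groth.Agent.Desc.QDAffine

/-!
# fpqc descent for sections of quasi-coherent modules
-/

set_option autoImplicit false

universe v u
open CategoryTheory CategoryTheory.Limits AlgebraicGeometry Opposite TopologicalSpace

namespace Groth.Agent.Desc.QD

variable {V X Y Z S T Y' : Scheme.{u}}

theorem cmpInv_naturality (g : Y' ⟶ Y) (a : Y ⟶ S) (a' : Y' ⟶ S) (w : g ≫ a = a')
    {N N' : S.Modules} (φ : N ⟶ N') :
    PBmap g (PBmap a φ) ≫ cmpInv g a a' w N' = cmpInv g a a' w N ≫ PBmap a' φ := by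
  subst w
  apply hom_ext₂
  intro U m
  rw [ap_comp, ap_comp, map_sc, map_sc]
  have h1 := cmpInv_sc g a (g ≫ a) rfl N' (U := U) (V := a ⁻¹ᵁ U) (T := g ⁻¹ᵁ (a ⁻¹ᵁ U)) le_rfl
    le_rfl le_rfl (ap φ U m)
  have h2 := cmpInv_sc g a (g ≫ a) rfl N (U := U) (V := a ⁻¹ᵁ U) (T := g ⁻¹ᵁ (a ⁻¹ᵁ U)) le_rfl
    le_rfl le_rfl m
  rw [h1, h2]
  exact (map_sc (g ≫ a) φ _ m).symm

theorem ap_PBmap_trT (g : Y' ⟶ Y) (a : Y ⟶ S) (a' : Y' ⟶ S) (w : g ≫ a = a')
    {N N' : S.Modules} (φ : N ⟶ N') (s : Γ(PB a N, ⊤)) :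
    ap (PBmap a' φ) ⊤ (trT g a a' w N s) = trT g a a' w N' (ap (PBmap a φ) ⊤ s) := by
  rw [trT_apply, trT_apply]
  have h1 : scT g (PB a N') (ap (PBmap a φ) ⊤ s) = ap (PBmap g (PBmap a φ)) ⊤ (scT g _ s) :=
    (map_sc g (PBmap a φ) _ s).symm
  rw [h1, ← ap_comp, ← ap_comp, cmpInv_naturality]

theorem IsDescFor.of_iso {ι : Type v} {F : ι → Scheme.{u}} {f : ∀ i, F i ⟶ T} {N N' : T.Modules}
    (e : N ≅ N') (h : IsDescFor f N) : IsDescFor f N' := by
  intro s hs
  have e1 : ∀ (i : ι) (x : Γ(PB (f i) N', ⊤)),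
      ap (PBmap (f i) e.hom) ⊤ (ap (PBmap (f i) e.inv) ⊤ x) = x := by
    intro i x
    rw [← ap_comp, ← Functor.map_comp, e.inv_hom_id, CategoryTheory.Functor.map_id, ap_id]
  have e2 : ∀ (i : ι) (x : Γ(PB (f i) N, ⊤)),
      ap (PBmap (f i) e.inv) ⊤ (ap (PBmap (f i) e.hom) ⊤ x) = x := by
    intro i x
    rw [← ap_comp, ← Functor.map_comp, e.hom_inv_id, CategoryTheory.Functor.map_id, ap_id]
  have e3 : ∀ (i : ι) (x : Γ(N, ⊤)), scT (f i) N' (ap e.hom ⊤ x) =
      ap (PBmap (f i) e.hom) ⊤ (scT (f i) N x) := fun i x => (map_sc (f i) e.hom _ x).symm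
  have e4 : ∀ (i : ι) (x : Γ(N', ⊤)), scT (f i) N (ap e.inv ⊤ x) =
      ap (PBmap (f i) e.inv) ⊤ (scT (f i) N' x) := fun i x => (map_sc (f i) e.inv _ x).symm
  obtain ⟨t, ht, htu⟩ := h (fun i => ap (PBmap (f i) e.inv) ⊤ (s i)) (by
    intro i j Z gi gj c wi wj
    rw [← ap_PBmap_trT, ← ap_PBmap_trT, hs i j Z gi gj c wi wj])
  refine ⟨ap e.hom ⊤ t, fun i => ?_, fun t' ht' => ?_⟩
  · rw [e3, ht i, e1]
  · rw [← htu (ap e.inv ⊤ t') (fun i => by rw [e4, ht' i]), ← ap_comp, e.inv_hom_id, ap_id]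

theorem isSheafFor_of_mem {C : Type*} [Category* C] {K : Precoverage C} {P : Cᵒᵖ ⥤ Type*}
    (hP : Presieve.IsSheaf K.toGrothendieck P) {X : C} {R : Presieve X} (hR : R ∈ K X) :
    Presieve.IsSheafFor P R :=
  (Presieve.isSheafFor_iff_generate R).2 (hP _ (Precoverage.generate_mem_toGrothendieck hR))

/-- The total presheaf of sections of a quasi-coherent module is an fpqc sheaf. -/
theorem isSheaf_big (N : S.Modules) (hN : Coh.IsQCoh N) :
    Presieve.IsSheaf Scheme.fpqcTopology (big N) := by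
  rw [Scheme.fpqcTopology_eq_propQCTopology, isSheaf_type_propQCTopology_iff]
  refine ⟨?_, ?_⟩
  · rw [Precoverage.isSheaf_toGrothendieck_iff_of_isStableUnderBaseChange]
    rintro T R hR
    obtain ⟨(𝓤 : T.OpenCover), rfl⟩ := Scheme.exists_cover_of_mem_pretopology hR
    refine isSheafFor_big _ N ?_ (fun a => isDescFor_zariski _ (fun i => inferInstance)
      (fun x => ?_) _)
    · exact isSheafFor_of_mem
        (Scheme.subcanonical_zariskiTopology.isSheaf_of_isRepresentable _) hR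
    · exact ⟨𝓤.idx x, 𝓤.covers x⟩
  · intro R R' f hf hs
    have : Flat (Spec.map f) := hf
    have hmem : Presieve.singleton (Spec.map f) ∈ Scheme.fpqcPrecoverage (Spec R) :=
      Scheme.Hom.singleton_mem_fpqcPrecoverage _
    rw [← Presieve.ofArrows_pUnit.{0}] at hmem ⊢
    refine isSheafFor_big _ N ?_ (fun a => ?_)
    · exact isSheafFor_of_mem (GrothendieckTopology.Subcanonical.isSheaf_of_isRepresentable
          (J := Scheme.fpqcTopology) _) hmem
    · exact isDescFor_affine (Spec.map f) _ (VarietyB.PullSec.isQCoh_pullback a N hN)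

/-- **fpqc descent for sections of quasi-coherent modules.** -/
theorem isDescFor_fpqc {ι : Type v} {F : ι → Scheme.{u}} (f : ∀ i, F i ⟶ T)
    (hf : Presieve.ofArrows F f ∈ Scheme.fpqcPrecoverage T) (N : T.Modules) (hN : Coh.IsQCoh N) :
    IsDescFor f N := by
  have h1 := isDescFor_of_big f N
      (isSheafFor_of_mem (GrothendieckTopology.Subcanonical.isSheaf_of_isRepresentable
          (J := Scheme.fpqcTopology) _) hf) (isSheafFor_of_mem (isSheaf_big N hN) hf) (𝟙 T)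
  exact h1.of_iso ((Scheme.Modules.pullbackId T).app N)

end Groth.Agent.Desc.QD
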