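import Groth.Agent.Desc.QDOpen

/-!
# fpqc descent for morphisms into quasi-coherent modules
-/

set_option autoImplicit false

universe v u
open CategoryTheory CategoryTheory.Limits AlgebraicGeometry Opposite TopologicalSpace

namespace Groth.Agent.Desc.QD

variable {V X Y Z S T Y' : Scheme.{u}}

theorem sec_ext {ι : Type v} {F : ι → Scheme.{u}} (f : ∀ i, F i ⟶ T)
    (hf : Presieve.ofArrows F f ∈ Scheme.fpqcPrecoverage T) (N : T.Modules) (hN : Coh.IsQCoh N)
    {U : T.Opens} {x y : Γ(N, U)}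
    (h : ∀ i, sc (f i) N (le_refl (f i ⁻¹ᵁ U)) x = sc (f i) N (le_refl (f i ⁻¹ᵁ U)) y) : x = y := by
  obtain ⟨t, -, ht⟩ := existsUnique_sec f hf N hN U
    (fun i => sc (f i) N (le_refl (f i ⁻¹ᵁ U)) y) (by
      intro i j Z gi gj c wi wj ei ej
      rw [tr_sc gi (f i) c wi N ei le_rfl le_rfl, tr_sc gj (f j) c wj N ej le_rfl le_rfl])
  exact (ht x h).trans (ht y fun _ => rfl).symm

/-- Morphisms of modules descend along fpqc coverings (the target being quasi-coherent). -/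
theorem hom_ext_fpqc {ι : Type v} {F : ι → Scheme.{u}} (f : ∀ i, F i ⟶ T)
    (hf : Presieve.ofArrows F f ∈ Scheme.fpqcPrecoverage T) {M N : T.Modules} (hN : Coh.IsQCoh N)
    {φ φ' : M ⟶ N} (h : ∀ i, PBmap (f i) φ = PBmap (f i) φ') : φ = φ' := by
  apply ap_ext
  intro U m
  refine sec_ext f hf N hN fun i => ?_
  rw [← map_sc, ← map_sc, h i]

theorem exists_hom_fpqc {ι : Type v} {F : ι → Scheme.{u}} (f : ∀ i, F i ⟶ T)
    (hf : Presieve.ofArrows F f ∈ Scheme.fpqcPrecoverage T) {M N : T.Modules} (hN : Coh.IsQCoh N)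
    (ψ : ∀ i, PB (f i) M ⟶ PB (f i) N)
    (hψ : ∀ (i j : ι) (Z : Scheme.{u}) (gi : Z ⟶ F i) (gj : Z ⟶ F j) (c : Z ⟶ T)
      (wi : gi ≫ f i = c) (wj : gj ≫ f j = c),
      pullH (ψ i) gi c c wi wi = pullH (ψ j) gj c c wj wj) :
    ∃ φ : M ⟶ N, ∀ i, PBmap (f i) φ = ψ i := by
  have key : ∀ (U : T.Opens) (m : Γ(M, U)), ∃ n : Γ(N, U), ∀ i,
      sc (f i) N (le_refl (f i ⁻¹ᵁ U)) n = ap (ψ i) (f i ⁻¹ᵁ U) (sc (f i) M le_rfl m) := by
    intro U m
    obtain ⟨t, ht, -⟩ := existsUnique_sec f hf N hN U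
      (fun i => ap (ψ i) (f i ⁻¹ᵁ U) (sc (f i) M le_rfl m)) (by
      intro i j Z gi gj c wi wj ei ej
      rw [← ap_pullH_tr (ψ i) gi c c wi wi ei, ← ap_pullH_tr (ψ j) gj c c wj wj ej,
        tr_sc gi (f i) c wi M ei le_rfl le_rfl, tr_sc gj (f j) c wj M ej le_rfl le_rfl,
        hψ i j Z gi gj c wi wj])
    exact ⟨t, ht⟩
  choose n hn using key
  have hadd : ∀ U (m m' : Γ(M, U)), n U (m + m') = n U m + n U m' := by
    intro U m m'
    refine sec_ext f hf N hN fun i => ?_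
    rw [hn, map_add, map_add, map_add, hn, hn]
  have hsmul : ∀ (U : T.Opens) (a : Γ(T, U)) (m : Γ(M, U)), n U (a • m) = a • n U m := by
    intro U a m
    refine sec_ext f hf N hN fun i => ?_
    rw [hn, sc_smul, sc_smul, hn, ap_smul]
  have hres : ∀ (U V : T.Opens) (h : V ≤ U) (m : Γ(M, U)), n V (rs M h m) = rs N h (n U m) := by
    intro U V h m
    refine sec_ext f hf N hN fun i => ?_
    have h1 := rs_sc (f i) N (le_refl (f i ⁻¹ᵁ U)) ((f i).preimage_mono h) (n U m)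
    have h2 := rs_sc (f i) M (le_refl (f i ⁻¹ᵁ U)) ((f i).preimage_mono h) m
    rw [hn, sc_rs, sc_rs, ← h1, ← h2, hn, ap_rs]
  let φ : M ⟶ N := Fdesc.LocGen.mkHom
    (fun U => { toFun := n U, map_zero' := by
                  have := hadd U 0 0
                  rw [add_zero] at this
                  exact left_eq_add.1 this
                map_add' := hadd U }) hsmul hres
  refine ⟨φ, fun i => ?_⟩
  apply hom_ext (f i)
  intro U m
  rw [map_sc]
  exact hn U m i

end Groth.Agent.Desc.QD
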