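import Groth.Agent.Desc.QDMain

/-!
# fpqc descent for sections over open subsets, and for morphisms
-/

set_option autoImplicit false

universe v u
open CategoryTheory CategoryTheory.Limits AlgebraicGeometry Opposite TopologicalSpace

namespace Groth.Agent.Desc.QD

variable {V X Y Z S T Y' : Scheme.{u}}

theorem tr_bijective (j : V ⟶ T) [IsOpenImmersion j] (a : T ⟶ S) (c : V ⟶ S) (w : j ≫ a = c)
    (N : S.Modules) {U : T.Opens} {W : V.Opens} (hU : U ≤ j.opensRange) (e : W ≤ j ⁻¹ᵁ U)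
    (e' : j ⁻¹ᵁ U ≤ W) : Function.Bijective (tr j a c w N e) :=
  (ap_bijective (cmpInv j a c w N) W).comp (sc_bijective j (PB a N) hU e e')

theorem restrict_mem_fpqc {ι : Type v} {F : ι → Scheme.{u}} (f : ∀ i, F i ⟶ T)
    (hf : Presieve.ofArrows F f ∈ Scheme.fpqcPrecoverage T) (U : T.Opens) :
    Presieve.ofArrows (fun i => (f i ⁻¹ᵁ U : Scheme.{u})) (fun i => (f i) ∣_ U) ∈
      Scheme.fpqcPrecoverage (U : Scheme.{u}) :=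
  Precoverage.mem_coverings_of_isPullback _ hf U.ι _ (fun i => (f i ⁻¹ᵁ U).ι)
    (fun i => isPullback_morphismRestrict (f i) U)

theorem preimage_comp_le {X Y Z : Scheme.{u}} (f : X ⟶ Y) (g : Y ⟶ Z) (h : X ⟶ Z) (w : f ≫ g = h)
    {U : Z.Opens} {V : Y.Opens} {W : X.Opens} (e : W ≤ f ⁻¹ᵁ V) (e' : V ≤ g ⁻¹ᵁ U) :
    W ≤ h ⁻¹ᵁ U := by
  subst w
  exact e.trans (f.preimage_mono e')

theorem preimage_le_of_comp {X Y Z : Scheme.{u}} (f : X ⟶ Y) (g : Y ⟶ Z) (h : X ⟶ Z)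
    (w : f ≫ g = h) (U : Z.Opens) : h ⁻¹ᵁ U ≤ f ⁻¹ᵁ (g ⁻¹ᵁ U) := by
  subst w
  exact le_rfl

/-- Descent of sections over an open, from descent of sections for the restricted family. -/
theorem existsUnique_sec_aux {ι : Type v} {F F' : ι → Scheme.{u}} {T' : Scheme.{u}}
    (f : ∀ i, F i ⟶ T) (j : T' ⟶ T) (g : ∀ i, F' i ⟶ T') (k : ∀ i, F' i ⟶ F i)
    [IsOpenImmersion j] [∀ i, IsOpenImmersion (k i)] (c : ∀ i, F' i ⟶ T)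
    (wg : ∀ i, g i ≫ j = c i) (wk : ∀ i, k i ≫ f i = c i)
    (N : T.Modules) (h1 : IsDescFor g (PB j N))
    (U : T.Opens) (hUr : U ≤ j.opensRange) (eU : (⊤ : T'.Opens) ≤ j ⁻¹ᵁ U)
    (hkr : ∀ i, f i ⁻¹ᵁ U ≤ (k i).opensRange)
    (ek : ∀ i, (⊤ : (F' i).Opens) ≤ k i ⁻¹ᵁ (f i ⁻¹ᵁ U))
    (s : ∀ i, Γ(PB (f i) N, f i ⁻¹ᵁ U))
    (hs : ∀ (i j : ι) (Z : Scheme.{u}) (gi : Z ⟶ F i) (gj : Z ⟶ F j) (c : Z ⟶ T)
      (wi : gi ≫ f i = c) (wj : gj ≫ f j = c)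
      (ei : c ⁻¹ᵁ U ≤ gi ⁻¹ᵁ (f i ⁻¹ᵁ U)) (ej : c ⁻¹ᵁ U ≤ gj ⁻¹ᵁ (f j ⁻¹ᵁ U)),
      tr gi (f i) c wi N ei (s i) = tr gj (f j) c wj N ej (s j)) :
    ∃! t : Γ(N, U), ∀ i, sc (f i) N le_rfl t = s i := by
  -- the sections on the restrictions
  let σ : ∀ i, Γ(PB (c i) N, ⊤) := fun i => tr (k i) (f i) (c i) (wk i) N (ek i) (s i)
  obtain ⟨t', ht', htu'⟩ := h1 (fun i => ap (cmp (g i) j (c i) (wg i) N) ⊤ (σ i)) (by
    intro i i' Z gi gj d wi wj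
    apply cmpInv_ap_injective d j (d ≫ j) rfl N ⊤
    have e1 : gi ≫ c i = d ≫ j := by rw [← wg i, ← wi, Category.assoc]
    have e2 : gj ≫ c i' = d ≫ j := by rw [← wg i', ← wj, Category.assoc]
    rw [ap_cmpInv_trT gi (g i) d wi j (c i) (wg i) (d ≫ j) rfl e1 N,
      ap_cmpInv_trT gj (g i') d wj j (c i') (wg i') (d ≫ j) rfl e2 N,
      ap_cmpInv_cmp, ap_cmpInv_cmp]
    have ed : (⊤ : Z.Opens) ≤ (d ≫ j) ⁻¹ᵁ U := preimage_comp_le d j _ rfl le_top eU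
    have key : ∀ (l : ι) (h : Z ⟶ F' l) (w : h ≫ c l = d ≫ j) (w' : (h ≫ k l) ≫ f l = d ≫ j)
        (e : (d ≫ j) ⁻¹ᵁ U ≤ (h ≫ k l) ⁻¹ᵁ (f l ⁻¹ᵁ U)),
        trT h (c l) (d ≫ j) w N (σ l) =
          rs _ ed (tr (h ≫ k l) (f l) (d ≫ j) w' N e (s l)) := by
      intro l h w w' e
      rw [rs_tr]
      exact tr_tr h (k l) (f l) (c l) (d ≫ j) (h ≫ k l) (wk l) w rfl w' N _ _ _ _
    have w1 : (gi ≫ k i) ≫ f i = d ≫ j := by rw [Category.assoc, wk i, e1]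
    have w2 : (gj ≫ k i') ≫ f i' = d ≫ j := by rw [Category.assoc, wk i', e2]
    have q1 : (d ≫ j) ⁻¹ᵁ U ≤ (gi ≫ k i) ⁻¹ᵁ (f i ⁻¹ᵁ U) :=
      preimage_le_of_comp _ _ _ w1 U
    have q2 : (d ≫ j) ⁻¹ᵁ U ≤ (gj ≫ k i') ⁻¹ᵁ (f i' ⁻¹ᵁ U) :=
      preimage_le_of_comp _ _ _ w2 U
    rw [key i gi e1 w1 q1, key i' gj e2 w2 q2, hs i i' Z _ _ _ w1 w2 q1 q2])
  have hσ : ∀ i (x : Γ(N, U)), tr (k i) (f i) (c i) (wk i) N (ek i) (sc (f i) N le_rfl x) =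
      ap (cmpInv (g i) j (c i) (wg i) N) ⊤ (scT (g i) (PB j N) (sc j N eU x)) := by
    intro i x
    have e3 : (⊤ : (F' i).Opens) ≤ (c i) ⁻¹ᵁ U := preimage_comp_le (k i) (f i) _ (wk i) (ek i) le_rfl
    exact (tr_sc (k i) (f i) (c i) (wk i) N (ek i) le_rfl e3 x).trans
      (cmpInv_sc (g i) j (c i) (wg i) N eU le_top e3 x).symm
  obtain ⟨t, ht⟩ := (sc_bijective j N hUr eU le_top).2 t'
  refine ⟨t, fun i => ?_, fun t₁ ht₁ => ?_⟩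
  · apply (tr_bijective (k i) (f i) (c i) (wk i) N (hkr i) (ek i) le_top).1
    rw [hσ i t, ht, ht' i, ap_cmpInv_cmp]
  · apply (sc_bijective j N hUr eU le_top).1
    rw [ht]
    apply htu'
    intro i
    apply (ap_bijective (cmpInv (g i) j (c i) (wg i) N) ⊤).1
    rw [← hσ i t₁, ht₁ i, ap_cmpInv_cmp]

/-- Descent of sections over an open. -/
theorem existsUnique_sec {ι : Type v} {F : ι → Scheme.{u}} (f : ∀ i, F i ⟶ T)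
    (hf : Presieve.ofArrows F f ∈ Scheme.fpqcPrecoverage T) (N : T.Modules) (hN : Coh.IsQCoh N)
    (U : T.Opens) (s : ∀ i, Γ(PB (f i) N, f i ⁻¹ᵁ U))
    (hs : ∀ (i j : ι) (Z : Scheme.{u}) (gi : Z ⟶ F i) (gj : Z ⟶ F j) (c : Z ⟶ T)
      (wi : gi ≫ f i = c) (wj : gj ≫ f j = c)
      (ei : c ⁻¹ᵁ U ≤ gi ⁻¹ᵁ (f i ⁻¹ᵁ U)) (ej : c ⁻¹ᵁ U ≤ gj ⁻¹ᵁ (f j ⁻¹ᵁ U)),
      tr gi (f i) c wi N ei (s i) = tr gj (f j) c wj N ej (s j)) :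
    ∃! t : Γ(N, U), ∀ i, sc (f i) N le_rfl t = s i :=
  existsUnique_sec_aux f U.ι (fun i => (f i) ∣_ U) (fun i => (f i ⁻¹ᵁ U).ι)
    (fun i => (f i ⁻¹ᵁ U).ι ≫ f i) (fun i => morphismRestrict_ι (f i) U) (fun i => rfl) N
    (isDescFor_fpqc (fun i => (f i) ∣_ U) (restrict_mem_fpqc f hf U) (PB U.ι N)
      (VarietyB.PullSec.isQCoh_pullback U.ι N hN)) U
    (fun x hx => ⟨⟨x, hx⟩, rfl⟩) (fun x _ => x.2) (fun i x hx => ⟨⟨x, hx⟩, rfl⟩)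
    (fun i x _ => x.2) s hs

end Groth.Agent.Desc.QD
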