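import Groth.Agent.VarietyB.PullSec
import Groth.Agent.Fdesc.LocGenPullback

/-!
# Sections of pulled back modules

* `PB f M` : the pullback `f^* M`;
* `ap φ U : Γ(M, U) →+ Γ(N, U)`, `rs M h : Γ(M, U) →+ Γ(M, V)`;
* `sc f M e : Γ(M, U) →+ Γ(f^* M, V)` for `V ≤ f⁻¹ U`, its compatibilities;
* `cmp f g h w M : h^* M ⟶ f^* g^* M` for `w : f ≫ g = h`, and its inverse, on sections;
* `hom_ext` : morphisms out of a pullback are determined on pulled back sections;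
* `tr g : Γ(a^* N, V) → Γ((g ≫ a)^* N, V')`.
-/

set_option autoImplicit false

universe u
open CategoryTheory CategoryTheory.Limits AlgebraicGeometry Opposite TopologicalSpace

namespace Groth.Agent.Desc.QD

variable {X Y Z W S Y' Y'' : Scheme.{u}}

/-- the pullback functor on objects. -/
noncomputable abbrev PB (f : X ⟶ Y) (M : Y.Modules) : X.Modules :=
  (Scheme.Modules.pullback f).obj M

/-- the pullback functor on morphisms. -/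
noncomputable abbrev PBmap (f : X ⟶ Y) {M N : Y.Modules} (φ : M ⟶ N) : PB f M ⟶ PB f N :=
  (Scheme.Modules.pullback f).map φ

/-- the action of a morphism of modules on sections. -/
noncomputable def ap {M N : X.Modules} (φ : M ⟶ N) (U : X.Opens) : Γ(M, U) →+ Γ(N, U) :=
  (φ.app U).hom

theorem ap_comp {M N K : X.Modules} (φ : M ⟶ N) (ψ : N ⟶ K) (U : X.Opens) (m : Γ(M, U)) :
    ap (φ ≫ ψ) U m = ap ψ U (ap φ U m) := rfl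

@[simp] theorem ap_id (M : X.Modules) (U : X.Opens) (m : Γ(M, U)) : ap (𝟙 M) U m = m := rfl

theorem ap_smul {M N : X.Modules} (φ : M ⟶ N) {U : X.Opens} (a : Γ(X, U)) (m : Γ(M, U)) :
    ap φ U (a • m) = a • ap φ U m := Scheme.Modules.Hom.app_smul φ a m

theorem ap_ext {M N : X.Modules} {φ ψ : M ⟶ N} (h : ∀ U m, ap φ U m = ap ψ U m) : φ = ψ := by
  apply Scheme.Modules.hom_ext
  intro U
  ext m
  exact h U m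

theorem ap_inv {M N : X.Modules} (φ : M ⟶ N) [IsIso φ] (U : X.Opens) (m : Γ(M, U)) :
    ap (inv φ) U (ap φ U m) = m := by
  rw [← ap_comp, IsIso.hom_inv_id, ap_id]

theorem ap_inv' {M N : X.Modules} (φ : M ⟶ N) [IsIso φ] (U : X.Opens) (m : Γ(N, U)) :
    ap φ U (ap (inv φ) U m) = m := by
  rw [← ap_comp, IsIso.inv_hom_id, ap_id]

theorem ap_bijective {M N : X.Modules} (φ : M ⟶ N) [IsIso φ] (U : X.Opens) :
    Function.Bijective (ap φ U) :=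
  ⟨fun a b h => by rw [← ap_inv φ U a, h, ap_inv φ U b], fun b => ⟨_, ap_inv' φ U b⟩⟩

/-- restriction of sections of a module. -/
noncomputable def rs (M : X.Modules) {U V : X.Opens} (h : V ≤ U) : Γ(M, U) →+ Γ(M, V) :=
  Fdesc.LocGen.res M h

@[simp] theorem rs_refl (M : X.Modules) {U : X.Opens} (h : U ≤ U) (m : Γ(M, U)) : rs M h m = m :=
  Fdesc.LocGen.res_refl M m

@[simp] theorem rs_rs (M : X.Modules) {U V W : X.Opens} (h : V ≤ U) (h' : W ≤ V) (m : Γ(M, U)) :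
    rs M h' (rs M h m) = rs M (h'.trans h) m := Fdesc.LocGen.res_res M h h' m

theorem rs_smul (M : X.Modules) {U V : X.Opens} (h : V ≤ U) (a : Γ(X, U)) (m : Γ(M, U)) :
    rs M h (a • m) = Fdesc.LocGen.ores h a • rs M h m := Fdesc.LocGen.res_smul M h a m

theorem ap_rs {M N : X.Modules} (φ : M ⟶ N) {U V : X.Opens} (h : V ≤ U) (m : Γ(M, U)) :
    ap φ V (rs M h m) = rs N h (ap φ U m) := Fdesc.LocGen.app_res φ h m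

/-- `Γ(M, U) → Γ(f^* M, V)` for `V ≤ f⁻¹ U`. -/
noncomputable def sc (f : X ⟶ Y) (M : Y.Modules) {U : Y.Opens} {V : X.Opens} (e : V ≤ f ⁻¹ᵁ U) :
    Γ(M, U) →+ Γ(PB f M, V) := VarietyB.PullSec.sec f M e

theorem rs_sc (f : X ⟶ Y) (M : Y.Modules) {U : Y.Opens} {V V' : X.Opens} (e : V ≤ f ⁻¹ᵁ U)
    (h : V' ≤ V) (m : Γ(M, U)) : rs (PB f M) h (sc f M e m) = sc f M (h.trans e) m :=
  (VarietyB.PullSec.sec_res f M e (h.trans e) le_rfl h m).trans (by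
    congr 1
    exact Fdesc.LocGen.res_refl M m)

theorem sc_rs (f : X ⟶ Y) (M : Y.Modules) {U U' : Y.Opens} {V : X.Opens} (e : V ≤ f ⁻¹ᵁ U')
    (h : U' ≤ U) (m : Γ(M, U)) :
    sc f M e (rs M h m) = sc f M (e.trans (f.preimage_mono h)) m :=
  ((VarietyB.PullSec.sec_res f M (e.trans (f.preimage_mono h)) e h le_rfl m).symm.trans
    (Fdesc.LocGen.res_refl _ _))

theorem sc_smul (f : X ⟶ Y) (M : Y.Modules) {U : Y.Opens} {V : X.Opens} (e : V ≤ f ⁻¹ᵁ U)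
    (a : Γ(Y, U)) (m : Γ(M, U)) : sc f M e (a • m) = f.appLE U V e a • sc f M e m :=
  VarietyB.PullSec.sec_smul f M e a m

theorem sc_eq (f : X ⟶ Y) (M : Y.Modules) {U : Y.Opens} {V : X.Opens} (e : V ≤ f ⁻¹ᵁ U)
    (m : Γ(M, U)) : sc f M e m = rs (PB f M) e (Fdesc.LocGen.pullSec f m) := rfl

theorem map_sc (f : X ⟶ Y) {M N : Y.Modules} (φ : M ⟶ N) {U : Y.Opens} {V : X.Opens}
    (e : V ≤ f ⁻¹ᵁ U) (m : Γ(M, U)) :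
    ap (PBmap f φ) V (sc f M e m) = sc f N e (ap φ U m) := by
  rw [sc_eq, sc_eq, ap_rs]
  congr 1
  exact Fdesc.LocGen.pullback_map_pullSec f φ m

/-- the morphism `M ⟶ f_* N` corresponding to `f^* M ⟶ N`. -/
noncomputable def adj (f : X ⟶ Y) {M : Y.Modules} {N : X.Modules} :
    (PB f M ⟶ N) ≃ (M ⟶ (Scheme.Modules.pushforward f).obj N) :=
  (Scheme.Modules.pullbackPushforwardAdjunction f).homEquiv M N

theorem ap_adj (f : X ⟶ Y) {M : Y.Modules} {N : X.Modules} (φ : PB f M ⟶ N) (U : Y.Opens)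
    (m : Γ(M, U)) : (ap (adj f φ) U m : Γ(N, f ⁻¹ᵁ U)) = ap φ (f ⁻¹ᵁ U) (sc f M le_rfl m) := by
  rw [sc_eq, rs_refl]
  exact Fdesc.LocGen.homEquiv_app f φ m

theorem ap_adj_symm (f : X ⟶ Y) {M : Y.Modules} {N : X.Modules}
    (φ : M ⟶ (Scheme.Modules.pushforward f).obj N) {U : Y.Opens} {V : X.Opens} (e : V ≤ f ⁻¹ᵁ U)
    (m : Γ(M, U)) : ap ((adj f).symm φ) V (sc f M e m) = rs N e (ap φ U m : Γ(N, f ⁻¹ᵁ U)) := by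
  have h1 := ap_adj f ((adj f).symm φ) U m
  rw [Equiv.apply_symm_apply] at h1
  rw [h1, ← ap_rs, rs_sc]

/-- Morphisms out of a pullback are determined by their values on pulled back sections. -/
theorem hom_ext (f : X ⟶ Y) {M : Y.Modules} {N : X.Modules} {φ ψ : PB f M ⟶ N}
    (h : ∀ (U : Y.Opens) (m : Γ(M, U)), ap φ (f ⁻¹ᵁ U) (sc f M le_rfl m) =
      ap ψ (f ⁻¹ᵁ U) (sc f M le_rfl m)) : φ = ψ := by
  apply (adj f).injective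
  apply ap_ext
  intro U m
  exact (ap_adj f φ U m).trans ((h U m).trans (ap_adj f ψ U m).symm)

/-- the comparison isomorphism `(f ≫ g)^* M ≅ f^* g^* M`. -/
noncomputable def cmpIso (f : X ⟶ Y) (g : Y ⟶ Z) (h : X ⟶ Z) (w : f ≫ g = h) (M : Z.Modules) :
    PB h M ≅ PB f (PB g M) :=
  (Scheme.Modules.pullbackCongr w.symm).app M ≪≫ ((Scheme.Modules.pullbackComp f g).symm).app M

/-- the comparison `(f ≫ g)^* M ⟶ f^* g^* M`. -/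
noncomputable def cmp (f : X ⟶ Y) (g : Y ⟶ Z) (h : X ⟶ Z) (w : f ≫ g = h) (M : Z.Modules) :
    PB h M ⟶ PB f (PB g M) := (cmpIso f g h w M).hom

/-- the comparison `f^* g^* M ⟶ (f ≫ g)^* M`. -/
noncomputable def cmpInv (f : X ⟶ Y) (g : Y ⟶ Z) (h : X ⟶ Z) (w : f ≫ g = h) (M : Z.Modules) :
    PB f (PB g M) ⟶ PB h M := (cmpIso f g h w M).inv

@[reassoc (attr := simp)]
theorem cmp_cmpInv (f : X ⟶ Y) (g : Y ⟶ Z) (h : X ⟶ Z) (w : f ≫ g = h) (M : Z.Modules) :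
    cmp f g h w M ≫ cmpInv f g h w M = 𝟙 _ := (cmpIso f g h w M).hom_inv_id

@[reassoc (attr := simp)]
theorem cmpInv_cmp (f : X ⟶ Y) (g : Y ⟶ Z) (h : X ⟶ Z) (w : f ≫ g = h) (M : Z.Modules) :
    cmpInv f g h w M ≫ cmp f g h w M = 𝟙 _ := (cmpIso f g h w M).inv_hom_id

instance (f : X ⟶ Y) (g : Y ⟶ Z) (h : X ⟶ Z) (w : f ≫ g = h) (M : Z.Modules) :
    IsIso (cmp f g h w M) := ⟨_, cmp_cmpInv .., cmpInv_cmp ..⟩

instance (f : X ⟶ Y) (g : Y ⟶ Z) (h : X ⟶ Z) (w : f ≫ g = h) (M : Z.Modules) :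
    IsIso (cmpInv f g h w M) := ⟨_, cmpInv_cmp .., cmp_cmpInv ..⟩

theorem cmp_rfl (f : X ⟶ Y) (g : Y ⟶ Z) (M : Z.Modules) :
    cmp f g (f ≫ g) rfl M = (Scheme.Modules.pullbackComp f g).inv.app M := by
  have h : (Scheme.Modules.pullbackCongr (rfl : f ≫ g = f ≫ g)).hom.app M = 𝟙 _ := rfl
  change (Scheme.Modules.pullbackCongr (rfl : f ≫ g = f ≫ g)).hom.app M ≫ _ = _
  rw [h, Category.id_comp]
  rfl

theorem cmp_sc (f : X ⟶ Y) (g : Y ⟶ Z) (h : X ⟶ Z) (w : f ≫ g = h) (M : Z.Modules)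
    {U : Z.Opens} {V : Y.Opens} {T : X.Opens} (e₁ : V ≤ g ⁻¹ᵁ U) (e₂ : T ≤ f ⁻¹ᵁ V)
    (e : T ≤ h ⁻¹ᵁ U) (m : Γ(M, U)) :
    ap (cmp f g h w M) T (sc h M e m) = sc f (PB g M) e₂ (sc g M e₁ m) := by
  subst w
  have h1 : ap (cmp f g (f ≫ g) rfl M) _ (Fdesc.LocGen.pullSec (f ≫ g) m) =
      Fdesc.LocGen.pullSec f (Fdesc.LocGen.pullSec g m) := by
    rw [cmp_rfl]
    exact Fdesc.LocGen.pullSec_comp f g m
  have h2 := ap_rs (cmp f g (f ≫ g) rfl M) e (Fdesc.LocGen.pullSec (f ≫ g) m)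
  rw [sc_eq (f ≫ g)]
  refine h2.trans ((congrArg (rs _ e) h1).trans ?_)
  rw [sc_eq g, sc_rs]
  rfl

theorem cmpInv_sc (f : X ⟶ Y) (g : Y ⟶ Z) (h : X ⟶ Z) (w : f ≫ g = h) (M : Z.Modules)
    {U : Z.Opens} {V : Y.Opens} {T : X.Opens} (e₁ : V ≤ g ⁻¹ᵁ U) (e₂ : T ≤ f ⁻¹ᵁ V)
    (e : T ≤ h ⁻¹ᵁ U) (m : Γ(M, U)) :
    ap (cmpInv f g h w M) T (sc f (PB g M) e₂ (sc g M e₁ m)) = sc h M e m := by
  rw [← cmp_sc f g h w M e₁ e₂ e, ← ap_comp, cmp_cmpInv, ap_id]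

/-- Morphisms out of a double pullback are determined by their values on pulled back sections. -/
theorem hom_ext₂ (f : X ⟶ Y) (g : Y ⟶ Z) {M : Z.Modules} {N : X.Modules}
    {φ ψ : PB f (PB g M) ⟶ N}
    (h : ∀ (U : Z.Opens) (m : Γ(M, U)), ap φ (f ⁻¹ᵁ (g ⁻¹ᵁ U)) (sc f (PB g M) le_rfl (sc g M le_rfl m)) =
      ap ψ (f ⁻¹ᵁ (g ⁻¹ᵁ U)) (sc f (PB g M) le_rfl (sc g M le_rfl m))) : φ = ψ := by
  rw [← cancel_epi (cmp f g (f ≫ g) rfl M)]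
  apply hom_ext (f ≫ g)
  intro U m
  rw [ap_comp, ap_comp]
  exact (congrArg _ (cmp_sc f g (f ≫ g) rfl M le_rfl le_rfl le_rfl m)).trans ((h U m).trans
    (congrArg _ (cmp_sc f g (f ≫ g) rfl M le_rfl le_rfl le_rfl m)).symm)

/-- Morphisms out of a triple pullback are determined by their values on pulled back sections. -/
theorem hom_ext₃ (f : X ⟶ Y) (g : Y ⟶ Z) (h : Z ⟶ W) {M : W.Modules} {N : X.Modules}
    {φ ψ : PB f (PB g (PB h M)) ⟶ N}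
    (H : ∀ (U : W.Opens) (m : Γ(M, U)),
      ap φ (f ⁻¹ᵁ (g ⁻¹ᵁ (h ⁻¹ᵁ U))) (sc f _ le_rfl (sc g _ le_rfl (sc h M le_rfl m))) =
      ap ψ (f ⁻¹ᵁ (g ⁻¹ᵁ (h ⁻¹ᵁ U))) (sc f _ le_rfl (sc g _ le_rfl (sc h M le_rfl m)))) :
    φ = ψ := by
  rw [← cancel_epi (cmp f g (f ≫ g) rfl (PB h M))]
  apply hom_ext₂ (f ≫ g) h
  intro U m
  rw [ap_comp, ap_comp]
  exact (congrArg _ (cmp_sc f g (f ≫ g) rfl (PB h M) le_rfl le_rfl le_rfl (sc h M le_rfl m))).trans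
    ((H U m).trans
    (congrArg _ (cmp_sc f g (f ≫ g) rfl (PB h M) le_rfl le_rfl le_rfl (sc h M le_rfl m))).symm)

theorem cmpInv_assoc (g' : Y'' ⟶ Y') (g : Y' ⟶ Y) (a : Y ⟶ S) (a' : Y' ⟶ S) (a'' : Y'' ⟶ S)
    (h : Y'' ⟶ Y) (w : g ≫ a = a') (w' : g' ≫ a' = a'') (wh : g' ≫ g = h) (w'' : h ≫ a = a'')
    (N : S.Modules) :
    PBmap g' (cmpInv g a a' w N) ≫ cmpInv g' a' a'' w' N =
      cmpInv g' g h wh (PB a N) ≫ cmpInv h a a'' w'' N := by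
  subst w
  subst wh
  subst w'
  apply hom_ext₃
  intro U m
  rw [ap_comp, map_sc, cmpInv_sc g a (g ≫ a) rfl N (V := a ⁻¹ᵁ U) (T := g ⁻¹ᵁ (a ⁻¹ᵁ U)) _ _ le_rfl]
  have h1 := cmpInv_sc g' (g ≫ a) (g' ≫ g ≫ a) rfl N (U := U) (V := g ⁻¹ᵁ (a ⁻¹ᵁ U))
    (T := g' ⁻¹ᵁ (g ⁻¹ᵁ (a ⁻¹ᵁ U))) le_rfl le_rfl le_rfl m
  have h2 := cmpInv_sc g' g (g' ≫ g) rfl (PB a N) (U := a ⁻¹ᵁ U) (V := g ⁻¹ᵁ (a ⁻¹ᵁ U))
    (T := g' ⁻¹ᵁ (g ⁻¹ᵁ (a ⁻¹ᵁ U))) le_rfl le_rfl le_rfl (sc a N le_rfl m)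
  have h3 := cmpInv_sc (g' ≫ g) a (g' ≫ g ≫ a) w'' N (U := U) (V := a ⁻¹ᵁ U)
    (T := g' ⁻¹ᵁ (g ⁻¹ᵁ (a ⁻¹ᵁ U))) le_rfl le_rfl le_rfl m
  rw [h1, ap_comp, h2, h3]

/-- transport of sections of `a^* N` along `g`. -/
noncomputable def tr (g : Y' ⟶ Y) (a : Y ⟶ S) (a' : Y' ⟶ S) (w : g ≫ a = a') (N : S.Modules)
    {V : Y.Opens} {V' : Y'.Opens} (e : V' ≤ g ⁻¹ᵁ V) : Γ(PB a N, V) →+ Γ(PB a' N, V') :=
  (ap (cmpInv g a a' w N) V').comp (sc g (PB a N) e)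

theorem tr_apply (g : Y' ⟶ Y) (a : Y ⟶ S) (a' : Y' ⟶ S) (w : g ≫ a = a') (N : S.Modules)
    {V : Y.Opens} {V' : Y'.Opens} (e : V' ≤ g ⁻¹ᵁ V) (s : Γ(PB a N, V)) :
    tr g a a' w N e s = ap (cmpInv g a a' w N) V' (sc g (PB a N) e s) := rfl

theorem ap_cmp_tr (g : Y' ⟶ Y) (a : Y ⟶ S) (a' : Y' ⟶ S) (w : g ≫ a = a') (N : S.Modules)
    {V : Y.Opens} {V' : Y'.Opens} (e : V' ≤ g ⁻¹ᵁ V) (s : Γ(PB a N, V)) :
    ap (cmp g a a' w N) V' (tr g a a' w N e s) = sc g (PB a N) e s := by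
  rw [tr_apply, ← ap_comp, cmpInv_cmp, ap_id]

theorem tr_smul (g : Y' ⟶ Y) (a : Y ⟶ S) (a' : Y' ⟶ S) (w : g ≫ a = a') (N : S.Modules)
    {V : Y.Opens} {V' : Y'.Opens} (e : V' ≤ g ⁻¹ᵁ V) (r : Γ(Y, V)) (s : Γ(PB a N, V)) :
    tr g a a' w N e (r • s) = g.appLE V V' e r • tr g a a' w N e s := by
  rw [tr_apply, sc_smul, ap_smul, tr_apply]

theorem tr_sc (g : Y' ⟶ Y) (a : Y ⟶ S) (a' : Y' ⟶ S) (w : g ≫ a = a') (N : S.Modules)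
    {U : S.Opens} {V : Y.Opens} {V' : Y'.Opens} (e : V' ≤ g ⁻¹ᵁ V) (e₁ : V ≤ a ⁻¹ᵁ U)
    (e₂ : V' ≤ a' ⁻¹ᵁ U) (m : Γ(N, U)) :
    tr g a a' w N e (sc a N e₁ m) = sc a' N e₂ m := cmpInv_sc g a a' w N e₁ e e₂ m

theorem rs_tr (g : Y' ⟶ Y) (a : Y ⟶ S) (a' : Y' ⟶ S) (w : g ≫ a = a') (N : S.Modules)
    {V : Y.Opens} {V' V'' : Y'.Opens} (e : V' ≤ g ⁻¹ᵁ V) (h : V'' ≤ V') (s : Γ(PB a N, V)) :
    rs (PB a' N) h (tr g a a' w N e s) = tr g a a' w N (h.trans e) s := by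
  rw [tr_apply, tr_apply, ← ap_rs, rs_sc]

theorem tr_rs (g : Y' ⟶ Y) (a : Y ⟶ S) (a' : Y' ⟶ S) (w : g ≫ a = a') (N : S.Modules)
    {V V₁ : Y.Opens} {V' : Y'.Opens} (e : V' ≤ g ⁻¹ᵁ V₁) (h : V₁ ≤ V) (s : Γ(PB a N, V)) :
    tr g a a' w N e (rs (PB a N) h s) = tr g a a' w N (e.trans (g.preimage_mono h)) s := by
  rw [tr_apply, tr_apply, sc_rs]

theorem tr_tr (g' : Y'' ⟶ Y') (g : Y' ⟶ Y) (a : Y ⟶ S) (a' : Y' ⟶ S) (a'' : Y'' ⟶ S)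
    (h : Y'' ⟶ Y) (w : g ≫ a = a') (w' : g' ≫ a' = a'') (wh : g' ≫ g = h) (w'' : h ≫ a = a'')
    (N : S.Modules) {V : Y.Opens} {V' : Y'.Opens} {V'' : Y''.Opens} (e : V' ≤ g ⁻¹ᵁ V)
    (e' : V'' ≤ g' ⁻¹ᵁ V') (e'' : V'' ≤ h ⁻¹ᵁ V) (s : Γ(PB a N, V)) :
    tr g' a' a'' w' N e' (tr g a a' w N e s) = tr h a a'' w'' N e'' s := by
  rw [tr_apply, tr_apply, tr_apply, ← map_sc, ← ap_comp, cmpInv_assoc g' g a a' a'' h w w' wh w'' N,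
    ap_comp, cmpInv_sc g' g h wh (PB a N) e e' e'']

theorem tr_id (a : Y ⟶ S) (N : S.Modules) (g : Y ⟶ Y) (hg : g = 𝟙 Y) (w : g ≫ a = a)
    {V V' : Y.Opens} (e : V' ≤ g ⁻¹ᵁ V) (h : V' ≤ V)
    (s : Γ(PB a N, V)) : tr g a a w N e s = rs (PB a N) h s := by
  subst hg
  have key : adj (𝟙 Y) (cmpInv (𝟙 Y) a a w N) =
      (Scheme.Modules.pushforwardId Y).inv.app (PB a N) := by
    apply hom_ext a
    intro U m
    rw [ap_adj]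
    exact cmpInv_sc (𝟙 Y) a a w N (U := U) (V := a ⁻¹ᵁ U) (T := (𝟙 Y) ⁻¹ᵁ (a ⁻¹ᵁ U))
      le_rfl le_rfl (le_of_eq (Scheme.Hom.id_preimage _)) m
  have h2 : ap (adj (𝟙 Y) (cmpInv (𝟙 Y) a a w N)) V s = s := by
    rw [key]; rfl
  rw [ap_adj] at h2
  have h3 : tr (𝟙 Y) a a w N (V' := V') e s = rs (PB a N) h
      (tr (𝟙 Y) a a w N (V' := V) (le_of_eq (Scheme.Hom.id_preimage _).symm) s) := by
    rw [rs_tr]
  rw [h3]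
  congr 1

/-- the pullback of a morphism `f₁^* M₁ ⟶ f₂^* M₂`, up to the comparison isomorphisms. -/
noncomputable def pullH {X₁ X₂ : Scheme.{u}} {M₁ : X₁.Modules} {M₂ : X₂.Modules} {f₁ : Y ⟶ X₁}
    {f₂ : Y ⟶ X₂} (φ : PB f₁ M₁ ⟶ PB f₂ M₂) (g : Y' ⟶ Y) (gf₁ : Y' ⟶ X₁) (gf₂ : Y' ⟶ X₂)
    (h₁ : g ≫ f₁ = gf₁) (h₂ : g ≫ f₂ = gf₂) : PB gf₁ M₁ ⟶ PB gf₂ M₂ :=
  cmp g f₁ gf₁ h₁ M₁ ≫ PBmap g φ ≫ cmpInv g f₂ gf₂ h₂ M₂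

theorem ap_pullH_tr {X₁ X₂ : Scheme.{u}} {M₁ : X₁.Modules} {M₂ : X₂.Modules} {f₁ : Y ⟶ X₁}
    {f₂ : Y ⟶ X₂} (φ : PB f₁ M₁ ⟶ PB f₂ M₂) (g : Y' ⟶ Y) (gf₁ : Y' ⟶ X₁) (gf₂ : Y' ⟶ X₂)
    (h₁ : g ≫ f₁ = gf₁) (h₂ : g ≫ f₂ = gf₂) {V : Y.Opens} {V' : Y'.Opens} (e : V' ≤ g ⁻¹ᵁ V)
    (s : Γ(PB f₁ M₁, V)) :
    ap (pullH φ g gf₁ gf₂ h₁ h₂) V' (tr g f₁ gf₁ h₁ M₁ e s) = tr g f₂ gf₂ h₂ M₂ e (ap φ V s) := by
  rw [pullH, ap_comp, ap_comp, ap_cmp_tr, tr_apply, map_sc]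

end Groth.Agent.Desc.QD
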