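import Groth.Agent.Desc.QDBig

/-!
# Zariski descent for sections of modules
-/

set_option autoImplicit false

universe v u
open CategoryTheory CategoryTheory.Limits AlgebraicGeometry Opposite TopologicalSpace

namespace Groth.Agent.Desc.QD

variable {V X Y Z S T : Scheme.{u}}

theorem rs_bijective_of_le (M : T.Modules) {U U' : T.Opens} (h : U' ≤ U) (h' : U ≤ U') :
    Function.Bijective (rs M h) := by
  have e : U = U' := le_antisymm h' h
  subst e
  have : ⇑(rs M h) = id := by
    funext m
    exact rs_refl M h m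
  rw [this]
  exact Function.bijective_id

/-- Sections over an open contained in the range of an open immersion. -/
theorem sc_bijective (j : V ⟶ T) [IsOpenImmersion j] (M : T.Modules) {U : T.Opens} {W : V.Opens}
    (hU : U ≤ j.opensRange) (e : W ≤ j ⁻¹ᵁ U) (e' : j ⁻¹ᵁ U ≤ W) :
    Function.Bijective (sc j M e) := by
  have h0 : W = j ⁻¹ᵁ U := le_antisymm e e'
  subst h0
  have h1 : ∀ m : Γ(M, U), sc j M e m =
      ap ((Scheme.Modules.restrictFunctorIsoPullback j).hom.app M) (j ⁻¹ᵁ U)
        (Fdesc.LocGen.toRestrict j (rs M (j.image_preimage_le U) m)) := by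
    intro m
    rw [sc_eq, rs_refl]
    exact (Fdesc.LocGen.restrictFunctorIsoPullback_hom_app j m).symm
  have h2 : ⇑(sc j M e) = (ap ((Scheme.Modules.restrictFunctorIsoPullback j).hom.app M) (j ⁻¹ᵁ U)) ∘
      (Fdesc.LocGen.toRestrict (M := M) j (U := j ⁻¹ᵁ U)) ∘ (rs M (j.image_preimage_le U)) := by
    funext m
    exact h1 m
  rw [h2]
  refine (ap_bijective _ _).comp ((Fdesc.LocGen.toRestrict (M := M) j (U := j ⁻¹ᵁ U)).bijective.comp
    (rs_bijective_of_le M _ ?_))
  rw [j.image_preimage_eq_opensRange_inf]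
  exact le_inf hU le_rfl

/-- Zariski descent for sections. -/
theorem isDescFor_zariski {ι : Type v} {F : ι → Scheme.{u}} (f : ∀ i, F i ⟶ T)
    (hoi : ∀ i, IsOpenImmersion (f i)) (hf : ∀ x : T, ∃ i, x ∈ Set.range (f i)) (N : T.Modules) :
    IsDescFor f N := by
  intro s hs
  have e0 : ∀ i, (⊤ : (F i).Opens) ≤ (f i) ⁻¹ᵁ (f i).opensRange := fun i x _ => ⟨x, rfl⟩
  have hb : ∀ i, Function.Bijective (sc (f i) N (e0 i)) := fun i =>
    sc_bijective (f i) N le_rfl (e0 i) le_top
  choose n hn using fun i => (hb i).2 (s i)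
  have hcov : (⊤ : T.Opens) ≤ ⨆ i, (f i).opensRange := by
    intro x _
    obtain ⟨i, hi⟩ := hf x
    exact Opens.mem_iSup.2 ⟨i, hi⟩
  obtain ⟨t, ht⟩ := Fdesc.LocGen.res_glue N (fun i => (f i).opensRange) (fun i => le_top) hcov n (by
    intro i j
    let O : T.Opens := (f i).opensRange ⊓ (f j).opensRange
    let c : (O : Scheme.{u}) ⟶ T := O.ι
    have hc : (⊤ : (O : Scheme.{u}).Opens) ≤ c ⁻¹ᵁ O := fun x _ => x.2
    have hri : Set.range c ⊆ Set.range (f i) := by
      rw [Scheme.Opens.range_ι]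
      exact fun x hx => hx.1
    have hrj : Set.range c ⊆ Set.range (f j) := by
      rw [Scheme.Opens.range_ι]
      exact fun x hx => hx.2
    let gi := IsOpenImmersion.lift (f i) c hri
    let gj := IsOpenImmersion.lift (f j) c hrj
    have wi : gi ≫ f i = c := IsOpenImmersion.lift_fac _ _ _
    have wj : gj ≫ f j = c := IsOpenImmersion.lift_fac _ _ _
    have hO : O ≤ c.opensRange := by
      intro x hx
      exact ⟨⟨x, hx⟩, rfl⟩
    apply (sc_bijective c N (U := O) (W := ⊤) hO hc le_top).1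
    have h1 : ∀ (k : ι) (gk : (O : Scheme.{u}) ⟶ F k) (wk : gk ≫ f k = c)
        (hk : O ≤ (f k).opensRange), sc c N hc (rs N hk (n k)) = trT gk (f k) c wk N (s k) := by
      intro k gk wk hk
      rw [sc_rs, ← hn k]
      exact (tr_sc gk (f k) c wk N _ (e0 k) _ (n k)).symm
    exact (h1 i gi wi inf_le_left).trans ((hs i j _ gi gj c wi wj).trans
      (h1 j gj wj inf_le_right).symm))
  have key : ∀ (t : Γ(N, ⊤)) i, scT (f i) N t = sc (f i) N (e0 i) (rs N le_top t) := by
    intro t i
    rw [sc_rs]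
    rfl
  refine ⟨t, ?_, ?_⟩
  · intro i
    rw [key]
    exact (congrArg _ (ht i)).trans (hn i)
  · intro t' ht'
    refine Fdesc.LocGen.res_ext N (fun i => (f i).opensRange) (fun i => le_top) hcov (fun i => ?_)
    apply (hb i).1
    have h1 := ht' i
    rw [key] at h1
    have h2 : sc (f i) N (e0 i) (rs N le_top t) = s i := (congrArg _ (ht i)).trans (hn i)
    exact h1.trans h2.symm

end Groth.Agent.Desc.QD
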