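import Groth.Agent.VarietyA.RegSmooth
import Mathlib.RingTheory.Polynomial.Quotient
import Mathlib.RingTheory.Ideal.Cotangent
import Mathlib.RingTheory.Flat.FaithfullyFlat.Algebra
import Mathlib.RingTheory.Ideal.KrullsHeightTheorem

/-!
# Regularity at a prime along smooth ring maps (ascent and descent)
-/

set_option autoImplicit false
set_option linter.dupNamespace false

namespace Groth.Agent.Desc.RegAt

open IsLocalRing

/-- The local ring at a prime is a regular local ring. -/
def RegAt (R : Type*) [CommRing R] (p : Ideal R) [p.IsPrime] : Prop :=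
  IsRegularLocalRing (Localization.AtPrime p)

theorem regAt_of_ringEquiv {R S : Type*} [CommRing R] [CommRing S] {p : Ideal R} [p.IsPrime]
    {q : Ideal S} [q.IsPrime] (e : Localization.AtPrime p ≃+* Localization.AtPrime q)
    (h : RegAt R p) : RegAt S q := by
  have : IsRegularLocalRing (Localization.AtPrime p) := h
  exact IsRegularLocalRing.of_ringEquiv e

theorem regAt_iff_of_isLocalization {R S : Type*} [CommRing R] [CommRing S] [Algebra R S]
    (M : Submonoid R) [IsLocalization M S] (P : Ideal S) [P.IsPrime] (p : Ideal R) [p.IsPrime]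
    (hp : P.under R = p) : RegAt S P ↔ RegAt R p := by
  subst hp
  have : IsLocalization.AtPrime (Localization.AtPrime P) (P.under R) :=
    IsLocalization.isLocalization_isLocalization_atPrime_isLocalization M (Localization.AtPrime P) P
  let e : Localization.AtPrime (P.under R) ≃ₐ[R] Localization.AtPrime P :=
    IsLocalization.algEquiv (P.under R).primeCompl _ _
  exact ⟨regAt_of_ringEquiv e.symm.toRingEquiv, regAt_of_ringEquiv e.toRingEquiv⟩

theorem regAt_of_equiv {R S : Type*} [CommRing R] [CommRing S] (e : R ≃+* S) (q : Ideal S)
    [q.IsPrime] (h : RegAt R (q.comap e)) : RegAt S q := by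
  exact regAt_of_ringEquiv (Localization.localRingEquiv (q.comap e) q e rfl) h

open Polynomial in
/-- Polynomial rings are regular at every prime over which the base is regular. -/
theorem regAt_polynomial {R : Type*} [CommRing R] (p : Ideal R[X]) [p.IsPrime]
    (h : RegAt R (p.under R)) : RegAt R[X] p := by
  let q := p.under R
  let S := (Localization.AtPrime q)[X]
  let pc := Submonoid.map Polynomial.C.toMonoidHom q.primeCompl
  let : Algebra R[X] S := algebra R (Localization.AtPrime q)
  have : IsLocalization pc S := Polynomial.isLocalization _ _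
  let pS := p.map (algebraMap R[X] S)
  have disj : Disjoint (pc : Set R[X]) (p : Set R[X]) := by
    rw [Set.disjoint_left]
    rintro _ ⟨a, ha, rfl⟩ haq
    exact ha haq
  have : pS.IsPrime := IsLocalization.isPrime_of_isPrime_disjoint pc _ _ ‹_› disj
  have hunder : pS.under R[X] = p := IsLocalization.under_map_of_isPrime_disjoint pc _ ‹_› disj
  have : IsRegularLocalRing (Localization.AtPrime q) := h
  have eq : Ideal.comap C pS = maximalIdeal (Localization.AtPrime q) := by
    rw [← IsLocalization.map_under q.primeCompl _ (Ideal.comap C pS),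
      ← IsLocalization.map_under q.primeCompl _ (maximalIdeal (Localization.AtPrime q))]
    simp only [Ideal.comap_comap, Ideal.under_def, S, pS]
    rw [← Polynomial.algebraMap_eq (R := Localization.AtPrime q),
      ← IsScalarTower.algebraMap_eq R (Localization.AtPrime q) (Localization.AtPrime q)[X],
      IsScalarTower.algebraMap_eq R R[X] (Localization.AtPrime q)[X], ← Ideal.comap_comap,
      ← Ideal.under_def R[X], IsLocalization.under_map_of_isPrime_disjoint pc _ ‹_› disj]
    have := IsLocalization.AtPrime.under_maximalIdeal (Localization.AtPrime q) q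
    rw [Ideal.under_def] at this
    rw [this]
  have := Polynomial.isRegularLocalRing_localization_atPrime_of_comap_eq_maximalIdeal _ pS eq
  exact (regAt_iff_of_isLocalization pc pS p hunder).mp this

/-- Polynomial rings are regular at every prime over which the base is regular. -/
theorem regAt_mvPolynomial {R : Type*} [CommRing R] (n : ℕ) (p : Ideal (MvPolynomial (Fin n) R))
    [p.IsPrime] (h : RegAt R (p.under R)) : RegAt (MvPolynomial (Fin n) R) p := by
  induction n with
  | zero =>
    refine regAt_of_equiv (MvPolynomial.isEmptyRingEquiv R (Fin 0)).symm p ?_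
    convert h using 1
    ext x
    rfl
  | succ n ih =>
    refine regAt_of_equiv (MvPolynomial.finSuccEquiv R n).symm.toRingEquiv p ?_
    apply regAt_polynomial
    apply ih
    convert h using 1
    rw [Ideal.under_under]
    ext x
    simp only [Ideal.mem_comap, Ideal.under_def]
    change (MvPolynomial.finSuccEquiv R n).symm (algebraMap R (Polynomial (MvPolynomial (Fin n) R)) x) ∈ p ↔ _
    rw [AlgEquiv.commutes]

/-- Regularity ascends along maps smooth at a prime. -/
theorem regAt_of_isSmoothAt {A B : Type*} [CommRing A] [CommRing B]
    [Algebra A B] [IsNoetherianRing B] [Algebra.FinitePresentation A B] (q : Ideal B) [q.IsPrime]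
    [Algebra.IsSmoothAt A q] (h : RegAt A (q.under A)) : RegAt B q := by
  obtain ⟨f, hf, n, _, _, hstd⟩ := Algebra.IsSmoothAt.exists_isStandardEtale_mvPolynomial
    (R := A) (p := q)
  have hdisj := (Ideal.disjoint_powers_iff_notMem_of_isPrime _).mpr hf
  have hp : (q.map (algebraMap B (Localization.Away f))).IsPrime :=
    IsLocalization.isPrime_of_isPrime_disjoint (.powers f) _ _ ‹_› hdisj
  have hunder := IsLocalization.under_map_of_isPrime_disjoint (.powers f) (Localization.Away f) ‹_› hdisj
  rw [← regAt_iff_of_isLocalization (.powers f) _ q hunder]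
  have h2 : RegAt (MvPolynomial (Fin n) A)
      ((q.map (algebraMap B (Localization.Away f))).under (MvPolynomial (Fin n) A)) := by
    apply regAt_mvPolynomial
    convert h using 1
    rw [Ideal.under_under]
    conv_rhs => rw [← hunder]
    rw [Ideal.under_under]
  have : IsRegularLocalRing (Localization.AtPrime
    ((q.map (algebraMap B (Localization.Away f))).under (MvPolynomial (Fin n) A))) := h2
  have : IsNoetherianRing (Localization.Away f) :=
    IsLocalization.isNoetherianRing (.powers f) _ inferInstance
  exact Groth.Agent.VarietyA.RegSmooth.isRegularLocalRing_atPrime_of_flat_of_isUnramifiedAt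
    (R := MvPolynomial (Fin n) A) _

/-- Let `R → S` be a flat local homomorphism of Noetherian local rings with `m_R S = m_S`. Then the
minimal numbers of generators of the maximal ideals agree. -/
theorem spanFinrank_maximalIdeal_le {R S : Type*} [CommRing R] [CommRing S] [Algebra R S]
    [IsLocalRing R] [IsNoetherianRing R] [IsLocalRing S] [IsNoetherianRing S]
    [IsLocalHom (algebraMap R S)]
    [Module.Flat R S] (h : (maximalIdeal R).map (algebraMap R S) = maximalIdeal S) :
    (maximalIdeal R).spanFinrank ≤ (maximalIdeal S).spanFinrank := by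
  classical
  have : Module.FaithfullyFlat R S := Module.FaithfullyFlat.of_flat_of_isLocalHom
  -- the images of the elements of the maximal ideal of `R` span the cotangent space of `S`
  let g : maximalIdeal R → maximalIdeal S := fun x ↦ ⟨algebraMap R S x, h ▸ Ideal.mem_map_of_mem _ x.2⟩
  have hg : Submodule.span S (Set.range g) = ⊤ := by
    apply Submodule.map_injective_of_injective (maximalIdeal S).injective_subtype
    rw [Submodule.map_span, Submodule.map_top, Submodule.range_subtype, ← Set.range_comp]
    conv_rhs => rw [← h, Ideal.map]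
    congr 1
    ext y
    constructor
    · rintro ⟨x, rfl⟩
      exact ⟨x, x.2, rfl⟩
    · rintro ⟨x, hx, rfl⟩
      exact ⟨⟨x, hx⟩, rfl⟩
  have hg' := CotangentSpace.span_image_eq_top_iff.mpr hg
  obtain ⟨t, ht, hcard, hspan, -⟩ := Submodule.exists_finset_span_eq_linearIndepOn (ResidueField S)
    ((maximalIdeal S).toCotangent '' Set.range g)
  rw [hg', finrank_top, ← spanFinrank_maximalIdeal_eq_finrank_cotangentSpace] at hcard
  rw [hg'] at hspan
  have hc : ∀ c : t, ∃ x : maximalIdeal R, (maximalIdeal S).toCotangent (g x) = c := by
    rintro ⟨c, hc⟩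
    obtain ⟨_, ⟨x, rfl⟩, hx⟩ := ht hc
    exact ⟨x, hx⟩
  choose y hy using hc
  let s : Set (maximalIdeal R) := Set.range y
  have hs : s.Finite := Set.finite_range y
  have himg : (maximalIdeal S).toCotangent '' (g '' s) = t := by
    ext c
    constructor
    · rintro ⟨_, ⟨_, ⟨c', rfl⟩, rfl⟩, rfl⟩
      rw [hy]
      exact c'.2
    · intro hc
      exact ⟨_, ⟨_, ⟨⟨c, hc⟩, rfl⟩, rfl⟩, hy _⟩
  have h1 : Submodule.span S (g '' s) = ⊤ := by
    rw [← CotangentSpace.span_image_eq_top_iff, himg, hspan]
  let I : Ideal R := Ideal.span (Subtype.val '' s)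
  have h2 : I.map (algebraMap R S) = maximalIdeal S := by
    have := congrArg (Submodule.map (maximalIdeal S).subtype) h1
    rw [Submodule.map_span, Submodule.map_top, Submodule.range_subtype, ← Set.image_comp] at this
    rw [← this, Ideal.map_span, ← Set.image_comp]
    rfl
  have h3 : I = maximalIdeal R := by
    rw [← Ideal.comap_map_eq_self_of_faithfullyFlat (B := S) I, h2,
      ← Ideal.comap_map_eq_self_of_faithfullyFlat (B := S) (maximalIdeal R), h]
  rw [← h3, ← hcard]
  refine (Submodule.spanFinrank_span_le_ncard_of_finite (hs.image _)).trans ?_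
  refine (Set.ncard_image_le hs).trans ?_
  have h4 : s.ncard ≤ Fintype.card t := by
    have := Set.ncard_image_le (f := y) (s := Set.univ) Set.finite_univ
    rwa [Set.image_univ, Set.ncard_univ, Nat.card_eq_fintype_card] at this
  simpa using h4

/-- The height of the maximal ideals agree for a flat local homomorphism with `m_R S = m_S`. -/
theorem ringKrullDim_eq_of_flat_of_map_eq {R S : Type*} [CommRing R] [CommRing S] [Algebra R S]
    [IsLocalRing R] [IsNoetherianRing R] [IsLocalRing S] [IsNoetherianRing S]
    [IsLocalHom (algebraMap R S)]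
    [Module.Flat R S] (h : (maximalIdeal R).map (algebraMap R S) = maximalIdeal S) :
    ringKrullDim R = ringKrullDim S := by
  have h1 : (maximalIdeal S).LiesOver (maximalIdeal R) := by
    infer_instance
  have h2 := Ideal.height_eq_height_add_of_liesOver_of_hasGoingDown (maximalIdeal R) (maximalIdeal S)
  have h3 : ((maximalIdeal S).map (Ideal.Quotient.mk
      ((maximalIdeal R).map (algebraMap R S)))).height = 0 := by
    have hp : ((maximalIdeal R).map (algebraMap R S)).IsPrime := h ▸ inferInstance
    have : (maximalIdeal S).map (Ideal.Quotient.mk ((maximalIdeal R).map (algebraMap R S))) = ⊥ := by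
      rw [Ideal.map_eq_bot_iff_le_ker, Ideal.mk_ker, h]
    rw [this]
    simp
  rw [← maximalIdeal_height_eq_ringKrullDim, ← maximalIdeal_height_eq_ringKrullDim, h2, h3, add_zero]

/-- Regularity descends along flat local homomorphisms with `m_R S = m_S`. -/
theorem isRegularLocalRing_of_flat_of_map_eq_descent {R S : Type*} [CommRing R] [CommRing S]
    [Algebra R S] [IsLocalRing R] [IsNoetherianRing R] [IsRegularLocalRing S]
    [IsLocalHom (algebraMap R S)]
    [Module.Flat R S] (h : (maximalIdeal R).map (algebraMap R S) = maximalIdeal S) :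
    IsRegularLocalRing R := by
  apply IsRegularLocalRing.of_spanFinrank_maximalIdeal_le
  rw [ringKrullDim_eq_of_flat_of_map_eq h, ← (isRegularLocalRing_iff S).mp inferInstance]
  exact_mod_cast spanFinrank_maximalIdeal_le h

/-- Over every prime `p` in the image of a map smooth at some prime over `p` there is a prime `q` with
`p B_q = q B_q`. -/
theorem exists_liesOver_map_eq_maximalIdeal {A B : Type*} [CommRing A] [CommRing B]
    [Algebra A B] [Algebra.FinitePresentation A B] (p : Ideal A) [p.IsPrime] (q₀ : Ideal B) [q₀.IsPrime]
    [q₀.LiesOver p] [Algebra.IsSmoothAt A q₀] :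
    ∃ (q : Ideal B) (_ : q.IsPrime), q ≤ q₀ ∧ q.LiesOver p ∧
      p.map (algebraMap A (Localization.AtPrime q)) = maximalIdeal (Localization.AtPrime q) := by
  obtain ⟨f, hf, n, _, _, hstd⟩ := Algebra.IsSmoothAt.exists_isStandardEtale_mvPolynomial
    (R := A) (p := q₀)
  let C := MvPolynomial (Fin n) A
  let Bf := Localization.Away f
  have hdisj := (Ideal.disjoint_powers_iff_notMem_of_isPrime _).mpr hf
  let q₁ := q₀.map (algebraMap B Bf)
  have hp : q₁.IsPrime :=
    IsLocalization.isPrime_of_isPrime_disjoint (.powers f) _ _ ‹_› hdisj
  have hunder : q₁.under B = q₀ :=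
    IsLocalization.under_map_of_isPrime_disjoint (.powers f) (Localization.Away f) ‹_› hdisj
  have hunderA : q₁.under A = p := by
    rw [← Ideal.under_under (B := B), hunder]
    exact (Ideal.over_def q₀ p).symm
  let r : Ideal C := p.map (algebraMap A C)
  have hr : r.IsPrime := by
    have e := MvPolynomial.quotientEquivQuotientMvPolynomial (σ := Fin n) p
    have : IsDomain (C ⧸ (Ideal.map MvPolynomial.C p : Ideal C)) := e.symm.toMulEquiv.isDomain _
    exact (Ideal.Quotient.isDomain_iff_prime _).mp this
  have hle : r ≤ q₁.under C := by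
    rw [Ideal.map_le_iff_le_comap]
    have : (q₁.under C).under A = p := by rw [Ideal.under_under, hunderA]
    exact this.ge
  obtain ⟨Q, hQ, hQp, hQr⟩ := Ideal.exists_ideal_le_liesOver_of_le (p := r) (q := q₁.under C) q₁ hle
  have hunr : Algebra.IsUnramifiedAt C Q := inferInstance
  have hQA : Q.under A = p := by
    have h1 : Q.under A ≤ p := by
      rw [← hunderA]; exact Ideal.comap_mono hQ
    refine le_antisymm h1 ?_
    have : p ≤ r.under A := Ideal.le_comap_map
    rw [Ideal.over_def Q r, Ideal.under_under] at this
    exact this
  let _ := Localization.AtPrime.algebraOfLiesOver r Q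
  have hmap := ((Algebra.isUnramifiedAt_iff_map_eq C r Q).mp hunr).2
  have hmap' : p.map (algebraMap A (Localization.AtPrime Q)) = maximalIdeal (Localization.AtPrime Q) := by
    rw [← hmap, Ideal.map_map, ← IsScalarTower.algebraMap_eq]
  let q := Q.under B
  have hqle : q ≤ q₀ := by
    rw [← hunder]; exact Ideal.comap_mono hQ
  refine ⟨q, inferInstance, hqle, ⟨?_⟩, ?_⟩
  · rw [Ideal.under_under, hQA]
  · have : IsLocalization.AtPrime (Localization.AtPrime Q) q :=
      IsLocalization.isLocalization_isLocalization_atPrime_isLocalization (.powers f)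
        (Localization.AtPrime Q) Q
    let e : Localization.AtPrime Q ≃ₐ[B] Localization.AtPrime q :=
      IsLocalization.algEquiv q.primeCompl _ _
    have h1 := congrArg (Ideal.map e.toRingEquiv) hmap'
    rw [IsLocalRing.map_ringEquiv_maximalIdeal] at h1
    change Ideal.map (e.toRingEquiv : Localization.AtPrime Q →+* Localization.AtPrime q) _ = _ at h1
    rw [← h1, Ideal.map_map]
    congr 1
    ext x
    simp only [RingHom.comp_apply]
    rw [IsScalarTower.algebraMap_apply A B (Localization.AtPrime Q),
      IsScalarTower.algebraMap_apply A B (Localization.AtPrime q)]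
    exact (e.commutes _).symm

/-- If `p B_q = q B_q` and `A → B` is flat then heights agree and regularity at `q` gives regularity
at `p`. -/
theorem regAt_and_height_of_map_eq {A B : Type*} [CommRing A] [CommRing B] [IsNoetherianRing A]
    [IsNoetherianRing B] [Algebra A B] [Module.Flat A B] (p : Ideal A) [p.IsPrime] (q : Ideal B)
    [q.IsPrime] [q.LiesOver p]
    (h : p.map (algebraMap A (Localization.AtPrime q)) = maximalIdeal (Localization.AtPrime q)) :
    (q.height = p.height) ∧ (RegAt B q → RegAt A p) := by
  let := Localization.AtPrime.algebraOfLiesOver p q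
  have : IsLocalHom (algebraMap (Localization.AtPrime p) (Localization.AtPrime q)) := by
    rw [RingHom.algebraMap_toAlgebra]
    exact Localization.isLocalHom_localRingHom p q (algebraMap A B) Ideal.LiesOver.over
  have : Module.Flat (Localization.AtPrime p) (Localization.AtPrime q) := inferInstance
  have hmap : (maximalIdeal (Localization.AtPrime p)).map
      (algebraMap (Localization.AtPrime p) (Localization.AtPrime q)) =
      maximalIdeal (Localization.AtPrime q) := by
    rw [← h, ← Localization.AtPrime.map_eq_maximalIdeal, Ideal.map_map,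
      ← IsScalarTower.algebraMap_eq]
  refine ⟨?_, fun hq ↦ ?_⟩
  · have := ringKrullDim_eq_of_flat_of_map_eq hmap
    rw [IsLocalization.AtPrime.ringKrullDim_eq_height p, IsLocalization.AtPrime.ringKrullDim_eq_height q] at this
    exact (WithBot.coe_eq_coe.mp this).symm
  · have : IsRegularLocalRing (Localization.AtPrime q) := hq
    exact isRegularLocalRing_of_flat_of_map_eq_descent hmap

end Groth.Agent.Desc.RegAt
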