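import Groth.Prelude.Def_Desc

/-!
# Element-level formulas for the pseudofunctor `Desc.ringModPF`
-/

set_option autoImplicit false
set_option backward.isDefEq.respectTransparency false
set_option backward.isDefEq.respectTransparency.types false
open CategoryTheory Opposite TensorProduct
universe u
open _root_.Desc

namespace Groth.Agent.Desc.RingModPF

variable {A B C : CommRingCat.{u}ᵒᵖ}

/-- the pullback of a module along a morphism of `CommRingCatᵒᵖ`: a type synonym for the value
of `ringModPF` on a morphism. -/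
noncomputable abbrev pb (f : B ⟶ A) (M : ModuleCat.{u} A.unop) : ModuleCat.{u} B.unop :=
  (ModuleCat.extendScalars f.unop.hom).obj M

open scoped ChangeOfRings in
/-- the unit `m ↦ 1 ⊗ m`. -/
noncomputable def unit (f : B ⟶ A) (M : ModuleCat.{u} A.unop) (m : M) : pb f M :=
  (1 : B.unop) ⊗ₜ[A.unop, f.unop.hom] m

theorem pb_ext (f : B ⟶ A) (M : ModuleCat.{u} A.unop) {N : ModuleCat.{u} B.unop}
    {α β : pb f M ⟶ N} (h : ∀ m, α.hom (unit f M m) = β.hom (unit f M m)) : α = β :=
  ModuleCat.ExtendScalars.hom_ext h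

theorem unit_add (f : B ⟶ A) (M : ModuleCat.{u} A.unop) (m m' : M) :
    unit f M (m + m') = unit f M m + unit f M m' :=
  TensorProduct.tmul_add _ _ _

theorem unit_zero (f : B ⟶ A) (M : ModuleCat.{u} A.unop) :
    unit f M 0 = 0 :=
  TensorProduct.tmul_zero _ _

open scoped ChangeOfRings in
theorem smul_unit (f : B ⟶ A) (M : ModuleCat.{u} A.unop) (b : B.unop) (m : M) :
    b • unit f M m = b ⊗ₜ[A.unop, f.unop.hom] m := by
  rw [unit, ModuleCat.ExtendScalars.smul_tmul, mul_one]

open scoped ChangeOfRings in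
theorem unit_smul (f : B ⟶ A) (M : ModuleCat.{u} A.unop) (a : A.unop) (m : M) :
    unit f M (a • m) = f.unop.hom a • unit f M m := by
  rw [smul_unit]
  let : Module A.unop B.unop := Module.compHom B.unop f.unop.hom
  have h : f.unop.hom a = a • (1 : B.unop) := by
    change _ = f.unop.hom a * 1
    rw [mul_one]
  rw [h, unit]
  exact (TensorProduct.smul_tmul a (1 : B.unop) m).symm

/-- induction principle: `pb f M` is generated by the `unit f M m`. -/
theorem pb_induction (f : B ⟶ A) (M : ModuleCat.{u} A.unop) {P : pb f M → Prop}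
    (h0 : P 0) (hadd : ∀ x y, P x → P y → P (x + y))
    (h : ∀ (b : B.unop) (m : M), P (b • unit f M m)) (x : pb f M) : P x := by
  refine TensorProduct.induction_on x h0 (fun b m => ?_) hadd
  have := h b m
  rwa [smul_unit] at this

theorem map_unit (f : B ⟶ A) {M N : ModuleCat.{u} A.unop} (φ : M ⟶ N) (m : M) :
    ((ModuleCat.extendScalars f.unop.hom).map φ).hom (unit f M m) = unit f N (φ.hom m) := rfl

section mapComp

variable (f : B ⟶ A) (g : C ⟶ B)

theorem mapComp_hom_app (M : ModuleCat.{u} A.unop) :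
    (ringModPF.mapComp f.op.toLoc g.op.toLoc).hom.toNatTrans.app M =
      (ModuleCat.extendScalarsComp f.unop.hom g.unop.hom).hom.app M := by
  simp only [ringModPF, Pseudofunctor.comp_mapComp, Iso.trans_hom,
    Cat.Hom.toNatTrans_comp, NatTrans.comp_app]
  exact Category.id_comp _

theorem mapComp_hom_app_unit (M : ModuleCat.{u} A.unop) (m : M) :
    (show pb (g ≫ f) M ⟶ pb g (pb f M) from
      ((ringModPF.mapComp f.op.toLoc g.op.toLoc).hom.toNatTrans.app M)).hom
      (unit (g ≫ f) M m) = unit g (pb f M) (unit f M m) := by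
  rw [mapComp_hom_app]
  exact ModuleCat.extendScalarsComp_hom_app_one_tmul f.unop.hom g.unop.hom M m

variable (gf : C ⟶ A) (h : g ≫ f = gf)

include h in
theorem toLoc_comp : f.op.toLoc ≫ g.op.toLoc = gf.op.toLoc := by rw [← h]; rfl

/-- the comparison `(g ≫ f)^* ⟶ g^* f^*`. -/
noncomputable def compHom (M : ModuleCat.{u} A.unop) : pb gf M ⟶ pb g (pb f M) :=
  (ringModPF.mapComp' f.op.toLoc g.op.toLoc gf.op.toLoc
    (toLoc_comp f g gf h)).hom.toNatTrans.app M

/-- the comparison `g^* f^* ⟶ (g ≫ f)^*`. -/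
noncomputable def compInv (M : ModuleCat.{u} A.unop) : pb g (pb f M) ⟶ pb gf M :=
  (ringModPF.mapComp' f.op.toLoc g.op.toLoc gf.op.toLoc
    (toLoc_comp f g gf h)).inv.toNatTrans.app M

theorem compHom_unit (M : ModuleCat.{u} A.unop) (m : M) :
    (compHom f g gf h M).hom (unit gf M m) = unit g (pb f M) (unit f M m) := by
  subst h
  have : compHom f g _ rfl M = (ringModPF.mapComp f.op.toLoc g.op.toLoc).hom.toNatTrans.app M := by
    change (ringModPF.mapComp' f.op.toLoc g.op.toLoc (f.op.toLoc ≫ g.op.toLoc) rfl).hom.toNatTrans.app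
      M = _
    rw [Pseudofunctor.mapComp'_eq_mapComp]
  rw [this]
  exact mapComp_hom_app_unit f g M m

theorem compHom_compInv (M : ModuleCat.{u} A.unop) :
    compHom f g gf h M ≫ compInv f g gf h M = 𝟙 _ :=
  Cat.Hom.hom_inv_id_toNatTrans_app (ringModPF.mapComp' f.op.toLoc g.op.toLoc gf.op.toLoc
    (toLoc_comp f g gf h)) M

theorem compInv_unit_unit (M : ModuleCat.{u} A.unop) (m : M) :
    (compInv f g gf h M).hom (unit g (pb f M) (unit f M m)) = unit gf M m := by
  rw [← compHom_unit f g gf h, ← LinearMap.comp_apply, ← ModuleCat.hom_comp, compHom_compInv]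
  rfl

end mapComp

end Groth.Agent.Desc.RingModPF
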