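import Groth.Agent.Desc.SecData4
import Groth.Agent.Desc.RingModPF

/-!
# The pseudofunctor `Desc.ringModPF` with sections
-/

set_option autoImplicit false
set_option backward.isDefEq.respectTransparency false
set_option backward.isDefEq.respectTransparency.types false
open CategoryTheory Opposite Bicategory TensorProduct
universe u
open _root_.Desc

namespace Groth.Agent.Desc.RingModPF

open Pseudofunctor Groth.Agent.Desc.SecD

/-- `unit` as an additive map -/
noncomputable def unitHom {A B : CommRingCat.{u}ᵒᵖ} (f : B ⟶ A) (M : ModuleCat.{u} A.unop) :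
    M →+ pb f M where
  toFun := unit f M
  map_zero' := unit_zero f M
  map_add' := unit_add f M

/-- `ringModPF` with sections. -/
noncomputable def sec : SecData.{u} ringModPF.{u} where
  O := unopUnop CommRingCat.{u}
  Γ X := 𝟭 (ModuleCat.{u} X.unop)
  unit f M := unitHom f M
  unit_smul f M a m := unit_smul f M a m
  map_unit f _ _ φ m := map_unit f φ m
  mapComp_unit f g M m := mapComp_hom_app_unit f g M m

theorem isBC_unitHom {A B : CommRingCat.{u}ᵒᵖ} (f : B ⟶ A) (M : ModuleCat.{u} A.unop) :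
    IsBC f.unop.hom inferInstance inferInstance (unitHom f M) := by
  refine ⟨unit_smul f M, ?_⟩
  let _ : Algebra A.unop B.unop := f.unop.hom.toAlgebra
  have h : (VarietyB.BCAlg.bc (⟨⟨unitHom f M, map_add _⟩, unit_smul f M⟩ :
      M →ₛₗ[algebraMap A.unop B.unop] pb f M) : _ → _) = _root_.id := by
    funext x
    induction x with
    | zero => exact map_zero _
    | add x y hx hy =>
      rw [map_add, hx, hy]
      rfl
    | tmul b m =>
      rw [VarietyB.BCAlg.bc_tmul]
      exact smul_unit f M b m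
  change Function.Bijective (VarietyB.BCAlg.bc (⟨⟨unitHom f M, map_add _⟩, unit_smul f M⟩ :
      M →ₛₗ[algebraMap A.unop B.unop] pb f M) : _ → _)
  rw [h]
  exact Function.bijective_id

theorem exists_hom {A B : CommRingCat.{u}ᵒᵖ} (f : B ⟶ A) (M : ModuleCat.{u} A.unop)
    (N : ModuleCat.{u} B.unop) (s : M →+ N)
    (hs : ∀ (a : A.unop) (m : M), s (a • m) = f.unop.hom a • s m) :
    ∃ ψ : pb f M ⟶ N, ∀ m, ψ.hom (unit f M m) = s m := by
  let s' : M ⟶ (ModuleCat.restrictScalars f.unop.hom).obj N :=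
    ModuleCat.ofHom (Y := (ModuleCat.restrictScalars f.unop.hom).obj N)
      { toFun := s, map_add' := map_add s, map_smul' := hs }
  refine ⟨((ModuleCat.extendRestrictScalarsAdj f.unop.hom).homEquiv _ _).symm s', fun m => ?_⟩
  have h := (ModuleCat.extendRestrictScalarsAdj_homEquiv_apply (φ :=
    ((ModuleCat.extendRestrictScalarsAdj f.unop.hom).homEquiv _ _).symm s') (m := m))
  rw [Equiv.apply_symm_apply] at h
  exact h.symm

theorem sec_free {X S : CommRingCat.{u}ᵒᵖ} (f : X ⟶ S) (G : ModuleCat.{u} S.unop) :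
    sec.Free f G where
  ext h _ _ _ H := pb_ext h G H
  ex E s hs := exists_hom f G E s hs
  bc := isBC_unitHom f G

theorem unitHom_id_injective {X : CommRingCat.{u}ᵒᵖ} (M : ModuleCat.{u} X.unop) :
    Function.Injective (unitHom (𝟙 X) M) :=
  (isBC_unitHom (𝟙 X) M).injective_of_id rfl

theorem isIso_of_bijective {X : CommRingCat.{u}ᵒᵖ} {M N : ModuleCat.{u} X.unop} (ψ : M ⟶ N)
    (h : Function.Bijective ψ.hom) : IsIso ψ :=
  (ConcreteCategory.isIso_iff_bijective ψ).2 h

/-- **Faithfully flat descent of modules is effective** (`R → S` flat is not enough; here we only need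
flatness for the exactness of `S ⊗ -` and the counit). -/
theorem exists_descent {R S : CommRingCat.{u}} (φ : R ⟶ S) (hφ : φ.hom.Flat)
    (D : ringModPF.{u}.DescentData (fun _ : PUnit.{u + 1} => φ.op)) :
    ∃ M : ModuleCat.{u} R,
      Nonempty ((ringModPF.{u}.toDescentData (fun _ : PUnit.{u + 1} => φ.op)).obj M ≅ D) := by
  obtain ⟨B, ι₁, ι₂, hB⟩ : ∃ (B : CommRingCat.{u}) (ι₁ : S ⟶ B) (ι₂ : S ⟶ B), IsPushout φ φ ι₁ ι₂ :=
    ⟨_, _, _, IsPushout.of_hasPushout φ φ⟩
  obtain ⟨T, κ₁, κ₂, hT⟩ : ∃ (T : CommRingCat.{u}) (κ₁ : S ⟶ T) (κ₂ : B ⟶ T),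
      IsPushout φ (φ ≫ ι₁) κ₁ κ₂ :=
    ⟨_, _, _, IsPushout.of_hasPushout φ (φ ≫ ι₁)⟩
  obtain ⟨G, -, hG⟩ := sec.effective_of_isPushout D ι₁.op ι₂.op
    (by rw [← op_comp, ← op_comp, hB.w])
    (fun {T'} f₁ f₂ h => ⟨(hB.desc f₁.unop f₂.unop (by
      rw [← Quiver.Hom.unop_op φ, ← unop_comp, ← unop_comp]
      exact congrArg Quiver.Hom.unop h)).op,
      Quiver.Hom.unop_inj (hB.inl_desc _ _ _), Quiver.Hom.unop_inj (hB.inr_desc _ _ _)⟩)
    κ₁.op κ₂.op (by rw [← op_comp, ← op_comp, ← op_comp, hT.w])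
    hφ hB hT (isBC_unitHom _ _) (unitHom_id_injective _) (isBC_unitHom _ _)
    (fun N => ⟨N, sec_free _ _, ⟨Iso.refl _⟩⟩)
    (fun G _ ψ hψ => isIso_of_bijective (X := op S) ψ hψ)
  exact ⟨G, hG⟩

end Groth.Agent.Desc.RingModPF
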