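import Mathlib.CategoryTheory.Sites.Descent.DescentData
import Mathlib.Algebra.Category.ModuleCat.Basic
import Mathlib.Algebra.Category.Ring.Basic
import Groth.Agent.Desc.CoactData

/-!
# Pseudofunctors with module-valued sections, and their descent data

`SecData F`: a pseudofunctor `F : LocallyDiscrete Cᵒᵖ ⥤ᵖ Cat` together with a ring-valued presheaf `O` and
"section" functors `Γ X : F(X) ⥤ Mod O(X)` with pullback maps `unit f M : Γ_X(M) → Γ_Y(f^* M)`.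
-/

set_option autoImplicit false
set_option backward.isDefEq.respectTransparency false
set_option backward.isDefEq.respectTransparency.types false
open CategoryTheory Opposite Bicategory
universe w t v' v u' u

namespace Groth.Agent.Desc.SecD

open Pseudofunctor Pseudofunctor.LocallyDiscreteOpToCat

variable {C : Type u} [Category.{v} C]

/-- Section functors on a pseudofunctor. -/
structure SecData (F : Pseudofunctor (LocallyDiscrete Cᵒᵖ) Cat.{v', u'}) where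
  /-- the ring presheaf -/
  O : Cᵒᵖ ⥤ CommRingCat.{w}
  /-- sections -/
  Γ (X : C) : F.obj (.mk (op X)) ⥤ ModuleCat.{w} (O.obj (op X))
  /-- pullback of sections -/
  unit {X Y : C} (f : Y ⟶ X) (M : F.obj (.mk (op X))) :
    (Γ X).obj M →+ (Γ Y).obj ((F.map f.op.toLoc).toFunctor.obj M)
  unit_smul {X Y : C} (f : Y ⟶ X) (M : F.obj (.mk (op X))) (a : O.obj (op X))
    (m : (Γ X).obj M) : unit f M (a • m) = (O.map f.op).hom a • unit f M m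
  map_unit {X Y : C} (f : Y ⟶ X) {M N : F.obj (.mk (op X))} (φ : M ⟶ N) (m : (Γ X).obj M) :
    ((Γ Y).map ((F.map f.op.toLoc).toFunctor.map φ)).hom (unit f M m) =
      unit f N (((Γ X).map φ).hom m)
  mapComp_unit {X Y Z : C} (f : Y ⟶ X) (g : Z ⟶ Y) (M : F.obj (.mk (op X)))
    (m : (Γ X).obj M) :
    ((Γ Z).map ((F.mapComp f.op.toLoc g.op.toLoc).hom.toNatTrans.app M)).hom
      (unit (g ≫ f) M m) = unit g _ (unit f M m)

variable {F : Pseudofunctor (LocallyDiscrete Cᵒᵖ) Cat.{v', u'}} (σ : SecData.{w} F)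

namespace SecData

theorem map_hom_inv {X : C} {M N : F.obj (.mk (op X))} (e : M ≅ N) (m : (σ.Γ X).obj M) :
    ((σ.Γ X).map e.inv).hom (((σ.Γ X).map e.hom).hom m) = m := by
  rw [← LinearMap.comp_apply, ← ModuleCat.hom_comp, ← Functor.map_comp, e.hom_inv_id,
    CategoryTheory.Functor.map_id, ModuleCat.hom_id, LinearMap.id_apply]

section trans

variable {X Y Z : C} (f : Y ⟶ X) (g : Z ⟶ Y) (gf : Z ⟶ X) (h : g ≫ f = gf)
  (M : F.obj (.mk (op X)))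

include h in
theorem toLoc_comp : f.op.toLoc ≫ g.op.toLoc = gf.op.toLoc := by
  rw [← h]; rfl

/-- the comparison `(gf)^* M ⟶ g^* f^* M` -/
def cHom : (F.map gf.op.toLoc).toFunctor.obj M ⟶
    (F.map g.op.toLoc).toFunctor.obj ((F.map f.op.toLoc).toFunctor.obj M) :=
  (F.mapComp' f.op.toLoc g.op.toLoc gf.op.toLoc (toLoc_comp f g gf h)).hom.toNatTrans.app M

/-- the comparison `g^* f^* M ⟶ (gf)^* M` -/
def cInv : (F.map g.op.toLoc).toFunctor.obj ((F.map f.op.toLoc).toFunctor.obj M) ⟶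
    (F.map gf.op.toLoc).toFunctor.obj M :=
  (F.mapComp' f.op.toLoc g.op.toLoc gf.op.toLoc (toLoc_comp f g gf h)).inv.toNatTrans.app M

theorem cHom_cInv : cHom f g gf h M ≫ cInv f g gf h M = 𝟙 _ :=
  Cat.Hom.hom_inv_id_toNatTrans_app _ _

theorem cInv_cHom : cInv f g gf h M ≫ cHom f g gf h M = 𝟙 _ :=
  Cat.Hom.inv_hom_id_toNatTrans_app _ _

theorem cHom_unit (m : (σ.Γ X).obj M) :
    ((σ.Γ Z).map (cHom f g gf h M)).hom (σ.unit gf M m) = σ.unit g _ (σ.unit f M m) := by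
  subst h
  have : cHom f g _ rfl M = (F.mapComp f.op.toLoc g.op.toLoc).hom.toNatTrans.app M := by
    change (F.mapComp' f.op.toLoc g.op.toLoc (f.op.toLoc ≫ g.op.toLoc) rfl).hom.toNatTrans.app
      M = _
    rw [Pseudofunctor.mapComp'_eq_mapComp]
  rw [this]
  exact σ.mapComp_unit f g M m

theorem cInv_unit_unit (m : (σ.Γ X).obj M) :
    ((σ.Γ Z).map (cInv f g gf h M)).hom (σ.unit g _ (σ.unit f M m)) = σ.unit gf M m := by
  rw [← σ.cHom_unit f g gf h, ← LinearMap.comp_apply, ← ModuleCat.hom_comp, ← Functor.map_comp,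
    cHom_cInv, CategoryTheory.Functor.map_id, ModuleCat.hom_id, LinearMap.id_apply]

/-- transport of sections of `f^* M` to sections of `(gf)^* M`. -/
def trans : (σ.Γ Y).obj ((F.map f.op.toLoc).toFunctor.obj M) →+
    (σ.Γ Z).obj ((F.map gf.op.toLoc).toFunctor.obj M) :=
  ((σ.Γ Z).map (cInv f g gf h M)).hom.toAddMonoidHom.comp (σ.unit g _)

theorem trans_apply (y : (σ.Γ Y).obj ((F.map f.op.toLoc).toFunctor.obj M)) :
    σ.trans f g gf h M y = ((σ.Γ Z).map (cInv f g gf h M)).hom (σ.unit g _ y) := rfl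

theorem trans_smul (b : σ.O.obj (op Y)) (y : (σ.Γ Y).obj ((F.map f.op.toLoc).toFunctor.obj M)) :
    σ.trans f g gf h M (b • y) = (σ.O.map g.op).hom b • σ.trans f g gf h M y := by
  rw [trans_apply, trans_apply, σ.unit_smul, map_smul]

theorem trans_unit (m : (σ.Γ X).obj M) :
    σ.trans f g gf h M (σ.unit f M m) = σ.unit gf M m :=
  σ.cInv_unit_unit f g gf h M m

end trans

section dd

variable {X S : C} {f : X ⟶ S} (D : F.DescentData (fun _ : PUnit.{t + 1} => f))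

/-- the underlying object of a descent datum -/
abbrev dObj : F.obj (.mk (op X)) := D.obj PUnit.unit

/-- the gluing morphisms -/
def dHom {Y : C} (f₁ f₂ : Y ⟶ X) (h : f₁ ≫ f = f₂ ≫ f) :
    (F.map f₁.op.toLoc).toFunctor.obj (dObj D) ⟶ (F.map f₂.op.toLoc).toFunctor.obj (dObj D) :=
  D.hom (i₁ := PUnit.unit) (i₂ := PUnit.unit) (f₁ ≫ f) f₁ f₂ rfl h.symm

theorem dHom_eq {Y : C} (q : Y ⟶ S) (f₁ f₂ : Y ⟶ X) (h : f₁ ≫ f = q)
    (h' : f₂ ≫ f = q) :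
    D.hom (i₁ := PUnit.unit) (i₂ := PUnit.unit) q f₁ f₂ h h' = dHom D f₁ f₂ (h.trans h'.symm) := by
  subst h
  rfl

theorem dHom_self {Y : C} (f₁ : Y ⟶ X) : dHom D f₁ f₁ rfl = 𝟙 _ :=
  D.hom_self (f₁ ≫ f) f₁ rfl

theorem dHom_comp {Y : C} (f₁ f₂ f₃ : Y ⟶ X) (h : f₁ ≫ f = f₂ ≫ f)
    (h' : f₂ ≫ f = f₃ ≫ f) :
    dHom D f₁ f₂ h ≫ dHom D f₂ f₃ h' = dHom D f₁ f₃ (h.trans h') := by
  have e : dHom D f₂ f₃ h' =
      D.hom (i₁ := PUnit.unit) (i₂ := PUnit.unit) (f₁ ≫ f) f₂ f₃ h.symm (h.trans h').symm :=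
    (dHom_eq D _ _ _ _ _).symm
  rw [e]
  exact D.hom_comp (f₁ ≫ f) f₁ f₂ f₃ rfl h.symm (h.trans h').symm

theorem dHom_pull {Y Y' : C} (g : Y' ⟶ Y) (f₁ f₂ : Y ⟶ X) (h : f₁ ≫ f = f₂ ≫ f)
    (gf₁ gf₂ : Y' ⟶ X) (h₁ : g ≫ f₁ = gf₁) (h₂ : g ≫ f₂ = gf₂) (h' : gf₁ ≫ f = gf₂ ≫ f) :
    dHom D gf₁ gf₂ h' = cHom f₁ g gf₁ h₁ (dObj D) ≫ (F.map g.op.toLoc).toFunctor.map
      (dHom D f₁ f₂ h) ≫ cInv f₂ g gf₂ h₂ (dObj D) :=
  (D.pullHom_hom (i₁ := PUnit.unit) (i₂ := PUnit.unit) g (f₁ ≫ f) (gf₁ ≫ f)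
    (by rw [← h₁, Category.assoc]) f₁ f₂ rfl h.symm gf₁ gf₂ h₁ h₂).symm

/-- the gluing maps on sections -/
def δ {Y : C} (f₁ f₂ : Y ⟶ X) (h : f₁ ≫ f = f₂ ≫ f) :
    (σ.Γ Y).obj ((F.map f₁.op.toLoc).toFunctor.obj (dObj D)) →ₗ[σ.O.obj (op Y)]
      (σ.Γ Y).obj ((F.map f₂.op.toLoc).toFunctor.obj (dObj D)) :=
  ((σ.Γ Y).map (dHom D f₁ f₂ h)).hom

theorem δ_self {Y : C} (f₁ : Y ⟶ X) (y) : σ.δ D f₁ f₁ rfl y = y := by
  rw [δ, dHom_self, CategoryTheory.Functor.map_id, ModuleCat.hom_id, LinearMap.id_apply]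

theorem δ_comp {Y : C} (f₁ f₂ f₃ : Y ⟶ X) (h : f₁ ≫ f = f₂ ≫ f)
    (h' : f₂ ≫ f = f₃ ≫ f) (y) :
    σ.δ D f₂ f₃ h' (σ.δ D f₁ f₂ h y) = σ.δ D f₁ f₃ (h.trans h') y := by
  rw [δ, δ, δ, ← dHom_comp D f₁ f₂ f₃ h h', Functor.map_comp, ModuleCat.hom_comp,
    LinearMap.comp_apply]

theorem δ_trans {Y Y' : C} (g : Y' ⟶ Y) (f₁ f₂ : Y ⟶ X) (h : f₁ ≫ f = f₂ ≫ f)
    (gf₁ gf₂ : Y' ⟶ X) (h₁ : g ≫ f₁ = gf₁) (h₂ : g ≫ f₂ = gf₂) (h' : gf₁ ≫ f = gf₂ ≫ f) (y) :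
    σ.δ D gf₁ gf₂ h' (σ.trans f₁ g gf₁ h₁ (dObj D) y) =
      σ.trans f₂ g gf₂ h₂ (dObj D) (σ.δ D f₁ f₂ h y) := by
  rw [δ, trans_apply, trans_apply, δ, ← σ.map_unit, ← LinearMap.comp_apply,
    ← LinearMap.comp_apply, ← ModuleCat.hom_comp, ← ModuleCat.hom_comp, ← Functor.map_comp,
    ← Functor.map_comp, dHom_pull D g f₁ f₂ h gf₁ gf₂ h₁ h₂, ← Category.assoc, cInv_cHom,
    Category.id_comp]

theorem δ_unit {Y Y' : C} (g : Y' ⟶ Y) (f₁ f₂ : Y ⟶ X) (h : f₁ ≫ f = f₂ ≫ f)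
    (gf₁ gf₂ : Y' ⟶ X) (h₁ : g ≫ f₁ = gf₁) (h₂ : g ≫ f₂ = gf₂) (h' : gf₁ ≫ f = gf₂ ≫ f)
    (m : (σ.Γ X).obj (dObj D)) :
    σ.δ D gf₁ gf₂ h' (σ.unit gf₁ _ m) =
      σ.trans f₂ g gf₂ h₂ (dObj D) (σ.δ D f₁ f₂ h (σ.unit f₁ _ m)) := by
  rw [← σ.trans_unit f₁ g gf₁ h₁, σ.δ_trans D g f₁ f₂ h gf₁ gf₂ h₁ h₂ h']

end dd

end SecData

end Groth.Agent.Desc.SecD
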