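import Groth.Agent.Desc.SecData
import Groth.Agent.VarietyB.BCAlg
import Mathlib.RingTheory.RingHom.Flat

/-!
# Effectivity of descent data for pseudofunctors with sections
-/

set_option autoImplicit false
set_option backward.isDefEq.respectTransparency false
set_option backward.isDefEq.respectTransparency.types false
open CategoryTheory Opposite Bicategory TensorProduct
universe w t v' v u' u

namespace Groth.Agent.Desc.SecD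

open Pseudofunctor Groth.Agent.Desc.CoactDescent

/-- `u : M → P` is a base change of modules along `φ : R → A` (all module structures explicit). -/
def IsBC {R A M P : Type*} [CommRing R] [CommRing A] [AddCommGroup M] [AddCommGroup P]
    (φ : R →+* A) (iM : Module R M) (iP : Module A P) (u : M →+ P) : Prop :=
  ∃ h : ∀ (r : R) (m : M), u (r • m) = φ r • u m,
    letI : Algebra R A := φ.toAlgebra
    Function.Bijective (VarietyB.BCAlg.bc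
      (⟨⟨u, map_add u⟩, h⟩ : M →ₛₗ[algebraMap R A] P))

/-- Sub-datum: the purely algebraic statement behind effectivity of descent for modules. -/
theorem exists_sub_alg {R A B M P E Q Q' : Type*} [CommRing R] [CommRing A] [CommRing B]
    [AddCommGroup M] [AddCommGroup P] [AddCommGroup E] [AddCommGroup Q] [AddCommGroup Q']
    {φ : R →+* A} (hφ : φ.Flat) (iM : Module A M) (iP : Module B P)
    {ψ : A →+* B} {iQ : Module A Q}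
    (δu : M →+ P) (hδu : ∀ (a : A) m, δu (a • m) = ψ a • δu m)
    (u₂ : M →+ P) (hu₂ : IsBC φ (Module.compHom M φ) (Module.compHom P ψ) u₂)
    (t : P →+ E) (u : M →+ E) (hu : Function.Injective u)
    (ht : ∀ s m, t (ψ s • u₂ m) = u (s • m)) (ht' : ∀ m, t (δu m) = u m)
    (t₂₃ : P →+ Q) (ht₂₃ : IsBC φ (Module.compHom P (ψ.comp φ)) iQ t₂₃)
    (t₁₂ : P →+ Q') (δ₂₃ : Q' →+ Q) (t₁₃ : P →+ Q)
    (h1 : ∀ s m, s • t₂₃ (δu m) = δ₂₃ (t₁₂ (ψ s • u₂ m)))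
    (h2 : ∀ s m, s • t₂₃ (u₂ m) = t₁₃ (ψ s • u₂ m))
    (h3 : ∀ m, δ₂₃ (t₁₂ (δu m)) = t₁₃ (δu m)) :
    ∃ (N : AddSubgroup M) (iN : Module R N),
      (∀ (r : R) (n : N), ((r • n : N) : M) = φ r • (n : M)) ∧
      (∀ m, m ∈ N ↔ δu m = u₂ m) ∧ IsBC φ iN iM N.subtype := by
  let _ : Algebra R A := φ.toAlgebra
  let _ : Module R M := Module.compHom M φ
  let _ : Module A P := Module.compHom P ψ
  let _ : Module R P := Module.compHom P (ψ.comp φ)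
  have : IsScalarTower R A M :=
    ⟨fun r a m => by
      change (φ r * a) • m = φ r • (a • m)
      rw [mul_smul]⟩
  have : IsScalarTower R A P :=
    ⟨fun r a m => by
      change (ψ (φ r * a)) • m = ψ (φ r) • (ψ a • m)
      rw [map_mul, mul_smul]⟩
  have hflat : Module.Flat R A := hφ
  obtain ⟨hu₂s, hu₂b⟩ := hu₂
  obtain ⟨ht₂₃s, ht₂₃b⟩ := ht₂₃
  let d : CoactData R A M P E Q Q' :=
    { κ₂ := VarietyB.BCAlg.bc (⟨⟨u₂, map_add u₂⟩, hu₂s⟩ : M →ₛₗ[algebraMap R A] P)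
      κ₂_bij := hu₂b
      δu := { δu with map_smul' := hδu }
      t := t
      u := u
      u_inj := hu
      t_κ₂ := fun s m => ht s m
      t_δu := ht'
      κ₃ := (VarietyB.BCAlg.bc (⟨⟨t₂₃, map_add t₂₃⟩, ht₂₃s⟩ :
        P →ₛₗ[algebraMap R A] Q)).toAddMonoidHom
      κ₃_inj := ht₂₃b.1
      t₁₂ := t₁₂
      δ₂₃ := δ₂₃
      t₁₃ := t₁₃
      κ₃_δu := fun s m => h1 s m
      κ₃_κ₂ := fun s m => by
        have e := h2 s m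
        have e2 : VarietyB.BCAlg.bc (⟨⟨u₂, map_add u₂⟩, hu₂s⟩ : M →ₛₗ[algebraMap R A] P)
            (1 ⊗ₜ[R] m) = u₂ m := by
          rw [VarietyB.BCAlg.bc_tmul, one_smul]
          rfl
        rw [e2]
        exact e
      cocycle := h3 }
  have hd := d.bijective
  have hmem : ∀ m, m ∈ coinv d.a ↔ δu m = u₂ m := by
    intro m
    rw [d.mem_coinv_iff]
    change δu m = VarietyB.BCAlg.bc (⟨⟨u₂, map_add u₂⟩, hu₂s⟩ : M →ₛₗ[algebraMap R A] P)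
            (1 ⊗ₜ[R] m) ↔ _
    rw [VarietyB.BCAlg.bc_tmul, one_smul]
    rfl
  refine ⟨(coinv d.a).toAddSubgroup, inferInstanceAs (Module R (coinv d.a)), fun _ _ => rfl,
    hmem, fun _ _ => rfl, ?_⟩
  have e3 : VarietyB.BCAlg.bc (⟨⟨(coinv d.a).toAddSubgroup.subtype, map_add _⟩, fun _ _ => rfl⟩ :
      (coinv d.a) →ₛₗ[algebraMap R A] M) = ofCoinv d.a := by
    ext m
    rfl
  change Function.Bijective (VarietyB.BCAlg.bc
    (⟨⟨(coinv d.a).toAddSubgroup.subtype, map_add _⟩, fun _ _ => rfl⟩ :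
      (coinv d.a) →ₛₗ[algebraMap R A] M))
  rw [e3]
  exact hd

variable {C : Type u} [Category.{v} C] {F : Pseudofunctor (LocallyDiscrete Cᵒᵖ) Cat.{v', u'}}
  (σ : SecData.{w} F)

namespace SecData

section

variable {X S Y Z : C} {f : X ⟶ S} (D : F.DescentData (fun _ : PUnit.{t + 1} => f))

theorem O_map_comp {U V W : C} (a : V ⟶ U) (b : W ⟶ V) (c : W ⟶ U) (h : b ≫ a = c)
    (x : σ.O.obj (op U)) : (σ.O.map b.op).hom ((σ.O.map a.op).hom x) = (σ.O.map c.op).hom x := by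
  rw [← h, op_comp, Functor.map_comp, CommRingCat.hom_comp, RingHom.comp_apply]

theorem O_map_id {U : C} (x : σ.O.obj (op U)) : (σ.O.map (𝟙 U : U ⟶ U).op).hom x = x := by
  rw [op_id, CategoryTheory.Functor.map_id, CommRingCat.hom_id, RingHom.id_apply]

/-- The elements `m` with `δ (p₁^* m) = p₂^* m` generate, after base change, the module of sections of
a descent datum. -/
theorem exists_sub (p₁ p₂ : Y ⟶ X) (hp : p₁ ≫ f = p₂ ≫ f)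
    (Δ : X ⟶ Y) (hΔ₁ : Δ ≫ p₁ = 𝟙 X) (hΔ₂ : Δ ≫ p₂ = 𝟙 X)
    (q₁ q₂ q₃ : Z ⟶ X)
    (q₂₃ : Z ⟶ Y) (h₂₃ : q₂₃ ≫ p₁ = q₂) (h₂₃' : q₂₃ ≫ p₂ = q₃)
    (q₁₂ : Z ⟶ Y) (h₁₂ : q₁₂ ≫ p₁ = q₁) (h₁₂' : q₁₂ ≫ p₂ = q₂)
    (q₁₃ : Z ⟶ Y) (h₁₃ : q₁₃ ≫ p₁ = q₁) (h₁₃' : q₁₃ ≫ p₂ = q₃)
    (hflat : (σ.O.map f.op).hom.Flat)
    (hbc : IsBC (σ.O.map f.op).hom (Module.compHom _ (σ.O.map f.op).hom)
      (Module.compHom _ (σ.O.map p₁.op).hom) (σ.unit p₂ (dObj D)))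
    (hu : Function.Injective (σ.unit (𝟙 X) (dObj D)))
    (hbc₃ : IsBC (σ.O.map f.op).hom
      (Module.compHom _ ((σ.O.map p₁.op).hom.comp (σ.O.map f.op).hom))
      (Module.compHom _ (σ.O.map q₁.op).hom) (σ.trans p₂ q₂₃ q₃ h₂₃' (dObj D))) :
    ∃ (N : AddSubgroup ((σ.Γ X).obj (dObj D))) (iN : Module (σ.O.obj (op S)) N),
      (∀ (r : σ.O.obj (op S)) (n : N), ((r • n : N) : (σ.Γ X).obj (dObj D)) =
        (σ.O.map f.op).hom r • (n : (σ.Γ X).obj (dObj D))) ∧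
      (∀ m, m ∈ N ↔ σ.δ D p₁ p₂ hp (σ.unit p₁ _ m) = σ.unit p₂ _ m) ∧
      IsBC (σ.O.map f.op).hom iN inferInstance N.subtype := by
  have hq₁₂ : q₁ ≫ f = q₂ ≫ f := by
    rw [← h₁₂, ← h₁₂', Category.assoc, Category.assoc, hp]
  have hq₂₃ : q₂ ≫ f = q₃ ≫ f := by
    rw [← h₂₃, ← h₂₃', Category.assoc, Category.assoc, hp]
  refine exists_sub_alg (E := (σ.Γ X).obj ((F.map (𝟙 X : X ⟶ X).op.toLoc).toFunctor.obj (dObj D)))
    (Q := (σ.Γ Z).obj ((F.map q₃.op.toLoc).toFunctor.obj (dObj D)))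
    (Q' := (σ.Γ Z).obj ((F.map q₂.op.toLoc).toFunctor.obj (dObj D)))
    hflat inferInstance (iP := inferInstance) (ψ := (σ.O.map p₁.op).hom)
    (iQ := Module.compHom _ (σ.O.map q₁.op).hom)
    ((σ.δ D p₁ p₂ hp).toAddMonoidHom.comp (σ.unit p₁ (dObj D))) ?_
    (σ.unit p₂ (dObj D)) hbc (σ.trans p₂ Δ (𝟙 X) hΔ₂ (dObj D)) (σ.unit (𝟙 X) (dObj D)) hu
    ?_ ?_ (σ.trans p₂ q₂₃ q₃ h₂₃' (dObj D)) hbc₃
    (σ.trans p₂ q₁₂ q₂ h₁₂' (dObj D)) (σ.δ D q₂ q₃ hq₂₃).toAddMonoidHom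
    (σ.trans p₂ q₁₃ q₃ h₁₃' (dObj D)) ?_ ?_ ?_
  · intro a m
    change σ.δ D p₁ p₂ hp (σ.unit p₁ (dObj D) (a • m)) =
      (σ.O.map p₁.op).hom a • σ.δ D p₁ p₂ hp (σ.unit p₁ (dObj D) m)
    rw [σ.unit_smul, map_smul]
  · intro s m
    rw [σ.trans_smul, σ.trans_unit, σ.unit_smul, σ.O_map_comp p₁ Δ _ hΔ₁]
  · intro m
    change σ.trans p₂ Δ (𝟙 X) hΔ₂ (dObj D) (σ.δ D p₁ p₂ hp (σ.unit p₁ (dObj D) m)) = _
    rw [← σ.δ_unit D Δ p₁ p₂ hp (𝟙 X) (𝟙 X) hΔ₁ hΔ₂ rfl, σ.δ_self]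
  · intro s m
    change (σ.O.map q₁.op).hom s • σ.trans p₂ q₂₃ q₃ h₂₃' (dObj D)
      (σ.δ D p₁ p₂ hp (σ.unit p₁ (dObj D) m)) = σ.δ D q₂ q₃ hq₂₃ (σ.trans p₂ q₁₂ q₂ h₁₂' (dObj D)
      ((σ.O.map p₁.op).hom s • σ.unit p₂ (dObj D) m))
    rw [← σ.δ_unit D q₂₃ p₁ p₂ hp q₂ q₃ h₂₃ h₂₃' hq₂₃, σ.trans_smul, σ.trans_unit,
      σ.O_map_comp p₁ q₁₂ _ h₁₂, map_smul]
  · intro s m
    change (σ.O.map q₁.op).hom s • σ.trans p₂ q₂₃ q₃ h₂₃' (dObj D) (σ.unit p₂ (dObj D) m) =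
      σ.trans p₂ q₁₃ q₃ h₁₃' (dObj D) ((σ.O.map p₁.op).hom s • σ.unit p₂ (dObj D) m)
    rw [σ.trans_smul, σ.trans_unit, σ.trans_unit, σ.O_map_comp p₁ q₁₃ _ h₁₃]
  · intro m
    change σ.δ D q₂ q₃ hq₂₃ (σ.trans p₂ q₁₂ q₂ h₁₂' (dObj D)
      (σ.δ D p₁ p₂ hp (σ.unit p₁ (dObj D) m))) =
      σ.trans p₂ q₁₃ q₃ h₁₃' (dObj D) (σ.δ D p₁ p₂ hp (σ.unit p₁ (dObj D) m))
    rw [← σ.δ_unit D q₁₂ p₁ p₂ hp q₁ q₂ h₁₂ h₁₂' hq₁₂,
      ← σ.δ_unit D q₁₃ p₁ p₂ hp q₁ q₃ h₁₃ h₁₃' (hq₁₂.trans hq₂₃), σ.δ_comp]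

end

end SecData

end Groth.Agent.Desc.SecD
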