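import Groth.Agent.Desc.SecData2

/-!
# Effectivity of descent data for pseudofunctors with sections, II
-/

set_option autoImplicit false
set_option backward.isDefEq.respectTransparency false
set_option backward.isDefEq.respectTransparency.types false
open CategoryTheory Opposite Bicategory TensorProduct
universe w t v' v u' u

namespace Groth.Agent.Desc.SecD

open Pseudofunctor

theorem IsBC.bijective_of_comm {R A M P N Q : Type*} [CommRing R] [CommRing A]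
    [AddCommGroup M] [AddCommGroup P] [AddCommGroup N] [AddCommGroup Q]
    {φ : R →+* A} {iM : Module R M} {iP : Module A P} {iN : Module R N} {iQ : Module A Q}
    {u : M →+ P} {v : N →+ Q}
    (hu : IsBC φ iM iP u) (hv : IsBC φ iN iQ v) (e : M ≃ₗ[R] N) (ψ : P →ₗ[A] Q)
    (h : ∀ m, ψ (u m) = v (e m)) : Function.Bijective ψ := by
  let _ : Algebra R A := φ.toAlgebra
  obtain ⟨hus, hub⟩ := hu
  obtain ⟨hvs, hvb⟩ := hv
  have key : ψ ∘ VarietyB.BCAlg.bc (⟨⟨u, map_add u⟩, hus⟩ : M →ₛₗ[algebraMap R A] P) =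
      VarietyB.BCAlg.bc (⟨⟨v, map_add v⟩, hvs⟩ : N →ₛₗ[algebraMap R A] Q) ∘
        e.toLinearMap.lTensor A := by
    funext x
    exact VarietyB.BCAlg.bc_comm _ _ _ _ h x
  have h2 : Function.Bijective (e.toLinearMap.lTensor A) := (e.lTensor A).bijective
  have h3 := hvb.comp h2
  rw [← key] at h3
  exact (Function.Bijective.of_comp_iff _ hub).1 h3

theorem IsBC.comp_equiv {R A M P N : Type*} [CommRing R] [CommRing A]
    [AddCommGroup M] [AddCommGroup P] [AddCommGroup N]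
    {φ : R →+* A} {iM : Module R M} {iP : Module A P} {iN : Module R N}
    {u : M →+ P} (hu : IsBC φ iM iP u) (e : N ≃ₗ[R] M) :
    IsBC φ iN iP (u.comp e.toLinearMap.toAddMonoidHom) := by
  let _ : Algebra R A := φ.toAlgebra
  obtain ⟨hus, hub⟩ := hu
  have hvs : ∀ (r : R) (m : N), u.comp e.toLinearMap.toAddMonoidHom (r • m) =
      φ r • u.comp e.toLinearMap.toAddMonoidHom m := by
    intro r m
    change u (e (r • m)) = φ r • u (e m)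
    rw [map_smul, hus]
  refine ⟨hvs, ?_⟩
  have key : VarietyB.BCAlg.bc (⟨⟨_, map_add _⟩, hvs⟩ : N →ₛₗ[algebraMap R A] P) =
      VarietyB.BCAlg.bc (⟨⟨u, map_add u⟩, hus⟩ : M →ₛₗ[algebraMap R A] P) ∘
        e.toLinearMap.lTensor A := by
    funext x
    exact VarietyB.BCAlg.bc_comm (⟨⟨_, map_add _⟩, hvs⟩ : N →ₛₗ[algebraMap R A] P)
      (⟨⟨u, map_add u⟩, hus⟩ : M →ₛₗ[algebraMap R A] P) e.toLinearMap LinearMap.id
      (fun _ => rfl) x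
  rw [key]
  exact hub.comp (e.lTensor A).bijective

variable {C : Type u} [Category.{v} C] {F : Pseudofunctor (LocallyDiscrete Cᵒᵖ) Cat.{v', u'}}
  (σ : SecData.{w} F)

namespace SecData

/-- `G ∈ F(S)` is "free on its sections", relative to `f : X ⟶ S`. -/
structure Free {X S : C} (f : X ⟶ S) (G : F.obj (.mk (op S))) : Prop where
  ext : ∀ {T : C} (h : T ⟶ S) (E : F.obj (.mk (op T)))
    (ψ₁ ψ₂ : (F.map h.op.toLoc).toFunctor.obj G ⟶ E),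
    (∀ g, ((σ.Γ T).map ψ₁).hom (σ.unit h G g) = ((σ.Γ T).map ψ₂).hom (σ.unit h G g)) → ψ₁ = ψ₂
  ex : ∀ (E : F.obj (.mk (op X))) (s : (σ.Γ S).obj G →+ (σ.Γ X).obj E),
    (∀ (r : σ.O.obj (op S)) (g : (σ.Γ S).obj G), s (r • g) = (σ.O.map f.op).hom r • s g) →
    ∃ ψ : (F.map f.op.toLoc).toFunctor.obj G ⟶ E,
      ∀ g, ((σ.Γ X).map ψ).hom (σ.unit f G g) = s g
  bc : IsBC (σ.O.map f.op).hom inferInstance inferInstance (σ.unit f G)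

section

variable {X S Y Z : C} {f : X ⟶ S} (D : F.DescentData (fun _ : PUnit.{t + 1} => f))

theorem exists_iso_of_free (p₁ p₂ : Y ⟶ X) (hp : p₁ ≫ f = p₂ ≫ f)
    (hY : ∀ {T : C} (f₁ f₂ : T ⟶ X), f₁ ≫ f = f₂ ≫ f → ∃ l : T ⟶ Y, l ≫ p₁ = f₁ ∧ l ≫ p₂ = f₂)
    (G : F.obj (.mk (op S))) (hG : σ.Free f G)
    (s : (σ.Γ S).obj G →+ (σ.Γ X).obj (dObj D))
    (hs : IsBC (σ.O.map f.op).hom inferInstance inferInstance s)
    (hs' : ∀ g, σ.δ D p₁ p₂ hp (σ.unit p₁ _ (s g)) = σ.unit p₂ _ (s g))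
    (hiso : ∀ ψ : (F.map f.op.toLoc).toFunctor.obj G ⟶ dObj D,
      Function.Bijective ((σ.Γ X).map ψ).hom → IsIso ψ) :
    Nonempty ((F.toDescentData (fun _ : PUnit.{t + 1} => f)).obj G ≅ D) := by
  obtain ⟨ψ, hψ⟩ := hG.ex (dObj D) s hs.choose
  have hbij : Function.Bijective ((σ.Γ X).map ψ).hom :=
    hG.bc.bijective_of_comm hs (LinearEquiv.refl _ _) _ (fun m => hψ m)
  have hψiso : IsIso ψ := hiso ψ hbij
  -- compatibility on sections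
  have hδ : ∀ {T : C} (f₁ f₂ : T ⟶ X) (h : f₁ ≫ f = f₂ ≫ f) (g : (σ.Γ S).obj G),
      σ.δ D f₁ f₂ h (σ.unit f₁ _ (s g)) = σ.unit f₂ _ (s g) := by
    intro T f₁ f₂ h g
    obtain ⟨l, hl₁, hl₂⟩ := hY f₁ f₂ h
    rw [σ.δ_unit D l p₁ p₂ hp f₁ f₂ hl₁ hl₂, hs', σ.trans_unit]
  refine ⟨DescentData.isoMk (fun _ => asIso ψ) ?_⟩
  intro T q i₁ i₂ f₁ f₂ hf₁ hf₂
  obtain rfl : i₁ = PUnit.unit := rfl
  obtain rfl : i₂ = PUnit.unit := rfl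
  change (F.map f₁.op.toLoc).toFunctor.map ψ ≫ D.hom q f₁ f₂ hf₁ hf₂ =
    (cInv f f₁ q hf₁ G ≫ cHom f f₂ q hf₂ G) ≫ (F.map f₂.op.toLoc).toFunctor.map ψ
  rw [dHom_eq]
  have hc : IsIso (cHom f f₁ q hf₁ G) := ⟨cInv f f₁ q hf₁ G, cHom_cInv _ _ _ _ _, cInv_cHom _ _ _ _ _⟩
  rw [← cancel_epi (cHom f f₁ q hf₁ G)]
  apply hG.ext q
  intro g
  have e : cHom f f₁ q hf₁ G ≫ (cInv f f₁ q hf₁ G ≫ cHom f f₂ q hf₂ G) ≫
      (F.map f₂.op.toLoc).toFunctor.map ψ =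
      cHom f f₂ q hf₂ G ≫ (F.map f₂.op.toLoc).toFunctor.map ψ := by
    rw [Category.assoc, ← Category.assoc, cHom_cInv, Category.id_comp]
  rw [e]
  simp only [Functor.map_comp, ModuleCat.hom_comp, LinearMap.comp_apply]
  rw [σ.cHom_unit, σ.cHom_unit, σ.map_unit, σ.map_unit, hψ]
  exact hδ f₁ f₂ (hf₁.trans hf₂.symm) g

/-- **Effectivity of descent of modules**, abstract form. -/
theorem effective (p₁ p₂ : Y ⟶ X) (hp : p₁ ≫ f = p₂ ≫ f)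
    (hY : ∀ {T : C} (f₁ f₂ : T ⟶ X), f₁ ≫ f = f₂ ≫ f → ∃ l : T ⟶ Y, l ≫ p₁ = f₁ ∧ l ≫ p₂ = f₂)
    (q₁ q₂ q₃ : Z ⟶ X)
    (q₂₃ : Z ⟶ Y) (h₂₃ : q₂₃ ≫ p₁ = q₂) (h₂₃' : q₂₃ ≫ p₂ = q₃)
    (q₁₂ : Z ⟶ Y) (h₁₂ : q₁₂ ≫ p₁ = q₁) (h₁₂' : q₁₂ ≫ p₂ = q₂)
    (q₁₃ : Z ⟶ Y) (h₁₃ : q₁₃ ≫ p₁ = q₁) (h₁₃' : q₁₃ ≫ p₂ = q₃)
    (hflat : (σ.O.map f.op).hom.Flat)
    (hbc : IsBC (σ.O.map f.op).hom (Module.compHom _ (σ.O.map f.op).hom)
      (Module.compHom _ (σ.O.map p₁.op).hom) (σ.unit p₂ (dObj D)))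
    (hu : Function.Injective (σ.unit (𝟙 X) (dObj D)))
    (hbc₃ : IsBC (σ.O.map f.op).hom
      (Module.compHom _ ((σ.O.map p₁.op).hom.comp (σ.O.map f.op).hom))
      (Module.compHom _ (σ.O.map q₁.op).hom) (σ.trans p₂ q₂₃ q₃ h₂₃' (dObj D)))
    (hfree : ∀ N : ModuleCat.{w} (σ.O.obj (op S)), ∃ G : F.obj (.mk (op S)), σ.Free f G ∧
      Nonempty ((σ.Γ S).obj G ≅ N))
    (hiso : ∀ (G : F.obj (.mk (op S))), σ.Free f G →
      ∀ ψ : (F.map f.op.toLoc).toFunctor.obj G ⟶ dObj D,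
      Function.Bijective ((σ.Γ X).map ψ).hom → IsIso ψ) :
    ∃ G : F.obj (.mk (op S)), σ.Free f G ∧
      Nonempty ((F.toDescentData (fun _ : PUnit.{t + 1} => f)).obj G ≅ D) := by
  obtain ⟨Δ, hΔ₁, hΔ₂⟩ := hY (𝟙 X) (𝟙 X) rfl
  obtain ⟨N, iN, hN, hmem, hNbc⟩ := σ.exists_sub D p₁ p₂ hp Δ hΔ₁ hΔ₂ q₁ q₂ q₃ q₂₃ h₂₃ h₂₃' q₁₂ h₁₂
    h₁₂' q₁₃ h₁₃ h₁₃' hflat hbc hu hbc₃
  obtain ⟨G, hG, ⟨e⟩⟩ := hfree (ModuleCat.of _ N)
  have hb : Function.Bijective e.hom.hom := ConcreteCategory.bijective_of_isIso e.hom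
  let e' : (σ.Γ S).obj G ≃ₗ[σ.O.obj (op S)] N := LinearEquiv.ofBijective e.hom.hom hb
  refine ⟨G, hG, σ.exists_iso_of_free D p₁ p₂ hp hY G hG
    (N.subtype.comp e'.toLinearMap.toAddMonoidHom) ?_ ?_ (hiso G hG)⟩
  · exact hNbc.comp_equiv e'
  · intro g
    exact (hmem _).1 (e' g).2

end

end SecData

end Groth.Agent.Desc.SecD
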