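import Groth.Agent.Desc.SecData3

/-!
# Effectivity of descent data for pseudofunctors with sections, III: form with pushout squares of rings
-/

set_option autoImplicit false
set_option backward.isDefEq.respectTransparency false
set_option backward.isDefEq.respectTransparency.types false
open CategoryTheory Opposite Bicategory TensorProduct
universe w t v' v u' u

namespace Groth.Agent.Desc.SecD

open Pseudofunctor

/-- change of base ring of a base change map in a pushout square of rings -/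
theorem IsBC.of_isPushout {R R' A C : CommRingCat.{w}} {φ : R ⟶ R'} {φ' : R ⟶ A} {ι₁ : R' ⟶ C}
    {ι₂ : A ⟶ C} (hsq : IsPushout φ φ' ι₁ ι₂) {M N : Type*} [AddCommGroup M] [AddCommGroup N]
    {iM : Module A M} {iN : Module C N} {u : M →+ N} (hu : IsBC ι₂.hom iM iN u) :
    IsBC φ.hom (Module.compHom M φ'.hom) (Module.compHom N ι₁.hom) u := by
  let _ : Algebra R R' := φ.hom.toAlgebra
  let _ : Algebra R A := φ'.hom.toAlgebra
  let _ : Algebra R' C := ι₁.hom.toAlgebra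
  let _ : Algebra A C := ι₂.hom.toAlgebra
  let _ : Algebra R C := (ι₂.hom.comp φ'.hom).toAlgebra
  have _ : IsScalarTower R A C := .of_algebraMap_eq' rfl
  have hw : ι₂.hom.comp φ'.hom = ι₁.hom.comp φ.hom := by
    rw [← CommRingCat.hom_comp, ← CommRingCat.hom_comp, hsq.w]
  have _ : IsScalarTower R R' C := .of_algebraMap_eq' hw
  have _ : Algebra.IsPushout R R' A C := CommRingCat.isPushout_iff_isPushout.1 hsq
  let _ : Module R M := Module.compHom M φ'.hom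
  let _ : Module R' N := Module.compHom N ι₁.hom
  have _ : IsScalarTower R A M := ⟨fun r a m => by
    change (φ'.hom r * a) • m = φ'.hom r • (a • m)
    rw [mul_smul]⟩
  have _ : IsScalarTower R' C N := ⟨fun r a m => by
    change (ι₁.hom r * a) • m = ι₁.hom r • (a • m)
    rw [mul_smul]⟩
  obtain ⟨hus, hub⟩ := hu
  have hs : ∀ (r : R) (m : M), u (r • m) = φ.hom r • u m := by
    intro r m
    change u (φ'.hom r • m) = ι₁.hom (φ.hom r) • u m
    rw [hus]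
    change ι₂.hom.comp φ'.hom r • u m = _
    rw [hw]
    rfl
  exact ⟨hs, VarietyB.BCAlg.bc_bijective_of_isPushout (R := R) (R' := R') (A := A) (C := C)
    (⟨⟨u, map_add u⟩, hs⟩ : M →ₛₗ[algebraMap R R'] N)
    (⟨⟨u, map_add u⟩, hus⟩ : M →ₛₗ[algebraMap A C] N) (fun _ => rfl) hub⟩

theorem IsBC.equiv_comp {R A M P P' : Type*} [CommRing R] [CommRing A]
    [AddCommGroup M] [AddCommGroup P] [AddCommGroup P']
    {φ : R →+* A} {iM : Module R M} {iP : Module A P} {iP' : Module A P'}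
    {u : M →+ P} (hu : IsBC φ iM iP u) (e : P ≃ₗ[A] P') :
    IsBC φ iM iP' (e.toLinearMap.toAddMonoidHom.comp u) := by
  let _ : Algebra R A := φ.toAlgebra
  obtain ⟨hus, hub⟩ := hu
  have hvs : ∀ (r : R) (m : M), e.toLinearMap.toAddMonoidHom.comp u (r • m) =
      φ r • e.toLinearMap.toAddMonoidHom.comp u m := by
    intro r m
    change e (u (r • m)) = φ r • e (u m)
    rw [hus, map_smul]
  refine ⟨hvs, ?_⟩
  have key : (VarietyB.BCAlg.bc (⟨⟨_, map_add _⟩, hvs⟩ : M →ₛₗ[algebraMap R A] P') : _ → _) =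
      e ∘ VarietyB.BCAlg.bc (⟨⟨u, map_add u⟩, hus⟩ : M →ₛₗ[algebraMap R A] P) := by
    funext x
    have h := VarietyB.BCAlg.bc_comm
      (⟨⟨u, map_add u⟩, hus⟩ : M →ₛₗ[algebraMap R A] P)
      (⟨⟨_, map_add _⟩, hvs⟩ : M →ₛₗ[algebraMap R A] P') LinearMap.id e.toLinearMap
      (fun _ => rfl) x
    rw [LinearMap.lTensor_id, LinearMap.id_apply] at h
    exact h.symm
  rw [key]
  exact e.bijective.comp hub

theorem IsBC.injective_of_id {R M P : Type*} [CommRing R]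
    [AddCommGroup M] [AddCommGroup P]
    {φ : R →+* R} (hφ : φ = RingHom.id R) {iM : Module R M} {iP : Module R P}
    {u : M →+ P} (hu : IsBC φ iM iP u) : Function.Injective u := by
  subst hφ
  obtain ⟨hus, hub⟩ := hu
  intro x y hxy
  have h1 : VarietyB.BCAlg.bc (R := R) (R' := R)
      (⟨⟨u, map_add u⟩, hus⟩ : M →ₛₗ[algebraMap R R] P) (1 ⊗ₜ[R] x) =
      VarietyB.BCAlg.bc (R := R) (R' := R)
      (⟨⟨u, map_add u⟩, hus⟩ : M →ₛₗ[algebraMap R R] P) (1 ⊗ₜ[R] y) := by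
    rw [VarietyB.BCAlg.bc_tmul, VarietyB.BCAlg.bc_tmul]
    exact congrArg (fun z => (1 : R) • z) hxy
  have h2 := hub.1 h1
  have h3 := congrArg (TensorProduct.lid R M) h2
  rwa [TensorProduct.lid_tmul, TensorProduct.lid_tmul, one_smul, one_smul] at h3

variable {C : Type u} [Category.{v} C] {F : Pseudofunctor (LocallyDiscrete Cᵒᵖ) Cat.{v', u'}}
  (σ : SecData.{w} F)

namespace SecData

section

variable {X S Y Z : C} {f : X ⟶ S} (D : F.DescentData (fun _ : PUnit.{t + 1} => f))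

theorem isBC_trans {U V W : C} (a : V ⟶ U) (b : W ⟶ V) (c : W ⟶ U) (h : b ≫ a = c)
    (M : F.obj (.mk (op U)))
    (hb : IsBC (σ.O.map b.op).hom inferInstance inferInstance
      (σ.unit b ((F.map a.op.toLoc).toFunctor.obj M))) :
    IsBC (σ.O.map b.op).hom inferInstance inferInstance (σ.trans a b c h M) := by
  let i : (σ.Γ W).obj ((F.map b.op.toLoc).toFunctor.obj ((F.map a.op.toLoc).toFunctor.obj M)) ≅
      (σ.Γ W).obj ((F.map c.op.toLoc).toFunctor.obj M) :=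
    (σ.Γ W).mapIso ⟨cInv a b c h M, cHom a b c h M, cInv_cHom _ _ _ _ _, cHom_cInv _ _ _ _ _⟩
  exact hb.equiv_comp i.toLinearEquiv

/-- **Effectivity of descent of modules**, abstract form, with pushout squares of rings. -/
theorem effective_of_isPushout (p₁ p₂ : Y ⟶ X) (hp : p₁ ≫ f = p₂ ≫ f)
    (hY : ∀ {T : C} (f₁ f₂ : T ⟶ X), f₁ ≫ f = f₂ ≫ f → ∃ l : T ⟶ Y, l ≫ p₁ = f₁ ∧ l ≫ p₂ = f₂)
    (q₁ : Z ⟶ X) (q₂₃ : Z ⟶ Y) (hq : q₁ ≫ f = q₂₃ ≫ p₁ ≫ f)
    (hflat : (σ.O.map f.op).hom.Flat)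
    (hOY : IsPushout (σ.O.map f.op) (σ.O.map f.op) (σ.O.map p₁.op) (σ.O.map p₂.op))
    (hOZ : IsPushout (σ.O.map f.op) (σ.O.map (p₁ ≫ f).op) (σ.O.map q₁.op) (σ.O.map q₂₃.op))
    (hbc : IsBC (σ.O.map p₂.op).hom inferInstance inferInstance (σ.unit p₂ (dObj D)))
    (hu : Function.Injective (σ.unit (𝟙 X) (dObj D)))
    (hbc₃ : IsBC (σ.O.map q₂₃.op).hom inferInstance inferInstance
      (σ.unit q₂₃ ((F.map p₂.op.toLoc).toFunctor.obj (dObj D))))
    (hfree : ∀ N : ModuleCat.{w} (σ.O.obj (op S)), ∃ G : F.obj (.mk (op S)), σ.Free f G ∧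
      Nonempty ((σ.Γ S).obj G ≅ N))
    (hiso : ∀ (G : F.obj (.mk (op S))), σ.Free f G →
      ∀ ψ : (F.map f.op.toLoc).toFunctor.obj G ⟶ dObj D,
      Function.Bijective ((σ.Γ X).map ψ).hom → IsIso ψ) :
    ∃ G : F.obj (.mk (op S)), σ.Free f G ∧
      Nonempty ((F.toDescentData (fun _ : PUnit.{t + 1} => f)).obj G ≅ D) := by
  have hq₁₂ : q₁ ≫ f = (q₂₃ ≫ p₁) ≫ f := by rw [hq, Category.assoc]
  have hq₁₃ : q₁ ≫ f = (q₂₃ ≫ p₂) ≫ f := by rw [hq, Category.assoc, hp]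
  obtain ⟨q₁₂, h₁₂, h₁₂'⟩ := hY q₁ (q₂₃ ≫ p₁) hq₁₂
  obtain ⟨q₁₃, h₁₃, h₁₃'⟩ := hY q₁ (q₂₃ ≫ p₂) hq₁₃
  refine σ.effective D p₁ p₂ hp hY q₁ (q₂₃ ≫ p₁) (q₂₃ ≫ p₂) q₂₃ rfl rfl q₁₂ h₁₂ h₁₂' q₁₃ h₁₃ h₁₃'
    hflat (hbc.of_isPushout hOY) hu ?_ hfree hiso
  have h1 := (σ.isBC_trans p₂ q₂₃ _ rfl (dObj D) hbc₃).of_isPushout hOZ
  have e : (σ.O.map (p₁ ≫ f).op).hom = (σ.O.map p₁.op).hom.comp (σ.O.map f.op).hom := by
    rw [op_comp, Functor.map_comp, CommRingCat.hom_comp]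
  rw [e] at h1
  exact h1

end

end SecData

end Groth.Agent.Desc.SecD
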