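import Groth.Agent.Desc.SecData4
import Groth.Agent.Desc.RingModSec

/-!
# Effectivity of descent data for pseudofunctors with sections: general version

Same as `SecData2`-`SecData4`, but flatness is replaced by the hypothesis `CoactEff φ` that every counital
coassociative coaction is induced from its coinvariants.
-/

set_option autoImplicit false
set_option backward.isDefEq.respectTransparency false
set_option backward.isDefEq.respectTransparency.types false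
open CategoryTheory Opposite Bicategory TensorProduct
universe w t v' v u' u

namespace Groth.Agent.Desc.SecD

open Pseudofunctor Groth.Agent.Desc.CoactDescent

/-- Every counital coassociative coaction `M → A ⊗[R] M` is induced from its coinvariants. -/
def CoactEff {R A : Type*} [CommRing R] [CommRing A] (φ : R →+* A) : Prop :=
  letI : Algebra R A := φ.toAlgebra
  ∀ (M : Type w) [AddCommGroup M] [Module R M] [Module A M] [IsScalarTower R A M]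
    (a : M →ₗ[A] A ⊗[R] M), (∀ m, mulMap R A M (a m) = m) →
    (∀ m, LinearMap.lTensor A (a.restrictScalars R) (a m) =
      LinearMap.lTensor A (TensorProduct.mk R A M 1) (a m)) → Function.Bijective (ofCoinv a)

theorem CoactEff.of_flat {R A : Type*} [CommRing R] [CommRing A] {φ : R →+* A} (h : φ.Flat) :
    CoactEff.{w} φ := by
  let _ : Algebra R A := φ.toAlgebra
  intro M _ _ _ _ a h1 h2
  have : Module.Flat R A := h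
  exact ofCoinv_bijective a h1 h2

/-- Sub-datum: the purely algebraic statement behind effectivity of descent for modules. -/
theorem exists_sub_alg_of {R A B : Type*} {M : Type w} {P E Q Q' : Type*} [CommRing R] [CommRing A] [CommRing B]
    [AddCommGroup M] [AddCommGroup P] [AddCommGroup E] [AddCommGroup Q] [AddCommGroup Q']
    {φ : R →+* A} (hφ : CoactEff.{w} φ) (iM : Module A M) (iP : Module B P)
    {ψ : A →+* B} {iQ : Module A Q}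
    (δu : M →+ P) (hδu : ∀ (a : A) m, δu (a • m) = ψ a • δu m)
    (u₂ : M →+ P) (hu₂ : IsBC φ (Module.compHom M φ) (Module.compHom P ψ) u₂)
    (t : P →+ E) (u : M →+ E) (hu : Function.Injective u)
    (ht : ∀ s m, t (ψ s • u₂ m) = u (s • m)) (ht' : ∀ m, t (δu m) = u m)
    (t₂₃ : P →+ Q) (ht₂₃ : IsBC φ (Module.compHom P (ψ.comp φ)) iQ t₂₃)
    (t₁₂ : P →+ Q') (δ₂₃ : Q' →+ Q) (t₁₃ : P →+ Q)
    (h1 : ∀ s m, s • t₂₃ (δu m) = δ₂₃ (t₁₂ (ψ s • u₂ m)))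
    (h2 : ∀ s m, s • t₂₃ (u₂ m) = t₁₃ (ψ s • u₂ m))
    (h3 : ∀ m, δ₂₃ (t₁₂ (δu m)) = t₁₃ (δu m)) :
    ∃ (N : AddSubgroup M) (iN : Module R N),
      (∀ (r : R) (n : N), ((r • n : N) : M) = φ r • (n : M)) ∧
      (∀ m, m ∈ N ↔ δu m = u₂ m) ∧ IsBC φ iN iM N.subtype := by
  let _ : Algebra R A := φ.toAlgebra
  let _ : Module R M := Module.compHom M φ
  let _ : Module A P := Module.compHom P ψ
  let _ : Module R P := Module.compHom P (ψ.comp φ)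
  have : IsScalarTower R A M :=
    ⟨fun r a m => by
      change (φ r * a) • m = φ r • (a • m)
      rw [mul_smul]⟩
  have : IsScalarTower R A P :=
    ⟨fun r a m => by
      change (ψ (φ r * a)) • m = ψ (φ r) • (ψ a • m)
      rw [map_mul, mul_smul]⟩
  obtain ⟨hu₂s, hu₂b⟩ := hu₂
  obtain ⟨ht₂₃s, ht₂₃b⟩ := ht₂₃
  let d : CoactData R A M P E Q Q' :=
    { κ₂ := VarietyB.BCAlg.bc (⟨⟨u₂, map_add u₂⟩, hu₂s⟩ : M →ₛₗ[algebraMap R A] P)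
      κ₂_bij := hu₂b
      δu := { δu with map_smul' := hδu }
      t := t
      u := u
      u_inj := hu
      t_κ₂ := fun s m => ht s m
      t_δu := ht'
      κ₃ := (VarietyB.BCAlg.bc (⟨⟨t₂₃, map_add t₂₃⟩, ht₂₃s⟩ :
        P →ₛₗ[algebraMap R A] Q)).toAddMonoidHom
      κ₃_inj := ht₂₃b.1
      t₁₂ := t₁₂
      δ₂₃ := δ₂₃
      t₁₃ := t₁₃
      κ₃_δu := fun s m => h1 s m
      κ₃_κ₂ := fun s m => by
        have e := h2 s m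
        have e2 : VarietyB.BCAlg.bc (⟨⟨u₂, map_add u₂⟩, hu₂s⟩ : M →ₛₗ[algebraMap R A] P)
            (1 ⊗ₜ[R] m) = u₂ m := by
          rw [VarietyB.BCAlg.bc_tmul, one_smul]
          rfl
        rw [e2]
        exact e
      cocycle := h3 }
  have hd : Function.Bijective (ofCoinv d.a) := hφ M d.a d.counit d.coassoc
  have hmem : ∀ m, m ∈ coinv d.a ↔ δu m = u₂ m := by
    intro m
    rw [d.mem_coinv_iff]
    change δu m = VarietyB.BCAlg.bc (⟨⟨u₂, map_add u₂⟩, hu₂s⟩ : M →ₛₗ[algebraMap R A] P)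
            (1 ⊗ₜ[R] m) ↔ _
    rw [VarietyB.BCAlg.bc_tmul, one_smul]
    rfl
  refine ⟨(coinv d.a).toAddSubgroup, inferInstanceAs (Module R (coinv d.a)), fun _ _ => rfl,
    hmem, fun _ _ => rfl, ?_⟩
  have e3 : VarietyB.BCAlg.bc (⟨⟨(coinv d.a).toAddSubgroup.subtype, map_add _⟩, fun _ _ => rfl⟩ :
      (coinv d.a) →ₛₗ[algebraMap R A] M) = ofCoinv d.a := by
    ext m
    rfl
  change Function.Bijective (VarietyB.BCAlg.bc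
    (⟨⟨(coinv d.a).toAddSubgroup.subtype, map_add _⟩, fun _ _ => rfl⟩ :
      (coinv d.a) →ₛₗ[algebraMap R A] M))
  rw [e3]
  exact hd

variable {C : Type u} [Category.{v} C] {F : Pseudofunctor (LocallyDiscrete Cᵒᵖ) Cat.{v', u'}}
  (σ : SecData.{w} F)

namespace SecData

section

variable {X S Y Z : C} {f : X ⟶ S} (D : F.DescentData (fun _ : PUnit.{t + 1} => f))

/-- The elements `m` with `δ (p₁^* m) = p₂^* m` generate, after base change, the module of sections of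
a descent datum. -/
theorem exists_sub_of (p₁ p₂ : Y ⟶ X) (hp : p₁ ≫ f = p₂ ≫ f)
    (Δ : X ⟶ Y) (hΔ₁ : Δ ≫ p₁ = 𝟙 X) (hΔ₂ : Δ ≫ p₂ = 𝟙 X)
    (q₁ q₂ q₃ : Z ⟶ X)
    (q₂₃ : Z ⟶ Y) (h₂₃ : q₂₃ ≫ p₁ = q₂) (h₂₃' : q₂₃ ≫ p₂ = q₃)
    (q₁₂ : Z ⟶ Y) (h₁₂ : q₁₂ ≫ p₁ = q₁) (h₁₂' : q₁₂ ≫ p₂ = q₂)
    (q₁₃ : Z ⟶ Y) (h₁₃ : q₁₃ ≫ p₁ = q₁) (h₁₃' : q₁₃ ≫ p₂ = q₃)
    (hflat : CoactEff.{w} (σ.O.map f.op).hom)
    (hbc : IsBC (σ.O.map f.op).hom (Module.compHom _ (σ.O.map f.op).hom)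
      (Module.compHom _ (σ.O.map p₁.op).hom) (σ.unit p₂ (dObj D)))
    (hu : Function.Injective (σ.unit (𝟙 X) (dObj D)))
    (hbc₃ : IsBC (σ.O.map f.op).hom
      (Module.compHom _ ((σ.O.map p₁.op).hom.comp (σ.O.map f.op).hom))
      (Module.compHom _ (σ.O.map q₁.op).hom) (σ.trans p₂ q₂₃ q₃ h₂₃' (dObj D))) :
    ∃ (N : AddSubgroup ((σ.Γ X).obj (dObj D))) (iN : Module (σ.O.obj (op S)) N),
      (∀ (r : σ.O.obj (op S)) (n : N), ((r • n : N) : (σ.Γ X).obj (dObj D)) =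
        (σ.O.map f.op).hom r • (n : (σ.Γ X).obj (dObj D))) ∧
      (∀ m, m ∈ N ↔ σ.δ D p₁ p₂ hp (σ.unit p₁ _ m) = σ.unit p₂ _ m) ∧
      IsBC (σ.O.map f.op).hom iN inferInstance N.subtype := by
  have hq₁₂ : q₁ ≫ f = q₂ ≫ f := by
    rw [← h₁₂, ← h₁₂', Category.assoc, Category.assoc, hp]
  have hq₂₃ : q₂ ≫ f = q₃ ≫ f := by
    rw [← h₂₃, ← h₂₃', Category.assoc, Category.assoc, hp]
  refine exists_sub_alg_of (E := (σ.Γ X).obj ((F.map (𝟙 X : X ⟶ X).op.toLoc).toFunctor.obj (dObj D)))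
    (Q := (σ.Γ Z).obj ((F.map q₃.op.toLoc).toFunctor.obj (dObj D)))
    (Q' := (σ.Γ Z).obj ((F.map q₂.op.toLoc).toFunctor.obj (dObj D)))
    hflat inferInstance (iP := inferInstance) (ψ := (σ.O.map p₁.op).hom)
    (iQ := Module.compHom _ (σ.O.map q₁.op).hom)
    ((σ.δ D p₁ p₂ hp).toAddMonoidHom.comp (σ.unit p₁ (dObj D))) ?_
    (σ.unit p₂ (dObj D)) hbc (σ.trans p₂ Δ (𝟙 X) hΔ₂ (dObj D)) (σ.unit (𝟙 X) (dObj D)) hu
    ?_ ?_ (σ.trans p₂ q₂₃ q₃ h₂₃' (dObj D)) hbc₃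
    (σ.trans p₂ q₁₂ q₂ h₁₂' (dObj D)) (σ.δ D q₂ q₃ hq₂₃).toAddMonoidHom
    (σ.trans p₂ q₁₃ q₃ h₁₃' (dObj D)) ?_ ?_ ?_
  · intro a m
    change σ.δ D p₁ p₂ hp (σ.unit p₁ (dObj D) (a • m)) =
      (σ.O.map p₁.op).hom a • σ.δ D p₁ p₂ hp (σ.unit p₁ (dObj D) m)
    rw [σ.unit_smul, map_smul]
  · intro s m
    rw [σ.trans_smul, σ.trans_unit, σ.unit_smul, σ.O_map_comp p₁ Δ _ hΔ₁]
  · intro m
    change σ.trans p₂ Δ (𝟙 X) hΔ₂ (dObj D) (σ.δ D p₁ p₂ hp (σ.unit p₁ (dObj D) m)) = _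
    rw [← σ.δ_unit D Δ p₁ p₂ hp (𝟙 X) (𝟙 X) hΔ₁ hΔ₂ rfl, σ.δ_self]
  · intro s m
    change (σ.O.map q₁.op).hom s • σ.trans p₂ q₂₃ q₃ h₂₃' (dObj D)
      (σ.δ D p₁ p₂ hp (σ.unit p₁ (dObj D) m)) = σ.δ D q₂ q₃ hq₂₃ (σ.trans p₂ q₁₂ q₂ h₁₂' (dObj D)
      ((σ.O.map p₁.op).hom s • σ.unit p₂ (dObj D) m))
    rw [← σ.δ_unit D q₂₃ p₁ p₂ hp q₂ q₃ h₂₃ h₂₃' hq₂₃, σ.trans_smul, σ.trans_unit,
      σ.O_map_comp p₁ q₁₂ _ h₁₂, map_smul]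
  · intro s m
    change (σ.O.map q₁.op).hom s • σ.trans p₂ q₂₃ q₃ h₂₃' (dObj D) (σ.unit p₂ (dObj D) m) =
      σ.trans p₂ q₁₃ q₃ h₁₃' (dObj D) ((σ.O.map p₁.op).hom s • σ.unit p₂ (dObj D) m)
    rw [σ.trans_smul, σ.trans_unit, σ.trans_unit, σ.O_map_comp p₁ q₁₃ _ h₁₃]
  · intro m
    change σ.δ D q₂ q₃ hq₂₃ (σ.trans p₂ q₁₂ q₂ h₁₂' (dObj D)
      (σ.δ D p₁ p₂ hp (σ.unit p₁ (dObj D) m))) =
      σ.trans p₂ q₁₃ q₃ h₁₃' (dObj D) (σ.δ D p₁ p₂ hp (σ.unit p₁ (dObj D) m))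
    rw [← σ.δ_unit D q₁₂ p₁ p₂ hp q₁ q₂ h₁₂ h₁₂' hq₁₂,
      ← σ.δ_unit D q₁₃ p₁ p₂ hp q₁ q₃ h₁₃ h₁₃' (hq₁₂.trans hq₂₃), σ.δ_comp]

/-- **Effectivity of descent of modules**, abstract form. -/
theorem effective_of (p₁ p₂ : Y ⟶ X) (hp : p₁ ≫ f = p₂ ≫ f)
    (hY : ∀ {T : C} (f₁ f₂ : T ⟶ X), f₁ ≫ f = f₂ ≫ f → ∃ l : T ⟶ Y, l ≫ p₁ = f₁ ∧ l ≫ p₂ = f₂)
    (q₁ q₂ q₃ : Z ⟶ X)
    (q₂₃ : Z ⟶ Y) (h₂₃ : q₂₃ ≫ p₁ = q₂) (h₂₃' : q₂₃ ≫ p₂ = q₃)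
    (q₁₂ : Z ⟶ Y) (h₁₂ : q₁₂ ≫ p₁ = q₁) (h₁₂' : q₁₂ ≫ p₂ = q₂)
    (q₁₃ : Z ⟶ Y) (h₁₃ : q₁₃ ≫ p₁ = q₁) (h₁₃' : q₁₃ ≫ p₂ = q₃)
    (hflat : CoactEff.{w} (σ.O.map f.op).hom)
    (hbc : IsBC (σ.O.map f.op).hom (Module.compHom _ (σ.O.map f.op).hom)
      (Module.compHom _ (σ.O.map p₁.op).hom) (σ.unit p₂ (dObj D)))
    (hu : Function.Injective (σ.unit (𝟙 X) (dObj D)))
    (hbc₃ : IsBC (σ.O.map f.op).hom
      (Module.compHom _ ((σ.O.map p₁.op).hom.comp (σ.O.map f.op).hom))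
      (Module.compHom _ (σ.O.map q₁.op).hom) (σ.trans p₂ q₂₃ q₃ h₂₃' (dObj D)))
    (hfree : ∀ N : ModuleCat.{w} (σ.O.obj (op S)), ∃ G : F.obj (.mk (op S)), σ.Free f G ∧
      Nonempty ((σ.Γ S).obj G ≅ N))
    (hiso : ∀ (G : F.obj (.mk (op S))), σ.Free f G →
      ∀ ψ : (F.map f.op.toLoc).toFunctor.obj G ⟶ dObj D,
      Function.Bijective ((σ.Γ X).map ψ).hom → IsIso ψ) :
    ∃ G : F.obj (.mk (op S)), σ.Free f G ∧
      Nonempty ((F.toDescentData (fun _ : PUnit.{t + 1} => f)).obj G ≅ D) := by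
  obtain ⟨Δ, hΔ₁, hΔ₂⟩ := hY (𝟙 X) (𝟙 X) rfl
  obtain ⟨N, iN, hN, hmem, hNbc⟩ := σ.exists_sub_of D p₁ p₂ hp Δ hΔ₁ hΔ₂ q₁ q₂ q₃ q₂₃ h₂₃ h₂₃' q₁₂ h₁₂
    h₁₂' q₁₃ h₁₃ h₁₃' hflat hbc hu hbc₃
  obtain ⟨G, hG, ⟨e⟩⟩ := hfree (ModuleCat.of _ N)
  have hb : Function.Bijective e.hom.hom := ConcreteCategory.bijective_of_isIso e.hom
  let e' : (σ.Γ S).obj G ≃ₗ[σ.O.obj (op S)] N := LinearEquiv.ofBijective e.hom.hom hb
  refine ⟨G, hG, σ.exists_iso_of_free D p₁ p₂ hp hY G hG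
    (N.subtype.comp e'.toLinearMap.toAddMonoidHom) ?_ ?_ (hiso G hG)⟩
  · exact hNbc.comp_equiv e'
  · intro g
    exact (hmem _).1 (e' g).2

/-- **Effectivity of descent of modules**, abstract form, with pushout squares of rings. -/
theorem effective_of_isPushout_of (p₁ p₂ : Y ⟶ X) (hp : p₁ ≫ f = p₂ ≫ f)
    (hY : ∀ {T : C} (f₁ f₂ : T ⟶ X), f₁ ≫ f = f₂ ≫ f → ∃ l : T ⟶ Y, l ≫ p₁ = f₁ ∧ l ≫ p₂ = f₂)
    (q₁ : Z ⟶ X) (q₂₃ : Z ⟶ Y) (hq : q₁ ≫ f = q₂₃ ≫ p₁ ≫ f)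
    (hflat : CoactEff.{w} (σ.O.map f.op).hom)
    (hOY : IsPushout (σ.O.map f.op) (σ.O.map f.op) (σ.O.map p₁.op) (σ.O.map p₂.op))
    (hOZ : IsPushout (σ.O.map f.op) (σ.O.map (p₁ ≫ f).op) (σ.O.map q₁.op) (σ.O.map q₂₃.op))
    (hbc : IsBC (σ.O.map p₂.op).hom inferInstance inferInstance (σ.unit p₂ (dObj D)))
    (hu : Function.Injective (σ.unit (𝟙 X) (dObj D)))
    (hbc₃ : IsBC (σ.O.map q₂₃.op).hom inferInstance inferInstance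
      (σ.unit q₂₃ ((F.map p₂.op.toLoc).toFunctor.obj (dObj D))))
    (hfree : ∀ N : ModuleCat.{w} (σ.O.obj (op S)), ∃ G : F.obj (.mk (op S)), σ.Free f G ∧
      Nonempty ((σ.Γ S).obj G ≅ N))
    (hiso : ∀ (G : F.obj (.mk (op S))), σ.Free f G →
      ∀ ψ : (F.map f.op.toLoc).toFunctor.obj G ⟶ dObj D,
      Function.Bijective ((σ.Γ X).map ψ).hom → IsIso ψ) :
    ∃ G : F.obj (.mk (op S)), σ.Free f G ∧
      Nonempty ((F.toDescentData (fun _ : PUnit.{t + 1} => f)).obj G ≅ D) := by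
  have hq₁₂ : q₁ ≫ f = (q₂₃ ≫ p₁) ≫ f := by rw [hq, Category.assoc]
  have hq₁₃ : q₁ ≫ f = (q₂₃ ≫ p₂) ≫ f := by rw [hq, Category.assoc, hp]
  obtain ⟨q₁₂, h₁₂, h₁₂'⟩ := hY q₁ (q₂₃ ≫ p₁) hq₁₂
  obtain ⟨q₁₃, h₁₃, h₁₃'⟩ := hY q₁ (q₂₃ ≫ p₂) hq₁₃
  refine σ.effective_of D p₁ p₂ hp hY q₁ (q₂₃ ≫ p₁) (q₂₃ ≫ p₂) q₂₃ rfl rfl q₁₂ h₁₂ h₁₂' q₁₃ h₁₃ h₁₃'
    hflat (hbc.of_isPushout hOY) hu ?_ hfree hiso
  have h1 := (σ.isBC_trans p₂ q₂₃ _ rfl (dObj D) hbc₃).of_isPushout hOZ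
  have e : (σ.O.map (p₁ ≫ f).op).hom = (σ.O.map p₁.op).hom.comp (σ.O.map f.op).hom := by
    rw [op_comp, Functor.map_comp, CommRingCat.hom_comp]
  rw [e] at h1
  exact h1

end

end SecData

end Groth.Agent.Desc.SecD

namespace Groth.Agent.Desc.RingModPF

open Pseudofunctor Groth.Agent.Desc.SecD _root_.Desc

/-- Descent of modules is effective if all coactions are. -/
theorem exists_descent_of {R S : CommRingCat.{u}} (φ : R ⟶ S) (hφ : CoactEff.{u} φ.hom)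
    (D : ringModPF.{u}.DescentData (fun _ : PUnit.{u + 1} => φ.op)) :
    ∃ M : ModuleCat.{u} R,
      Nonempty ((ringModPF.{u}.toDescentData (fun _ : PUnit.{u + 1} => φ.op)).obj M ≅ D) := by
  obtain ⟨B, ι₁, ι₂, hB⟩ : ∃ (B : CommRingCat.{u}) (ι₁ : S ⟶ B) (ι₂ : S ⟶ B), IsPushout φ φ ι₁ ι₂ :=
    ⟨_, _, _, IsPushout.of_hasPushout φ φ⟩
  obtain ⟨T, κ₁, κ₂, hT⟩ : ∃ (T : CommRingCat.{u}) (κ₁ : S ⟶ T) (κ₂ : B ⟶ T),
      IsPushout φ (φ ≫ ι₁) κ₁ κ₂ :=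
    ⟨_, _, _, IsPushout.of_hasPushout φ (φ ≫ ι₁)⟩
  obtain ⟨G, -, hG⟩ := sec.effective_of_isPushout_of D ι₁.op ι₂.op
    (by rw [← op_comp, ← op_comp, hB.w])
    (fun {T'} f₁ f₂ h => ⟨(hB.desc f₁.unop f₂.unop (by
      rw [← Quiver.Hom.unop_op φ, ← unop_comp, ← unop_comp]
      exact congrArg Quiver.Hom.unop h)).op,
      Quiver.Hom.unop_inj (hB.inl_desc _ _ _), Quiver.Hom.unop_inj (hB.inr_desc _ _ _)⟩)
    κ₁.op κ₂.op (by rw [← op_comp, ← op_comp, ← op_comp, hT.w])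
    hφ hB hT (isBC_unitHom _ _) (unitHom_id_injective _) (isBC_unitHom _ _)
    (fun N => ⟨N, sec_free _ _, ⟨Iso.refl _⟩⟩)
    (fun G _ ψ hψ => isIso_of_bijective (X := op S) ψ hψ)
  exact ⟨G, hG⟩

end Groth.Agent.Desc.RingModPF
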