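import Mathlib.AlgebraicGeometry.Morphisms.Etale
import Mathlib.RingTheory.Smooth.NoetherianDescent

/-!
# Checking properties of morphisms on an open cover of the source (reduction to rings)

Let `f : X' ⟶ X` be an open surjective morphism with property `P'` and let `g : X ⟶ Y`.
To check that `g` has the property `P` (given by a property `Q` of ring maps)
it suffices to check it locally for `A → B → C` with `B → C` having `Q'` and `Spec C → Spec B`
surjective.
-/

set_option autoImplicit false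
universe u

open CategoryTheory AlgebraicGeometry TopologicalSpace

namespace Groth.Agent.Desc.SourceCover

/-- The comap of `Γ(X, V) → Γ(X', W)` is surjective when the image of `W` contains `V`. -/
theorem comap_appLE_surjective {X' X : Scheme.{u}} (f : X' ⟶ X) (V : X.Opens) (hV : IsAffineOpen V)
    (W : X'.Opens) (hW : IsAffineOpen W) (e : W ≤ f ⁻¹ᵁ V)
    (hs : (V : Set X) ⊆ f.base '' (W : Set X')) :
    Function.Surjective (PrimeSpectrum.comap (f.appLE V W e).hom) := by
  intro p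
  have h1 : hV.fromSpec.base p ∈ (V : Set X) := by
    rw [← hV.range_fromSpec]
    exact ⟨p, rfl⟩
  obtain ⟨w, hw, hfw⟩ := hs h1
  rw [← hW.range_fromSpec] at hw
  obtain ⟨q, rfl⟩ := hw
  refine ⟨q, ?_⟩
  have h2 := hV.SpecMap_appLE_fromSpec f hW e
  have h3 : hV.fromSpec.base ((Spec.map (f.appLE V W e)).base q) = hV.fromSpec.base p := by
    have := congr($h2 q)
    simp only [Scheme.Hom.comp_base, TopCat.comp_app] at this
    exact this.trans hfw
  exact hV.fromSpec.isOpenEmbedding.injective h3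

/-- Given an open surjective morphism `f : X' ⟶ X` and `g : X ⟶ Y`, near every point of `X` we find
affine opens `U` of `Y`, `V` of `X` and `W` of `X'`, with `g V ⊆ U`, `f W = V`. -/
theorem exists_affine_triple {X' X Y : Scheme.{u}} (f : X' ⟶ X) (g : X ⟶ Y) (hf : IsOpenMap f.base)
    (x' : X') :
    ∃ (U : Y.affineOpens) (V : X.affineOpens) (W : X'.affineOpens) (e₁ : V.1 ≤ g ⁻¹ᵁ U.1)
      (e₂ : W.1 ≤ f ⁻¹ᵁ V.1), x' ∈ W.1 ∧ f.base x' ∈ V.1 ∧
      Function.Surjective (PrimeSpectrum.comap (f.appLE V.1 W.1 e₂).hom) := by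
  obtain ⟨U, hU, hxU, -⟩ := Opens.isBasis_iff_nbhd.mp Y.isBasis_affineOpens
    (Opens.mem_top (g.base (f.base x')))
  obtain ⟨V, hV, hxV, e⟩ := Opens.isBasis_iff_nbhd.mp X.isBasis_affineOpens
    (show f.base x' ∈ g ⁻¹ᵁ U from hxU)
  obtain ⟨W, hW, hxW, e'⟩ := Opens.isBasis_iff_nbhd.mp X'.isBasis_affineOpens
    (show x' ∈ f ⁻¹ᵁ V from hxV)
  have hopen : IsOpen (f.base '' (W : Set X')) := hf _ W.isOpen
  obtain ⟨b, hb1, hb2⟩ := hV.exists_basicOpen_le (V := ⟨f.base '' (W : Set X'), hopen⟩)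
    ⟨f.base x', ⟨x', hxW, rfl⟩⟩ hxV
  -- shrink
  let c : Γ(X', W) := (f.appLE V W e').hom b
  have hc : X'.basicOpen c = W ⊓ f ⁻¹ᵁ (X.basicOpen b) := by
    have := f.preimage_basicOpen b
    rw [this]
    simp only [c, Scheme.Hom.appLE]
    have h3 := Scheme.basicOpen_res X' ((f.app V).hom b) (homOfLE e').op
    exact h3
  have e₂ : X'.basicOpen c ≤ f ⁻¹ᵁ (X.basicOpen b) := by
    rw [hc]; exact inf_le_right
  refine ⟨⟨U, hU⟩, ⟨X.basicOpen b, hV.basicOpen b⟩, ⟨X'.basicOpen c, hW.basicOpen c⟩,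
    (X.basicOpen_le b).trans e, e₂, ?_, hb2, ?_⟩
  · show x' ∈ X'.basicOpen c
    rw [hc]
    exact ⟨hxW, hb2⟩
  · apply comap_appLE_surjective f _ (hV.basicOpen b) _ (hW.basicOpen c)
    intro y hy
    obtain ⟨w, hw, rfl⟩ := hb1 hy
    refine ⟨w, ?_, rfl⟩
    show w ∈ X'.basicOpen c
    rw [hc]
    exact ⟨hw, hy⟩

/-- Reduction to rings of a descent statement along the source. -/
theorem of_open_cover_source {P P' : MorphismProperty Scheme.{u}}
    {Q Q' : ∀ {R S : Type u} [CommRing R] [CommRing S], (R →+* S) → Prop}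
    [HasRingHomProperty P Q] [HasRingHomProperty P' Q']
    (hQ : RingHom.StableUnderCompositionWithLocalizationAwaySource Q)
    {X' X Y : Scheme.{u}} (f : X' ⟶ X) (g : X ⟶ Y) (hf : P' f) [Surjective f]
    (hopen : IsOpenMap f.base) (h : P (f ≫ g))
    (H : ∀ {A B C : Type u} [CommRing A] [CommRing B] [CommRing C] (φ : A →+* B) (ψ : B →+* C),
      Q' ψ → Function.Surjective (PrimeSpectrum.comap ψ) → Q (ψ.comp φ) → Q φ) : P g := by
  rw [HasRingHomProperty.iff_exists_appLE (P := P) hQ]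
  intro x
  obtain ⟨x', rfl⟩ := f.surjective x
  obtain ⟨U, V, W, e₁, e₂, hx', hx, hs⟩ := exists_affine_triple f g hopen x'
  refine ⟨U, V, hx, e₁, ?_⟩
  refine H (g.appLE U.1 V.1 e₁).hom (f.appLE V.1 W.1 e₂).hom
    (HasRingHomProperty.appLE (P := P') f hf V W e₂) hs ?_
  have h1 := HasRingHomProperty.appLE (P := P) (f ≫ g) h U W
    (e₂.trans (by intro y hy; exact e₁ hy))
  rw [← Scheme.Hom.appLE_comp_appLE f g U.1 V.1 W.1 e₁ e₂] at h1
  exact h1

end Groth.Agent.Desc.SourceCover
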