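import Groth.Agent.Desc.MorDescent
import Mathlib.AlgebraicGeometry.Morphisms.UniversallyOpen
import Mathlib.AlgebraicGeometry.Morphisms.RingHomProperties
import Mathlib.AlgebraicGeometry.Morphisms.QuasiFinite
import Mathlib.AlgebraicGeometry.Morphisms.Etale

/-!
# Descent of properties of morphisms along flat/étale covers of the source
-/

set_option autoImplicit false
open CategoryTheory CategoryTheory.Limits AlgebraicGeometry Opposite MorphismProperty
universe u

namespace Groth.Agent.Desc.SourceLocal

open Groth.Agent.Desc.MorDescent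

/-- A property local on the source is stable under precomposition by local isomorphisms. -/
theorem comp_of_isLocalIso {P : MorphismProperty Scheme.{u}} [IsZariskiLocalAtSource P]
    {X Y Z : Scheme.{u}} (p : X ⟶ Y) (g : Y ⟶ Z) (hp : IsLocalIso p) (hg : P g) : P (p ≫ g) := by
  obtain ⟨𝒰, h⟩ := IsLocalIso.eq_sourceLocalClosure_isOpenImmersion ▸ hp
  rw [IsZariskiLocalAtSource.iff_of_openCover 𝒰 (P := P)]
  intro i
  have := h i
  rw [← Category.assoc]
  exact IsZariskiLocalAtSource.comp hg _

/-- General principle: let `P` be the morphism property associated with the ring hom property `Q`, `P'` a property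
local on the source, stable under base change and composition, and let `Q'` be a ring hom property such that
`P'` and surjectivity of `Spec.map φ` imply `Q' φ`. If `Q (g.comp f)` and `Q' g` imply `Q f`, then `P (f ≫ g)` implies
`P g` for `f` surjective, universally open with `P' f`. -/
theorem of_source_cover {P P' : MorphismProperty Scheme.{u}}
    {Q Q' : ∀ {R S : Type u} [CommRing R] [CommRing S], (R →+* S) → Prop}
    [HasRingHomProperty P Q] [P.IsStableUnderBaseChange] [P'.IsStableUnderBaseChange]
    [P'.IsStableUnderComposition]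
    (hloc : (@IsLocalIso : MorphismProperty Scheme.{u}) ≤ P')
    (hQ' : ∀ {R S : CommRingCat.{u}} (φ : R ⟶ S), P' (Spec.map φ) → Surjective (Spec.map φ) → Q' φ.hom)
    (hQ : ∀ {R S T : Type u} [CommRing R] [CommRing S] [CommRing T] (f : R →+* S) (g : S →+* T),
      Q' g → Q (g.comp f) → Q f)
    {X' X Y : Scheme.{u}} (f : X' ⟶ X) (g : X ⟶ Y) [Surjective f] [UniversallyOpen f] (hf : P' f)
    (h : P (f ≫ g)) : P g := by
  wlog hY : ∃ R, Y = Spec R generalizing X' X Y
  · rw [IsZariskiLocalAtTarget.iff_of_openCover (P := P) Y.affineCover]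
    intro i
    refine this (pullback.snd f (pullback.fst g (Y.affineCover.f i)))
      (pullback.snd g (Y.affineCover.f i)) (P'.pullback_snd _ _ hf) ?_ ⟨_, rfl⟩
    have hp := (IsPullback.of_hasPullback f (pullback.fst g (Y.affineCover.f i))).flip.paste_horiz
      (IsPullback.of_hasPullback g (Y.affineCover.f i)).flip
    exact MorphismProperty.of_isPullback hp.flip h
  obtain ⟨R, rfl⟩ := hY
  wlog hX : ∃ A, X = Spec A generalizing X' X
  · rw [IsZariskiLocalAtSource.iff_of_openCover (P := P) X.affineCover]
    intro i
    refine this (pullback.snd f (X.affineCover.f i)) (P'.pullback_snd _ _ hf)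
      (X.affineCover.f i ≫ g) ?_ ⟨_, rfl⟩
    rw [← Category.assoc, ← pullback.condition, Category.assoc]
    exact IsZariskiLocalAtSource.comp h _
  obtain ⟨A, rfl⟩ := hX
  obtain ⟨V : X'.Opens, hV, e⟩ := f.isOpenMap.exists_opens_image_eq_of_prespectralSpace
    f.continuous (by simp) isOpen_univ isCompact_univ
  have : CompactSpace V := isCompact_iff_compactSpace.mp hV
  obtain ⟨T, p, hsurj, hp, hT⟩ := V.toScheme.exists_hom_isAffine_of_isZariskiLocalAtSource @IsLocalIso
  have hs : Surjective (V.ι ≫ f) :=
    ⟨fun x ↦ have ⟨y, hyV, e⟩ := e.ge (Set.mem_univ x); ⟨⟨y, hyV⟩, e⟩⟩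
  have hi : IsLocalIso (T.isoSpec.inv) := IsZariskiLocalAtSource.of_isOpenImmersion _
  have hι : IsLocalIso (V.ι) := IsZariskiLocalAtSource.of_isOpenImmersion _
  have hp2 : IsLocalIso (T.isoSpec.inv ≫ p ≫ V.ι) :=
    MorphismProperty.comp_mem _ _ _ hi (MorphismProperty.comp_mem _ _ _ hp hι)
  obtain ⟨ψ, hψ⟩ := Spec.map_surjective (T.isoSpec.inv ≫ p ≫ V.ι ≫ f)
  obtain ⟨φ, rfl⟩ := Spec.map_surjective g
  have h1 : P' (Spec.map ψ) := by
    rw [hψ]
    have := P'.comp_mem _ _ (hloc _ _ _ hp2) hf
    simpa only [Category.assoc] using this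
  have h2 : Surjective (Spec.map ψ) := by
    rw [hψ]
    infer_instance
  have h3 : Q' ψ.hom := hQ' ψ h1 h2
  have h4 : P (Spec.map ψ ≫ Spec.map φ) := by
    rw [hψ]
    have := comp_of_isLocalIso (P := P) _ _ hp2 h
    simpa only [Category.assoc] using this
  rw [← Spec.map_comp, HasRingHomProperty.Spec_iff (P := P), CommRingCat.hom_comp] at h4
  rw [HasRingHomProperty.Spec_iff (P := P)]
  exact hQ _ _ h3 h4

/-- Flat surjective (and universally open) covers of the source. -/
theorem of_flat_source_cover {P : MorphismProperty Scheme.{u}}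
    {Q : ∀ {R S : Type u} [CommRing R] [CommRing S], (R →+* S) → Prop}
    [HasRingHomProperty P Q] [P.IsStableUnderBaseChange]
    (hQ : ∀ {R S T : Type u} [CommRing R] [CommRing S] [CommRing T] (f : R →+* S) (g : S →+* T),
      g.FaithfullyFlat → Q (g.comp f) → Q f)
    {X' X Y : Scheme.{u}} (f : X' ⟶ X) (g : X ⟶ Y) [Surjective f] [UniversallyOpen f] [Flat f]
    (h : P (f ≫ g)) : P g :=
  of_source_cover (P := P) (Q := Q) (P' := @Flat) (Q' := fun f => f.FaithfullyFlat)
    (IsLocalIso.le_of_isZariskiLocalAtSource _)
    (fun φ h1 h2 => by rw [← flat_and_surjective_SpecMap_iff]; exact ⟨h1, h2⟩) hQ f g inferInstance h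

open TensorProduct in
theorem quasiFinite_of_faithfullyFlat (R A B : Type u) [CommRing R] [CommRing A] [CommRing B]
    [Algebra R A] [Algebra A B] [Algebra R B] [IsScalarTower R A B] [Module.FaithfullyFlat A B]
    [Algebra.QuasiFinite R B] : Algebra.QuasiFinite R A := by
  refine ⟨fun P _ => ?_⟩
  let f : P.Fiber A →ₐ[P.ResidueField] P.Fiber B :=
    Algebra.TensorProduct.map (AlgHom.id _ _) (IsScalarTower.toAlgHom R A B)
  have hf : Function.Injective f := by
    have h1 : Function.Injective (LinearMap.rTensor P.ResidueField (IsScalarTower.toAlgHom R A B).toLinearMap) := by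
      have h2 : (LinearMap.rTensor P.ResidueField (IsScalarTower.toAlgHom R A B).toLinearMap : _ → _) =
          (TensorProduct.AlgebraTensorModule.cancelBaseChange R A A B P.ResidueField) ∘
            (TensorProduct.mk A B (A ⊗[R] P.ResidueField) 1) := by
        ext x
        induction x with
        | zero => simp
        | tmul a k => simp [Algebra.smul_def]
        | add x y hx hy => rw [map_add, hx, hy]; simp only [Function.comp_apply, map_add]
      rw [h2]
      exact (TensorProduct.AlgebraTensorModule.cancelBaseChange R A A B P.ResidueField).injective.comp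
        (Module.FaithfullyFlat.tensorProduct_mk_injective (A := A) (B := B) _)
    have h3 : (f : _ → _) = (TensorProduct.comm R B P.ResidueField) ∘
        (LinearMap.rTensor P.ResidueField (IsScalarTower.toAlgHom R A B).toLinearMap) ∘
        (TensorProduct.comm R P.ResidueField A) := by
      funext x
      induction x using TensorProduct.induction_on with
      | zero => simp
      | tmul k a => simp [f]
      | add x y hx hy => rw [map_add, hx, hy]; simp only [Function.comp_apply, map_add]
    rw [h3]
    exact (TensorProduct.comm R B P.ResidueField).injective.comp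
      (h1.comp (TensorProduct.comm R P.ResidueField A).injective)
  exact Module.Finite.of_injective f.toLinearMap hf

/-- locally quasi-finite is fppf local on the source -/
theorem locallyQuasiFinite_of_comp {X' X Y : Scheme.{u}} (f : X' ⟶ X) (g : X ⟶ Y) [Surjective f]
    [UniversallyOpen f] [Flat f] [LocallyQuasiFinite (f ≫ g)] : LocallyQuasiFinite g := by
  refine of_flat_source_cover (P := @LocallyQuasiFinite) (Q := RingHom.QuasiFinite) ?_ f g inferInstance
  intro R S T _ _ _ f g hg hgf
  algebraize [f, g, g.comp f]
  exact quasiFinite_of_faithfullyFlat R S T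

end Groth.Agent.Desc.SourceLocal
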