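import Groth.Agent.Desc.ZarSec
import Groth.Agent.Desc.OpenDD

/-!
# Stable opens of descent data and effectivity via covers by stable opens
-/

set_option autoImplicit false
set_option backward.isDefEq.respectTransparency false
set_option backward.isDefEq.respectTransparency.types false
open CategoryTheory CategoryTheory.Limits AlgebraicGeometry Opposite
universe u
open _root_.Desc
open Groth.Agent.Desc.SecFunctor Groth.Agent.Picfga.OverRep Groth.Agent.Desc.ZarSec

namespace Groth.Agent.Desc.StableDD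

variable {X S : Scheme.{u}} {p : X ⟶ S}

/-- An open `W` of the scheme underlying a descent datum is stable if it is preserved by the gluing
bijections. -/
def IsStable (D : SchDD p) (W : D.obj.left.Opens) : Prop :=
  ∀ ⦃T : Scheme.{u}⦄ (x₀ x₁ : T ⟶ X) (h : x₀ ≫ p = x₁ ≫ p) (v : Lifts D.obj x₀) (t : T),
    v.1 t ∈ W → (D.φ x₀ x₁ h v).1 t ∈ W

theorem φ_symm (D : SchDD p) {T : Scheme.{u}} (x₀ x₁ : T ⟶ X) (h : x₀ ≫ p = x₁ ≫ p)
    (v : Lifts D.obj x₀) : D.φ x₁ x₀ h.symm (D.φ x₀ x₁ h v) = v := by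
  rw [D.φ_comp, D.φ_self]

theorem IsStable.mem_iff {D : SchDD p} {W : D.obj.left.Opens} (hW : IsStable D W)
    {T : Scheme.{u}} (x₀ x₁ : T ⟶ X) (h : x₀ ≫ p = x₁ ≫ p) (v : Lifts D.obj x₀) (t : T) :
    (D.φ x₀ x₁ h v).1 t ∈ W ↔ v.1 t ∈ W := by
  refine ⟨fun ht ↦ ?_, hW x₀ x₁ h v t⟩
  have := hW x₁ x₀ h.symm (D.φ x₀ x₁ h v) t ht
  rwa [φ_symm] at this

theorem mem_range_ι {Y : Scheme.{u}} (W : Y.Opens) (y : Y) : y ∈ Set.range W.ι ↔ y ∈ W := by
  rw [Scheme.Opens.range_ι]; rfl

/-- Lift a morphism to an open subscheme. -/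
noncomputable def liftOpen {Y T : Scheme.{u}} (W : Y.Opens) (f : T ⟶ Y) (h : ∀ t, f t ∈ W) :
    T ⟶ W.toScheme :=
  IsOpenImmersion.lift W.ι f (by rintro _ ⟨t, rfl⟩; exact (mem_range_ι W _).mpr (h t))

@[reassoc (attr := simp)]
theorem liftOpen_ι {Y T : Scheme.{u}} (W : Y.Opens) (f : T ⟶ Y) (h : ∀ t, f t ∈ W) :
    liftOpen W f h ≫ W.ι = f := IsOpenImmersion.lift_fac _ _ _

/-- Push forward a point of the open `W` to a point of `D.obj`. -/
def pushLift {V : Over X} {W : V.left.Opens} {T : Scheme.{u}} {x : T ⟶ X}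
    (v : Lifts (Over.mk (W.ι ≫ V.hom)) x) : Lifts V x :=
  ⟨v.1 ≫ W.ι, by rw [Category.assoc]; exact v.2⟩

/-- Lift a point of `D.obj` in `W` to a point of the open `W`. -/
noncomputable def liftLift {V : Over X} {W : V.left.Opens} {T : Scheme.{u}} {x : T ⟶ X}
    (v : Lifts V x) (h : ∀ t, v.1 t ∈ W) : Lifts (Over.mk (W.ι ≫ V.hom)) x :=
  ⟨liftOpen W v.1 h, by
    change _ ≫ W.ι ≫ V.hom = x
    rw [liftOpen_ι_assoc, v.2]⟩

theorem pushLift_mem {V : Over X} {W : V.left.Opens} {T : Scheme.{u}} {x : T ⟶ X}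
    (v : Lifts (Over.mk (W.ι ≫ V.hom)) x) (t : T) : (pushLift v).1 t ∈ W :=
  (mem_range_ι W _).mp ⟨v.1 t, rfl⟩

theorem liftLift_val {V : Over X} {W : V.left.Opens} {T : Scheme.{u}} {x : T ⟶ X}
    (v : Lifts V x) (h : ∀ t, v.1 t ∈ W) : (liftLift v h).1 ≫ W.ι = v.1 := liftOpen_ι W v.1 h

@[simp]
theorem pushLift_liftLift {V : Over X} {W : V.left.Opens} {T : Scheme.{u}} {x : T ⟶ X}
    (v : Lifts V x) (h : ∀ t, v.1 t ∈ W) : pushLift (liftLift v h) = v :=
  Subtype.ext (liftLift_val v h)

theorem pushLift_injective {V : Over X} {W : V.left.Opens} {T : Scheme.{u}} {x : T ⟶ X}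
    {v v' : Lifts (Over.mk (W.ι ≫ V.hom)) x} (h : pushLift v = pushLift v') : v = v' := by
  apply Subtype.ext
  have := congrArg Subtype.val h
  exact (cancel_mono W.ι).mp this

/-- The restriction of a descent datum to a stable open. -/
noncomputable def restrict (D : SchDD p) (W : D.obj.left.Opens) (hW : IsStable D W) : SchDD p where
  obj := Over.mk (W.ι ≫ D.obj.hom)
  φ T x₀ x₁ h :=
    { toFun := fun v ↦ liftLift (D.φ x₀ x₁ h (pushLift v))
        (fun t ↦ hW x₀ x₁ h _ t (pushLift_mem v t))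
      invFun := fun v ↦ liftLift (D.φ x₁ x₀ h.symm (pushLift v))
        (fun t ↦ hW x₁ x₀ h.symm _ t (pushLift_mem v t))
      left_inv := fun v ↦ pushLift_injective (by simp [φ_symm])
      right_inv := fun v ↦ pushLift_injective (by simp [φ_symm D x₁ x₀ h.symm]) }
  φ_natural T T' g x₀ x₁ h h' v v' hv' := by
    apply (cancel_mono W.ι).mp
    have e := D.φ_natural g x₀ x₁ h h' (pushLift v) (pushLift v')
      (by simp [pushLift, hv'])
    have hm : ∀ t, (D.φ x₀ x₁ h (pushLift v)).1 t ∈ W :=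
      fun t ↦ hW x₀ x₁ h (pushLift v) t (pushLift_mem v t)
    have e2 : (g ≫ (liftLift (D.φ x₀ x₁ h (pushLift v)) hm).1) ≫ W.ι =
        g ≫ (D.φ x₀ x₁ h (pushLift v)).1 := by
      rw [Category.assoc, liftLift_val]
    exact (liftLift_val _ _).trans (e.trans e2.symm)
  φ_self T x v := pushLift_injective (by simp [D.φ_self])
  φ_comp T x₀ x₁ x₂ h₀₁ h₁₂ v := pushLift_injective (by simp [D.φ_comp])

theorem restrict_φ (D : SchDD p) (W : D.obj.left.Opens) (hW : IsStable D W) {T : Scheme.{u}}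
    (x₀ x₁ : T ⟶ X) (h : x₀ ≫ p = x₁ ≫ p) (v : Lifts (restrict D W hW).obj x₀) :
    ((restrict D W hW).φ x₀ x₁ h v).1 ≫ W.ι = (D.φ x₀ x₁ h (pushLift v)).1 :=
  liftLift_val _ _

/-- The inclusion of the restriction. -/
noncomputable def restrictHom (D : SchDD p) (W : D.obj.left.Opens) (hW : IsStable D W) :
    restrict D W hW ⟶ D where
  hom := Over.homMk W.ι rfl
  comm T x₀ x₁ h v w hw := by
    have e : w = pushLift v := Subtype.ext hw
    subst e
    exact (restrict_φ D W hW x₀ x₁ h v).symm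

/-- A morphism of descent data factors through the restriction if the underlying map does. -/
theorem exists_factor_restrict {D E : SchDD p} (W : D.obj.left.Opens) (hW : IsStable D W)
    (F : E ⟶ D) (hF : ∀ e, F.hom.left e ∈ W) :
    ∃ F' : E ⟶ restrict D W hW, F' ≫ restrictHom D W hW = F := by
  let k : E.obj.left ⟶ W.toScheme := liftOpen W F.hom.left hF
  have hk : k ≫ W.ι = F.hom.left := liftOpen_ι _ _ _
  have hkw : k ≫ W.ι ≫ D.obj.hom = E.obj.hom := by
    rw [reassoc_of% hk]; exact Over.w F.hom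
  refine ⟨{ hom := Over.homMk k hkw, comm := ?_ }, ?_⟩
  · intro T x₀ x₁ h v w hw
    apply (cancel_mono W.ι).mp
    rw [restrict_φ]
    rw [F.comm x₀ x₁ h v (pushLift w) (by
      change w.1 ≫ W.ι = _
      rw [hw, Category.assoc]
      exact congrArg (v.1 ≫ ·) hk)]
    change (E.φ x₀ x₁ h v).1 ≫ F.hom.left = ((E.φ x₀ x₁ h v).1 ≫ k) ≫ W.ι
    rw [Category.assoc, hk]
  · apply SchDD.hom_ext
    apply Over.OverMorphism.ext
    exact hk

instance (D : SchDD p) (W : D.obj.left.Opens) (hW : IsStable D W) : Mono (restrictHom D W hW) := by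
  constructor
  intro E F F' h
  apply SchDD.hom_ext
  apply Over.OverMorphism.ext
  have h1 : F.hom.left ≫ W.ι = F'.hom.left ≫ W.ι := by
    have := congrArg (fun t : E ⟶ D ↦ t.hom.left) h
    exact this
  exact (cancel_mono W.ι).mp h1

section Glue

variable (D : SchDD p)

/-- the section of `D` over `U` given by an isomorphism with a restriction. -/
noncomputable def chartSec (W : D.obj.left.Opens) (hW : IsStable D W) (U : Over S)
    (e : (toDD p).obj U ≅ restrict D W hW) : (toDD p).obj U ⟶ D :=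
  e.hom ≫ restrictHom D W hW

theorem chartSec_mem (W : D.obj.left.Opens) (hW : IsStable D W) (U : Over S)
    (e : (toDD p).obj U ≅ restrict D W hW) (a : ((toDD p).obj U).obj.left) :
    (chartSec D W hW U e).hom.left a ∈ W :=
  (mem_range_ι W _).mp ⟨e.hom.hom.left a, rfl⟩

/-- Points where a section of `D` takes values in a stable open `W` form an open subset on which the
section comes from `W`. -/
theorem exists_factor (hq : ∀ T : Over S, Topology.IsQuotientMap (pullback.snd p T.hom).base)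
    [(toDD p).Full] (W : D.obj.left.Opens) (hW : IsStable D W) (U : Over S)
    (e : (toDD p).obj U ≅ restrict D W hW) (T : Over S) (x : (toDD p).obj T ⟶ D)
    (a : ↥(pullback p T.hom)) (ha : x.hom.left a ∈ W) :
    ∃ (O : T.left.Opens) (k : Over.mk (O.ι ≫ T.hom) ⟶ U), pullback.snd p T.hom a ∈ O ∧
      (toDD p).map k ≫ chartSec D W hW U e = (toDD p).map (res T O) ≫ x := by
  let F : pullback p T.hom ⟶ D.obj.left := x.hom.left
  have hF : F ≫ D.obj.hom = pullback.fst p T.hom := Over.w x.hom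
  let q : pullback p T.hom ⟶ T.left := pullback.snd p T.hom
  let A : (pullback p T.hom).Opens := F ⁻¹ᵁ W
  have hsat : ∀ a b : ↥(pullback p T.hom), q a = q b → a ∈ A → b ∈ A := by
    intro a b hab haA
    obtain ⟨z, hz1, hz2⟩ := Scheme.Pullback.exists_preimage_pullback (f := q) (g := q) a b hab
    let α := pullback.fst q q
    let β := pullback.snd q q
    have hαβ : α ≫ q = β ≫ q := pullback.condition
    have h1 : (α ≫ pullback.fst p T.hom) ≫ p = (β ≫ pullback.fst p T.hom) ≫ p := by
      rw [Category.assoc, Category.assoc, pullback.condition]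
      rw [← Category.assoc, ← Category.assoc]
      exact congrArg (· ≫ T.hom) hαβ
    have h2 : (α ≫ x.hom.left) ≫ D.obj.hom = α ≫ pullback.fst p T.hom := by
      rw [Category.assoc]; exact congrArg (α ≫ ·) hF
    have key := comm_toDD x α β hαβ h1 h2
    have h3 : (α ≫ F) z ∈ W := by
      rw [Scheme.Hom.comp_apply, hz1]; exact haA
    have h4 := hW (α ≫ pullback.fst p T.hom) (β ≫ pullback.fst p T.hom) h1
      ⟨α ≫ x.hom.left, h2⟩ z h3
    rw [← key] at h4
    change (β ≫ F) z ∈ W at h4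
    rw [Scheme.Hom.comp_apply, hz2] at h4
    exact h4
  have hqq : Topology.IsQuotientMap q.base := hq T
  have hpre : q.base ⁻¹' (q.base '' (A : Set ↥(pullback p T.hom))) = A := by
    ext b
    constructor
    · rintro ⟨c, hc, hcb⟩
      exact hsat c b hcb hc
    · intro hb
      exact ⟨b, hb, rfl⟩
  have hopen : IsOpen (q.base '' (A : Set ↥(pullback p T.hom))) := by
    rw [← hqq.isOpen_preimage, hpre]
    exact A.isOpen
  let O : T.left.Opens := ⟨q.base '' (A : Set ↥(pullback p T.hom)), hopen⟩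
  let FO : (toDD p).obj (Over.mk (O.ι ≫ T.hom)) ⟶ D := (toDD p).map (res T O) ≫ x
  have hFO : ∀ c, FO.hom.left c ∈ W := by
    intro c
    change (mapLeft p (res T O) ≫ F) c ∈ W
    rw [Scheme.Hom.comp_apply]
    have h5 : mapLeft p (res T O) c ∈ q.base ⁻¹' (q.base '' (A : Set ↥(pullback p T.hom))) := by
      have h6 : q (mapLeft p (res T O) c) = O.ι (pullback.snd p (O.ι ≫ T.hom) c) := by
        rw [← Scheme.Hom.comp_apply, ← Scheme.Hom.comp_apply, mapLeft_snd]
        rfl
      have h7 : O.ι (pullback.snd p (O.ι ≫ T.hom) c) ∈ O := (mem_range_ι O _).mp ⟨_, rfl⟩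
      rw [← h6] at h7
      exact h7
    rw [hpre] at h5
    exact h5
  obtain ⟨F', hF'⟩ := exists_factor_restrict W hW FO hFO
  obtain ⟨k, hk⟩ := (toDD p).map_surjective (F' ≫ e.inv)
  refine ⟨O, k, ⟨a, ha, rfl⟩, ?_⟩
  rw [hk, chartSec, Category.assoc, e.inv_hom_id_assoc, hF']

/-- A descent datum which is covered by stable opens with effective restriction is effective. -/
theorem effective_of_cover
    (hq : ∀ T : Over S, Topology.IsQuotientMap (pullback.snd p T.hom).base)
    [(toDD p).Full] [(toDD p).Faithful] {ι : Type u} (W : ι → D.obj.left.Opens)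
    (hW : ∀ i, IsStable D (W i)) (hcov : ∀ v : D.obj.left, ∃ i, v ∈ W i)
    (heff : ∀ i, ∃ U : Over S, Nonempty ((toDD p).obj U ≅ restrict D (W i) (hW i))) :
    ∃ U : Over S, Nonempty ((toDD p).obj U ≅ D) := by
  choose U e using heff
  have e' := fun i ↦ (e i).some
  let C : Charts (secFun D) :=
    { ι := ι
      X := U
      ξ := fun i ↦ chartSec D (W i) (hW i) (U i) (e' i)
      mono := by
        intro i T a b h
        have h' : (toDD p).map a ≫ (e' i).hom ≫ restrictHom D (W i) (hW i) =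
          (toDD p).map b ≫ (e' i).hom ≫ restrictHom D (W i) (hW i) := h
        rw [← Category.assoc, ← Category.assoc, cancel_mono, cancel_mono] at h'
        exact (toDD p).map_injective h'
      isOpen := by
        intro i T x T' g h hgh t
        obtain ⟨a', ha'⟩ := (hq T').surjective t
        let a : ↥(pullback p T.hom) := mapLeft p g a'
        have ha : pullback.snd p T.hom a = g.left t := by
          rw [← ha', ← Scheme.Hom.comp_apply, mapLeft_snd]
          rfl
        have hx : (x : (toDD p).obj T ⟶ D).hom.left a ∈ W i := by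
          have h1 : ((toDD p).map h ≫ chartSec D (W i) (hW i) (U i) (e' i)).hom.left a' ∈ W i :=
            chartSec_mem D (W i) (hW i) (U i) (e' i) (((toDD p).map h).hom.left a')
          have h2 : (toDD p).map h ≫ chartSec D (W i) (hW i) (U i) (e' i) =
            (toDD p).map g ≫ (x : (toDD p).obj T ⟶ D) := hgh
          rw [h2] at h1
          exact h1
        obtain ⟨O, k, hO, hk⟩ := exists_factor D hq (W i) (hW i) (U i) (e' i) T x a hx
        rw [ha] at hO
        exact ⟨O, k, hO, hk⟩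
      covers := by
        intro T x t
        obtain ⟨a, ha⟩ := (hq T).surjective t
        obtain ⟨i, hi⟩ := hcov ((x : (toDD p).obj T ⟶ D).hom.left a)
        obtain ⟨O, k, hO, hk⟩ := exists_factor D hq (W i) (hW i) (U i) (e' i) T x a hi
        have ha2 : pullback.snd p T.hom a = t := ha
        rw [ha2] at hO
        exact ⟨i, O, k, hO, hk⟩ }
  obtain ⟨H, Z, hZ⟩ := C.exists_universal (isZarSheaf D)
  have : IsIso (Z : (toDD p).obj H ⟶ D) := isIso_of_universal H Z hZ
  exact ⟨H, ⟨asIso (Z : (toDD p).obj H ⟶ D)⟩⟩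

end Glue

end Groth.Agent.Desc.StableDD
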