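import Mathlib.AlgebraicGeometry.Morphisms.FlatDescent
import Mathlib.AlgebraicGeometry.Morphisms.Flat
import Groth.Prelude.Def_Flat

set_option autoImplicit false
open CategoryTheory CategoryTheory.Limits AlgebraicGeometry Opposite
universe u

namespace Groth.Agent.Desc.UnivHomeo

/-- universal homeomorphism = universally open + universally injective + surjective -/
theorem isUnivHomeo_eq :
    FlatMor.IsUnivHomeo.{u} =
      (@UniversallyOpen ⊓ @UniversallyInjective ⊓ @Surjective : MorphismProperty Scheme.{u}) := by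
  ext X Y f
  constructor
  · intro hf
    refine ⟨⟨⟨?_⟩, ⟨?_⟩⟩, ⟨?_⟩⟩
    · intro X' Y' i₁ i₂ f' h
      exact (hf i₁ i₂ f' h).isOpenMap
    · intro X' Y' i₁ i₂ f' h
      exact (hf i₁ i₂ f' h).injective
    · exact (MorphismProperty.universally_le _ f hf).surjective
  · rintro ⟨⟨h1, h2⟩, h3⟩
    intro X' Y' i₁ i₂ f' h
    have h1' : UniversallyOpen f' :=
      MorphismProperty.of_isPullback (P := @UniversallyOpen) h.flip h1
    have h2' : UniversallyInjective f' :=
      MorphismProperty.of_isPullback (P := @UniversallyInjective) h.flip h2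
    have h3' : Surjective f' :=
      MorphismProperty.of_isPullback (P := @Surjective) h.flip h3
    exact ⟨f'.continuous, f'.isOpenMap, f'.injective, f'.surjective⟩

theorem isUnivHomeo_iff {X Y : Scheme.{u}} (f : X ⟶ Y) :
    FlatMor.IsUnivHomeo f ↔ UniversallyOpen f ∧ UniversallyInjective f ∧ Surjective f := by
  rw [isUnivHomeo_eq]
  exact ⟨fun h => ⟨h.1.1, h.1.2, h.2⟩, fun h => ⟨⟨h.1, h.2.1⟩, h.2.2⟩⟩

end Groth.Agent.Desc.UnivHomeo
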