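import Groth.Agent.Desc.CoactDescent
import Groth.Prelude.Def_Pi1
import Mathlib.Algebra.Module.CharacterModule

/-!
# Descent for modules along universally injective ring maps, in terms of coactions

Let `R → S` be universally injective and `M` an `S`-module with a counital coassociative coaction
`a : M → S ⊗[R] M`. Then `S ⊗[R] (coinv a) → M` is bijective (Mesablishvili; Stacks 08WE). The proof
uses the natural splitting of `C(S ⊗ M) → C(M)`, where `C = Hom(-, ℚ/ℤ)`.
-/

set_option autoImplicit false
open TensorProduct
universe u v w

namespace Groth.Agent.Desc.UnivInjCoact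

open CoactDescent

section Split

variable (R : Type u) (S : Type u) [CommRing R] [CommRing S] [Algebra R S]

/-- An `R`-linear extension operator for characters from `R` to `S`. -/
structure Ext where
  σ : CharacterModule R →ₗ[R] CharacterModule S
  σ_algebraMap : ∀ c r, σ c (algebraMap R S r) = c r

variable {R S}

theorem exists_ext (h : Pi1.UnivInjective R S) : Nonempty (Ext R S) := by
  have h1 := CharacterModule.dual_surjective_of_injective _ (h (CharacterModule R))
  obtain ⟨φ, hφ⟩ := h1 (CharacterModule.uncurry (R := R) LinearMap.id)
  refine ⟨⟨CharacterModule.curry φ, fun c r => ?_⟩⟩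
  have := DFunLike.congr_fun hφ (c ⊗ₜ r)
  exact this

end Split

section Main

variable {R : Type u} {S : Type u} [CommRing R] [CommRing S] [Algebra R S] (E : Ext R S)

section Sig

variable {M : Type w} {M' : Type v} [AddCommGroup M] [Module R M] [AddCommGroup M'] [Module R M']

/-- The natural extension operator `C(M) → C(S ⊗ M)`. -/
noncomputable def sig : CharacterModule M →ₗ[R] CharacterModule (S ⊗[R] M) where
  toFun χ := CharacterModule.dual (TensorProduct.comm R S M).toLinearMap
    (CharacterModule.uncurry (E.σ ∘ₗ CharacterModule.curry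
      (CharacterModule.dual (TensorProduct.rid R M).toLinearMap χ)))
  map_add' χ χ' := by
    rw [map_add, map_add, LinearMap.comp_add, map_add, map_add]
  map_smul' r χ := by
    rw [map_smul, map_smul, LinearMap.comp_smul, map_smul, map_smul, RingHom.id_apply]

theorem sig_one (χ : CharacterModule M) (m : M) : sig E χ (1 ⊗ₜ m) = χ m := by
  have h := E.σ_algebraMap (CharacterModule.curry
      (CharacterModule.dual (TensorProduct.rid R M).toLinearMap χ) m) 1
  rw [map_one] at h
  refine Eq.trans h ?_
  show χ (TensorProduct.rid R M (m ⊗ₜ 1)) = χ m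
  rw [TensorProduct.rid_tmul, one_smul]

theorem sig_natural (f : M →ₗ[R] M') (χ : CharacterModule M') (z : S ⊗[R] M) :
    sig E (CharacterModule.dual f χ) z = sig E χ (f.lTensor S z) := by
  induction z with
  | zero => rw [map_zero, map_zero, map_zero]
  | add x y hx hy => rw [map_add, map_add, map_add, hx, hy]
  | tmul s m =>
    rw [LinearMap.lTensor_tmul]
    show E.σ (CharacterModule.curry (CharacterModule.dual (TensorProduct.rid R M).toLinearMap
      (CharacterModule.dual f χ)) m) s = E.σ (CharacterModule.curry
        (CharacterModule.dual (TensorProduct.rid R M').toLinearMap χ) (f m)) s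
    congr 2
    ext r
    show χ (f (TensorProduct.rid R M (m ⊗ₜ r))) = χ (TensorProduct.rid R M' (f m ⊗ₜ r))
    rw [TensorProduct.rid_tmul, TensorProduct.rid_tmul, map_smul]

end Sig

variable {M : Type w} [AddCommGroup M] [Module R M] [Module S M] [IsScalarTower R S M]
  (a : M →ₗ[S] S ⊗[R] M)

/-- `e χ = sig χ ∘ a`. -/
noncomputable def e : CharacterModule M →ₗ[R] CharacterModule M :=
  CharacterModule.dual (a.restrictScalars R) ∘ₗ sig E

theorem e_apply (χ : CharacterModule M) (m : M) : e E a χ m = sig E χ (a m) := rfl

theorem e_eq_of_mem (χ : CharacterModule M) {m : M} (hm : m ∈ coinv a) : e E a χ m = χ m := by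
  rw [e_apply, (mem_coinv a).1 hm, sig_one]

theorem e_eq_zero
    (hcoassoc : ∀ m, LinearMap.lTensor S (a.restrictScalars R) (a m) =
      LinearMap.lTensor S (TensorProduct.mk R S M 1) (a m))
    (χ : CharacterModule M) (hχ : ∀ m ∈ coinv a, χ m = 0) : e E a χ = 0 := by
  let d : M →ₗ[R] S ⊗[R] M := a.restrictScalars R - TensorProduct.mk R S M 1
  let dbar : (M ⧸ LinearMap.ker d) →ₗ[R] S ⊗[R] M := (LinearMap.ker d).liftQ d le_rfl
  have hinj : Function.Injective dbar := by
    rw [← LinearMap.ker_eq_bot]
    exact Submodule.ker_liftQ_eq_bot _ _ _ le_rfl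
  let χbar : CharacterModule (M ⧸ LinearMap.ker d) :=
    QuotientAddGroup.lift (LinearMap.ker d).toAddSubgroup χ (fun m hm => hχ m hm)
  obtain ⟨Φ, hΦ⟩ := CharacterModule.dual_surjective_of_injective dbar hinj χbar
  have h1 : χ = CharacterModule.dual (a.restrictScalars R) Φ -
      CharacterModule.dual (TensorProduct.mk R S M 1) Φ := by
    ext m
    have h2 := DFunLike.congr_fun hΦ (Submodule.Quotient.mk m)
    have h3 : Φ (d m) = χ m := h2
    rw [← h3]
    exact map_sub Φ _ _
  ext m
  rw [e_apply, h1, map_sub]
  show sig E (CharacterModule.dual (a.restrictScalars R) Φ) (a m) -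
    sig E (CharacterModule.dual (TensorProduct.mk R S M 1) Φ) (a m) = 0
  rw [sig_natural, sig_natural, hcoassoc, sub_self]

include E in
/-- **Descent along universally injective ring maps.** -/
theorem ofCoinv_bijective
    (hcounit : ∀ m, mulMap R S M (a m) = m)
    (hcoassoc : ∀ m, LinearMap.lTensor S (a.restrictScalars R) (a m) =
      LinearMap.lTensor S (TensorProduct.mk R S M 1) (a m)) :
    Function.Bijective (ofCoinv a) := by
  constructor
  · -- injectivity: the dual is surjective
    have key : Function.Surjective (CharacterModule.dual ((ofCoinv a).restrictScalars R)) := by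
      intro ψ
      let ψ' : S →ₗ[R] CharacterModule (coinv a) := CharacterModule.curry ψ
      have hres := CharacterModule.dual_surjective_of_injective (coinv a).subtype
        (Submodule.injective_subtype _)
      -- `j`
      have hj : ∃ j : CharacterModule (coinv a) →ₗ[R] CharacterModule M,
          ∀ c (x : coinv a), j c (x : M) = c x := by
        have hker : LinearMap.ker (CharacterModule.dual (coinv a).subtype) ≤
            LinearMap.ker (e E a) := by
          intro χ hχ
          rw [LinearMap.mem_ker] at hχ ⊢
          refine e_eq_zero E a hcoassoc χ fun m hm => ?_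
          exact DFunLike.congr_fun hχ ⟨m, hm⟩
        let q := (CharacterModule.dual (coinv a).subtype).quotKerEquivOfSurjective hres
        refine ⟨(Submodule.liftQ _ (e E a) hker) ∘ₗ q.symm.toLinearMap, fun c x => ?_⟩
        obtain ⟨χ, rfl⟩ := hres c
        have : q.symm (CharacterModule.dual (coinv a).subtype χ) = Submodule.Quotient.mk χ := by
          rw [LinearEquiv.symm_apply_eq]
          rfl
        show (Submodule.liftQ _ (e E a) hker) (q.symm (CharacterModule.dual
          (coinv a).subtype χ)) x = χ x
        rw [this]
        exact e_eq_of_mem E a χ x.2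
      obtain ⟨j, hj⟩ := hj
      let J : CharacterModule (S ⊗[R] M) := CharacterModule.uncurry (j ∘ₗ ψ')
      refine ⟨CharacterModule.dual (a.restrictScalars R) J, ?_⟩
      ext z
      induction z with
      | zero => rw [map_zero, map_zero]
      | add x y hx hy => rw [map_add, map_add, hx, hy]
      | tmul s x =>
        show J (a (s • (x : M))) = ψ (s ⊗ₜ x)
        rw [map_smul, (mem_coinv a).1 x.2, TensorProduct.smul_tmul', smul_eq_mul, mul_one]
        show j (ψ' s) x = ψ (s ⊗ₜ x)
        rw [hj]
        rfl
    have := CharacterModule.dual_surjective_iff_injective.1 key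
    exact this
  · have key : Function.Injective (CharacterModule.dual ((ofCoinv a).restrictScalars R)) := by
      rw [injective_iff_map_eq_zero]
      intro χ hχ
      have h1 : ∀ (s : S) (x : coinv a), χ (s • (x : M)) = 0 := fun s x =>
        DFunLike.congr_fun hχ (s ⊗ₜ x)
      -- `χ_s`
      let μ : S →ₗ[R] CharacterModule M := CharacterModule.curry
        (CharacterModule.dual ((mulMap R S M).restrictScalars R) χ)
      have hμ : ∀ s m, μ s m = χ (s • m) := fun s m => rfl
      have h2 : ∀ s, e E a (μ s) = 0 := fun s =>
        e_eq_zero E a hcoassoc (μ s) fun m hm => h1 s ⟨m, hm⟩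
      let Ψ : CharacterModule (S ⊗[R] (S ⊗[R] M)) := CharacterModule.uncurry (sig E ∘ₗ μ)
      have h3 : ∀ z : S ⊗[R] M, Ψ (LinearMap.lTensor S (TensorProduct.mk R S M 1) z) =
          χ (mulMap R S M z) := by
        intro z
        induction z with
        | zero => rw [map_zero, map_zero, map_zero, map_zero]
        | add x y hx hy => rw [map_add, map_add, map_add, map_add, hx, hy]
        | tmul s m =>
          rw [LinearMap.lTensor_tmul, mulMap_tmul]
          show sig E (μ s) (1 ⊗ₜ m) = _
          rw [sig_one, hμ]
      have h4 : ∀ z : S ⊗[R] M, Ψ (LinearMap.lTensor S (a.restrictScalars R) z) = 0 := by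
        intro z
        induction z with
        | zero => rw [map_zero, map_zero]
        | add x y hx hy => rw [map_add, map_add, hx, hy, add_zero]
        | tmul s m =>
          rw [LinearMap.lTensor_tmul]
          show sig E (μ s) (a m) = 0
          exact DFunLike.congr_fun (h2 s) m
      ext m
      have h5 := h3 (a m)
      rw [← hcoassoc, h4, hcounit] at h5
      exact h5.symm
    exact CharacterModule.dual_injective_iff_surjective.1 key

end Main

/-- **Descent along universally injective ring maps.** -/
theorem ofCoinv_bijective_of_univInjective {R S : Type u} {M : Type w} [CommRing R] [CommRing S]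
    [Algebra R S] (h : Pi1.UnivInjective R S) [AddCommGroup M] [Module R M] [Module S M]
    [IsScalarTower R S M] (a : M →ₗ[S] S ⊗[R] M) (hcounit : ∀ m, mulMap R S M (a m) = m)
    (hcoassoc : ∀ m, LinearMap.lTensor S (a.restrictScalars R) (a m) =
      LinearMap.lTensor S (TensorProduct.mk R S M 1) (a m)) :
    Function.Bijective (ofCoinv a) := by
  obtain ⟨E⟩ := exists_ext h
  exact ofCoinv_bijective E a hcounit hcoassoc

end Groth.Agent.Desc.UnivInjCoact
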