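import Groth.Agent.Desc.SecDataGen
import Groth.Agent.Desc.UnivInjCoact

/-!
# Full faithfulness of module descent along universally injective ring maps
-/

set_option autoImplicit false
set_option backward.isDefEq.respectTransparency false
set_option backward.isDefEq.respectTransparency.types false
open CategoryTheory Opposite Bicategory TensorProduct
universe w t v' v u' u
open _root_.Desc

namespace Groth.Agent.Desc.UnivInjFF

open Pseudofunctor Groth.Agent.Desc.SecD Groth.Agent.Desc.RingModPF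

section Alg

variable {R S : Type u} [CommRing R] [CommRing S] [Algebra R S]

theorem one_tmul_injective (h : Pi1.UnivInjective R S) (N : Type u) [AddCommGroup N] [Module R N] :
    Function.Injective (fun n : N => (1 : S) ⊗ₜ[R] n) := by
  have h1 : Function.Injective ((TensorProduct.comm R N S).toLinearMap ∘ₗ
      LinearMap.lTensor N (Algebra.linearMap R S) ∘ₗ (TensorProduct.rid R N).symm.toLinearMap) :=
    (TensorProduct.comm R N S).injective.comp ((h N).comp (TensorProduct.rid R N).symm.injective)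
  intro x y hxy
  refine h1 ?_
  have h2 : ∀ n : N, ((TensorProduct.comm R N S).toLinearMap ∘ₗ
      LinearMap.lTensor N (Algebra.linearMap R S) ∘ₗ (TensorProduct.rid R N).symm.toLinearMap) n =
        (1 : S) ⊗ₜ[R] n := by
    intro n
    simp
  rw [h2, h2]
  exact hxy

theorem univInjective_of_one_tmul
    (h : ∀ (N : Type u) [AddCommGroup N] [Module R N],
      Function.Injective (fun n : N => (1 : S) ⊗ₜ[R] n)) : Pi1.UnivInjective R S := by
  intro N _ _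
  have h1 : (fun n : N => (1 : S) ⊗ₜ[R] n) ∘ (TensorProduct.rid R N) =
      (TensorProduct.comm R N S) ∘ LinearMap.lTensor N (Algebra.linearMap R S) := by
    funext z
    obtain ⟨n, rfl⟩ := (TensorProduct.rid R N).symm.surjective z
    simp
  have h2 : Function.Injective ((TensorProduct.comm R N S) ∘
      LinearMap.lTensor N (Algebra.linearMap R S)) := by
    rw [← h1]
    exact (h N).comp (TensorProduct.rid R N).injective
  exact h2.of_comp

theorem bijective_of_lTensor_bijective (h : Pi1.UnivInjective R S) {N N' : Type u}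
    [AddCommGroup N] [Module R N] [AddCommGroup N'] [Module R N'] (u : N →ₗ[R] N')
    (hu : Function.Bijective (u.lTensor S)) : Function.Bijective u := by
  constructor
  · intro x y hxy
    refine one_tmul_injective h N (hu.1 ?_)
    show (1 : S) ⊗ₜ[R] u x = (1 : S) ⊗ₜ[R] u y
    rw [hxy]
  · rw [← LinearMap.range_eq_top]
    by_contra hne
    obtain ⟨y, hy⟩ : ∃ y, y ∉ LinearMap.range u := by
      by_contra hcon
      push Not at hcon
      exact hne (eq_top_iff.2 fun y _ => hcon y)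
    let q := (LinearMap.range u).mkQ
    have h1 : q y ≠ 0 := by
      intro h0
      exact hy ((Submodule.Quotient.mk_eq_zero _).1 h0)
    refine h1 (one_tmul_injective h _ ?_)
    show (1 : S) ⊗ₜ[R] q y = (1 : S) ⊗ₜ[R] (0 : N' ⧸ LinearMap.range u)
    rw [TensorProduct.tmul_zero]
    obtain ⟨z, hz⟩ := hu.2 ((1 : S) ⊗ₜ[R] y)
    have h2 : q.lTensor S (u.lTensor S z) = (1 : S) ⊗ₜ[R] q y := by
      rw [hz, LinearMap.lTensor_tmul]
    rw [← h2, ← LinearMap.comp_apply, ← LinearMap.lTensor_comp]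
    have h3 : q ∘ₗ u = 0 := by
      ext x
      exact (Submodule.Quotient.mk_eq_zero _).2 ⟨x, rfl⟩
    rw [h3, LinearMap.lTensor_zero, LinearMap.zero_apply]

end Alg

theorem coactEff_of_univInjective {R S : Type u} [CommRing R] [CommRing S] (φ : R →+* S)
    (h : letI := φ.toAlgebra; Pi1.UnivInjective R S) : CoactEff.{u} φ := by
  let _ : Algebra R S := φ.toAlgebra
  intro M _ _ _ _ a h1 h2
  exact UnivInjCoact.ofCoinv_bijective_of_univInjective h a h1 h2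

/-- The comparison of two base changes with a common target, along a universally injective map. -/
theorem exists_eq_of_isBC {R S : Type u} {N N' P : Type u} [CommRing R] [CommRing S]
    [AddCommGroup N] [AddCommGroup N'] [AddCommGroup P] (φ : R →+* S)
    (h : letI := φ.toAlgebra; Pi1.UnivInjective R S)
    {iN : Module R N} {iN' : Module R N'} {iP : Module S P} {s : N →+ P} {s' : N' →+ P}
    (hs : IsBC φ iN iP s) (hs' : IsBC φ iN' iP s') (hs'inj : Function.Injective s')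
    (hle : ∀ n, ∃ n', s' n' = s n) (n' : N') : ∃ n, s n = s' n' := by
  let _ : Algebra R S := φ.toAlgebra
  obtain ⟨h1, h2⟩ := hs
  obtain ⟨h3, h4⟩ := hs'
  choose v hv using hle
  let u : N →ₗ[R] N' :=
    { toFun := v
      map_add' := fun x y => hs'inj (by rw [map_add, hv, hv, hv, map_add])
      map_smul' := fun r x => hs'inj (by rw [RingHom.id_apply, h3, hv, hv, h1]) }
  have key : (VarietyB.BCAlg.bc (⟨⟨s, map_add _⟩, h1⟩ : N →ₛₗ[algebraMap R S] P) : _ → _) =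
      VarietyB.BCAlg.bc (⟨⟨s', map_add _⟩, h3⟩ : N' →ₛₗ[algebraMap R S] P) ∘ u.lTensor S := by
    funext y
    exact VarietyB.BCAlg.bc_comm (⟨⟨s, map_add _⟩, h1⟩ : N →ₛₗ[algebraMap R S] P)
      (⟨⟨s', map_add _⟩, h3⟩ : N' →ₛₗ[algebraMap R S] P) u LinearMap.id
      (fun n => (hv n).symm) y
  have h5 : Function.Bijective (VarietyB.BCAlg.bc (⟨⟨s, map_add _⟩, h1⟩ :
      N →ₛₗ[algebraMap R S] P) : _ → _) := h2
  rw [key] at h5
  have hu : Function.Bijective (u.lTensor S) := (Function.Bijective.of_comp_iff' h4 _).1 h5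
  obtain ⟨n, hn⟩ := (bijective_of_lTensor_bijective h u hu).2 n'
  exact ⟨n, by rw [← hn]; exact (hv n).symm⟩

section Abstract

variable {C : Type u} [Category.{v} C] {F : Pseudofunctor (LocallyDiscrete Cᵒᵖ) Cat.{v', u'}}
  (σ : SecData.{w} F) {X S : C} {f : X ⟶ S}

theorem dHom_ofObj (G : F.obj (.mk (op S))) {Y : C} (f₁ f₂ : Y ⟶ X) (hf : f₁ ≫ f = f₂ ≫ f) :
    SecData.dHom ((F.toDescentData (fun _ : PUnit.{t + 1} => f)).obj G) f₁ f₂ hf =
      SecData.cInv f f₁ (f₁ ≫ f) rfl G ≫ SecData.cHom f f₂ (f₁ ≫ f) hf.symm G :=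
  rfl

theorem δ_unit_unit (G : F.obj (.mk (op S))) {Y : C} (f₁ f₂ : Y ⟶ X) (hf : f₁ ≫ f = f₂ ≫ f)
    (n : (σ.Γ S).obj G) :
    σ.δ ((F.toDescentData (fun _ : PUnit.{t + 1} => f)).obj G) f₁ f₂ hf
      (σ.unit f₁ _ (σ.unit f G n)) = σ.unit f₂ _ (σ.unit f G n) := by
  have e : ∀ y, σ.δ ((F.toDescentData (fun _ : PUnit.{t + 1} => f)).obj G) f₁ f₂ hf y =
      ((σ.Γ Y).map (SecData.cHom f f₂ (f₁ ≫ f) hf.symm G)).hom
        (((σ.Γ Y).map (SecData.cInv f f₁ (f₁ ≫ f) rfl G)).hom y) := by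
    intro y
    rw [← LinearMap.comp_apply, ← ModuleCat.hom_comp, ← Functor.map_comp]
    rfl
  exact (e _).trans ((congrArg (fun z => ((σ.Γ Y).map
    (SecData.cHom f f₂ (f₁ ≫ f) hf.symm G)).hom z) (σ.cInv_unit_unit f f₁ (f₁ ≫ f) rfl G n)).trans
      (σ.cHom_unit f f₂ (f₁ ≫ f) hf.symm G n))

/-- A morphism of descent data is compatible with the gluing maps on sections. -/
theorem δ_map {D D' : F.DescentData (fun _ : PUnit.{t + 1} => f)} (H : D ⟶ D') {Y : C}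
    (f₁ f₂ : Y ⟶ X) (hf : f₁ ≫ f = f₂ ≫ f) (x : (σ.Γ X).obj (D.obj PUnit.unit))
    (hx : σ.δ D f₁ f₂ hf (σ.unit f₁ _ x) = σ.unit f₂ _ x) :
    σ.δ D' f₁ f₂ hf (σ.unit f₁ _ (((σ.Γ X).map (H.hom PUnit.unit)).hom x)) =
      σ.unit f₂ _ (((σ.Γ X).map (H.hom PUnit.unit)).hom x) := by
  have hcomm : (F.map f₁.op.toLoc).toFunctor.map (H.hom PUnit.unit) ≫ SecData.dHom D' f₁ f₂ hf =
      SecData.dHom D f₁ f₂ hf ≫ (F.map f₂.op.toLoc).toFunctor.map (H.hom PUnit.unit) :=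
    H.comm (f₁ ≫ f) f₁ f₂ rfl hf.symm
  have h1 := congrArg (fun z => ((σ.Γ Y).map z).hom (σ.unit f₁ _ x)) hcomm
  simp only [Functor.map_comp, ModuleCat.hom_comp, LinearMap.comp_apply] at h1
  rw [σ.map_unit] at h1
  have hx' : ((σ.Γ Y).map (SecData.dHom D f₁ f₂ hf)).hom (σ.unit f₁ (D.obj PUnit.unit) x) =
    σ.unit f₂ (D.obj PUnit.unit) x := hx
  rw [hx', σ.map_unit] at h1
  exact h1

/-- Fullness, abstract form. -/
theorem exists_map_eq (G G' : F.obj (.mk (op S))) (hG : σ.Free f G)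
    (hG' : ∀ x : (σ.Γ X).obj ((F.map f.op.toLoc).toFunctor.obj G'),
      (∀ {Y : C} (f₁ f₂ : Y ⟶ X) (hf : f₁ ≫ f = f₂ ≫ f),
        σ.δ ((F.toDescentData (fun _ : PUnit.{t + 1} => f)).obj G') f₁ f₂ hf (σ.unit f₁ _ x) =
          σ.unit f₂ _ x) → ∃ g, σ.unit f G' g = x)
    (hinj : Function.Injective (σ.unit f G'))
    (hfull : ∀ s : (σ.Γ S).obj G →ₗ[σ.O.obj (op S)] (σ.Γ S).obj G', ∃ g : G ⟶ G',
      ∀ y, ((σ.Γ S).map g).hom y = s y)
    (H : (F.toDescentData (fun _ : PUnit.{t + 1} => f)).obj G ⟶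
      (F.toDescentData (fun _ : PUnit.{t + 1} => f)).obj G') :
    ∃ g : G ⟶ G', (F.toDescentData (fun _ : PUnit.{t + 1} => f)).map g = H := by
  have h1 : ∀ y : (σ.Γ S).obj G, ∃ g, σ.unit f G' g =
      ((σ.Γ X).map (H.hom PUnit.unit)).hom (σ.unit f G y) := by
    intro y
    refine hG' _ fun {Y} f₁ f₂ hf => ?_
    exact δ_map σ H f₁ f₂ hf (σ.unit f G y) (δ_unit_unit σ G f₁ f₂ hf y)
  choose s hs using h1
  let s' : (σ.Γ S).obj G →ₗ[σ.O.obj (op S)] (σ.Γ S).obj G' :=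
    { toFun := s
      map_add' := fun x y => hinj (by rw [map_add, hs, hs, hs, map_add, map_add])
      map_smul' := fun r x => hinj (by
        rw [RingHom.id_apply, σ.unit_smul, hs, hs, σ.unit_smul]
        exact map_smul _ _ _) }
  obtain ⟨g, hg⟩ := hfull s'
  refine ⟨g, ?_⟩
  apply DescentData.hom_ext
  intro i
  obtain rfl : i = PUnit.unit := rfl
  refine hG.ext f _ _ _ fun y => ?_
  have h2 : ((σ.Γ X).map ((F.map f.op.toLoc).toFunctor.map g)).hom (σ.unit f G y) =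
      ((σ.Γ X).map (H.hom PUnit.unit)).hom (σ.unit f G y) := by
    rw [σ.map_unit, hg, ← hs]
    rfl
  exact h2

/-- Faithfulness, abstract form. -/
theorem map_injective (G G' : F.obj (.mk (op S))) 
    (hinj : Function.Injective (σ.unit f G'))
    (hfaith : ∀ g g' : G ⟶ G', (∀ y, ((σ.Γ S).map g).hom y = ((σ.Γ S).map g').hom y) → g = g')
    (g g' : G ⟶ G') (h : (F.toDescentData (fun _ : PUnit.{t + 1} => f)).map g =
      (F.toDescentData (fun _ : PUnit.{t + 1} => f)).map g') : g = g' := by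
  refine hfaith g g' fun y => hinj ?_
  rw [← σ.map_unit, ← σ.map_unit]
  have h1 : (F.map f.op.toLoc).toFunctor.map g = (F.map f.op.toLoc).toFunctor.map g' :=
    congrArg (fun z => DescentData.Hom.hom z PUnit.unit) h
  rw [h1]

end Abstract

section Ring

variable {R S : CommRingCat.{u}} (φ : R ⟶ S)

/-- Sub-datum for `ringModPF`. -/
theorem exists_sub_ring (hφ : CoactEff.{u} φ.hom)
    (D : ringModPF.{u}.DescentData (fun _ : PUnit.{u + 1} => φ.op)) :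
    ∃ (B : CommRingCat.{u}ᵒᵖ) (p₁ p₂ : B ⟶ op S) (hp : p₁ ≫ φ.op = p₂ ≫ φ.op)
      (N : AddSubgroup ((sec.Γ (op S)).obj (SecData.dObj D))) (iN : Module R N),
      (∀ (r : R) (n : N), ((r • n : N) : (sec.Γ (op S)).obj (SecData.dObj D)) =
        φ.hom r • (n : (sec.Γ (op S)).obj (SecData.dObj D))) ∧
      (∀ m, m ∈ N ↔ sec.δ D p₁ p₂ hp (sec.unit p₁ _ m) = sec.unit p₂ _ m) ∧
      IsBC φ.hom iN inferInstance N.subtype := by
  obtain ⟨B, ι₁, ι₂, hB⟩ : ∃ (B : CommRingCat.{u}) (ι₁ : S ⟶ B) (ι₂ : S ⟶ B), IsPushout φ φ ι₁ ι₂ :=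
    ⟨_, _, _, IsPushout.of_hasPushout φ φ⟩
  obtain ⟨T, κ₁, κ₂, hT⟩ : ∃ (T : CommRingCat.{u}) (κ₁ : S ⟶ T) (κ₂ : B ⟶ T),
      IsPushout φ (φ ≫ ι₁) κ₁ κ₂ :=
    ⟨_, _, _, IsPushout.of_hasPushout φ (φ ≫ ι₁)⟩
  have hp : ι₁.op ≫ φ.op = ι₂.op ≫ φ.op := by rw [← op_comp, ← op_comp, hB.w]
  have hY : ∀ {T' : CommRingCat.{u}ᵒᵖ} (f₁ f₂ : T' ⟶ op S), f₁ ≫ φ.op = f₂ ≫ φ.op →
      ∃ l : T' ⟶ op B, l ≫ ι₁.op = f₁ ∧ l ≫ ι₂.op = f₂ :=
    fun {T'} f₁ f₂ h => ⟨(hB.desc f₁.unop f₂.unop (by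
      rw [← Quiver.Hom.unop_op φ, ← unop_comp, ← unop_comp]
      exact congrArg Quiver.Hom.unop h)).op,
      Quiver.Hom.unop_inj (hB.inl_desc _ _ _), Quiver.Hom.unop_inj (hB.inr_desc _ _ _)⟩
  have hq : κ₁.op ≫ φ.op = κ₂.op ≫ ι₁.op ≫ φ.op := by
    rw [← op_comp, ← op_comp, ← op_comp, hT.w]
  have hq₁₂ : κ₁.op ≫ φ.op = (κ₂.op ≫ ι₁.op) ≫ φ.op := by rw [hq, Category.assoc]
  have hq₁₃ : κ₁.op ≫ φ.op = (κ₂.op ≫ ι₂.op) ≫ φ.op := by rw [hq, Category.assoc, hp]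
  obtain ⟨Δ, hΔ₁, hΔ₂⟩ := hY (𝟙 (op S)) (𝟙 (op S)) rfl
  obtain ⟨q₁₂, h₁₂, h₁₂'⟩ := hY κ₁.op (κ₂.op ≫ ι₁.op) hq₁₂
  obtain ⟨q₁₃, h₁₃, h₁₃'⟩ := hY κ₁.op (κ₂.op ≫ ι₂.op) hq₁₃
  refine ⟨op B, ι₁.op, ι₂.op, hp, sec.exists_sub_of D ι₁.op ι₂.op hp Δ hΔ₁ hΔ₂ κ₁.op
    (κ₂.op ≫ ι₁.op) (κ₂.op ≫ ι₂.op) κ₂.op rfl rfl q₁₂ h₁₂ h₁₂' q₁₃ h₁₃ h₁₃' hφ
    (IsBC.of_isPushout hB (isBC_unitHom _ _)) (unitHom_id_injective _) ?_⟩
  exact (sec.isBC_trans ι₂.op κ₂.op _ rfl (SecData.dObj D) (isBC_unitHom _ _)).of_isPushout hT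

variable (h : letI := φ.hom.toAlgebra; Pi1.UnivInjective R S)

include h in
theorem unitHom_injective (N : ModuleCat.{u} R) : Function.Injective (unitHom φ.op N) := by
  obtain ⟨h1, h2⟩ := isBC_unitHom φ.op N
  let _ : Algebra R S := φ.hom.toAlgebra
  intro x y hxy
  refine one_tmul_injective h N (h2.1 ?_)
  show VarietyB.BCAlg.bc (⟨⟨unitHom φ.op N, map_add _⟩, h1⟩ : N →ₛₗ[algebraMap R S] pb φ.op N)
    (1 ⊗ₜ x) = VarietyB.BCAlg.bc (⟨⟨unitHom φ.op N, map_add _⟩, h1⟩ :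
      N →ₛₗ[algebraMap R S] pb φ.op N) (1 ⊗ₜ y)
  rw [VarietyB.BCAlg.bc_tmul, VarietyB.BCAlg.bc_tmul]
  exact congrArg (fun z => (1 : S) • z) hxy

include h in
/-- Compatible elements of `S ⊗ N` come from `N`. -/
theorem exists_unit_eq (N : ModuleCat.{u} R)
    (x : (sec.Γ (op S)).obj ((ringModPF.{u}.map φ.op.op.toLoc).toFunctor.obj N))
    (hx : ∀ {Y : CommRingCat.{u}ᵒᵖ} (f₁ f₂ : Y ⟶ op S) (hf : f₁ ≫ φ.op = f₂ ≫ φ.op),
      sec.δ ((ringModPF.{u}.toDescentData (fun _ : PUnit.{u + 1} => φ.op)).obj N) f₁ f₂ hf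
        (sec.unit f₁ _ x) = sec.unit f₂ _ x) :
    ∃ n, sec.unit φ.op N n = x := by
  obtain ⟨B, p₁, p₂, hp, N', iN', hN', hmem, hbc⟩ := exists_sub_ring φ
    (coactEff_of_univInjective φ.hom h)
    ((ringModPF.{u}.toDescentData (fun _ : PUnit.{u + 1} => φ.op)).obj N)
  exact exists_eq_of_isBC φ.hom h (isBC_unitHom φ.op N) hbc Subtype.val_injective
    (fun n => ⟨⟨_, (hmem _).2 (δ_unit_unit sec N p₁ p₂ hp n)⟩, rfl⟩) ⟨x, (hmem x).2 (hx p₁ p₂ hp)⟩

end Ring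

end Groth.Agent.Desc.UnivInjFF
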